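import Cfsg.Agent.FGS74.Dlen.Sub
import Cfsg.Agent.Perm.Module

/-!
# Facts on a simple Weil datum with a two-group

Kernels, fixed subgroups, the rank of an involution, rank bounds along chains, and the predicate
`Fail d k`.
-/

set_option autoImplicit false
set_option linter.style.haveILetI false

open Module
open scoped commutatorElement

namespace CfsgLib.FGS74.Dlen

open CfsgLib.FGS74.Bry CfsgLib.FGS74.GrossLen

universe u v w x

section Rank

variable {K : Type u} [Field K] {V : Type v} [AddCommGroup V] [Module K V] [FiniteDimensional K V]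

/-- The rank of a power of an operator whose `L`-th power has rank at most `j`. -/
theorem rk_bound (N : Module.End K V) {a L j : ℕ} (haL : a ≤ L) (hj : rk N L ≤ j) :
    L * rk N a ≤ (L - a) * finrank K V + a * j := by
  obtain ⟨δ, -, hup, hdown⟩ := rk_chain N a
  have h1 := hup 0 (Nat.zero_le _)
  have h2 := hdown (L - a)
  rw [rk_zero, Nat.sub_zero, add_zero] at h1
  rw [Nat.add_sub_cancel' haL] at h2
  obtain ⟨b, rfl⟩ : ∃ b, L = a + b := ⟨L - a, by omega⟩
  rw [Nat.add_sub_cancel_left] at h2 ⊢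
  have h3 : a * rk N a ≤ a * (j + b * δ) := Nat.mul_le_mul_left _ (by omega)
  have h4 : b * (rk N a + a * δ) ≤ b * finrank K V := Nat.mul_le_mul_left _ (by omega)
  linarith

/-- The rank of an operator killing a hyperplane. -/
theorem finrank_range_le_one_of_ker {X : Module.End K V} {φ : Dual K V} (hφ : φ ≠ 0)
    (hX : ∀ v ∈ LinearMap.ker φ, X v = 0) : finrank K (LinearMap.range X) ≤ 1 := by
  have h1 := X.finrank_range_add_finrank_ker
  have h2 := φ.finrank_range_add_finrank_ker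
  have h3 : finrank K (LinearMap.ker φ) ≤ finrank K (LinearMap.ker X) :=
    Submodule.finrank_mono fun v hv => LinearMap.mem_ker.2 (hX v hv)
  have h4 : finrank K (LinearMap.range φ) ≤ 1 :=
    (Submodule.finrank_le _).trans (finrank_self K).le
  omega

end Rank

section Group

variable {K : Type u} [Field K] [CharP K 2] {V : Type v} [AddCommGroup V] [Module K V] [Nontrivial V]
  {G : Type x} [Group G]

theorem charP_end : CharP (Module.End K V) 2 :=
  charP_of_injective_algebraMap (FaithfulSMul.algebraMap_injective K _) 2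

theorem ψ_pow_sub (ψ : G →* Module.End K V) (g : G) (i : ℕ) :
    (ψ g - 1) ^ 2 ^ i = ψ (g ^ 2 ^ i) - 1 := by
  haveI := charP_end (K := K) (V := V)
  rw [sub_pow_char_pow_of_commute _ _ (Commute.one_right _), one_pow, map_pow]

/-- The product along the powers of an element lands in the chain. -/
theorem pow_mem_chain (ψ : G →* Module.End K V) : ∀ (j : ℕ) (P : Subgroup G) (g : G),
    (∀ i < j, g ^ 2 ^ i ∈ der P i) → ∀ (Y : Submodule K V), ∀ y ∈ Y,
    ((ψ g - 1) ^ (2 ^ j - 1) : Module.End K V) y ∈ chain ψ P j Y := by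
  intro j
  induction j with
  | zero => intro P g _ Y y hy; simpa [chain_zero] using hy
  | succ j ih =>
    intro P g hg Y y hy
    have h0 : g ∈ P := by simpa [der_zero] using hg 0 (Nat.succ_pos j)
    have h := ih ⁅P, P⁆ (g * g) (fun i hi => by
      have := hg (i + 1) (by omega)
      rw [der_succ] at this
      rwa [← pow_two, ← pow_mul, ← pow_succ']) _ _ (mem_mcomm (ψ := ψ) h0 hy)
    have h2 : (ψ (g * g) - 1) = (ψ g - 1) ^ 2 := by
      have := ψ_pow_sub ψ g 1
      rw [pow_one, pow_two g] at this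
      exact this.symm
    rw [h2, ← pow_mul] at h
    rw [chain_succ, show 2 ^ (j + 1) - 1 = 2 * (2 ^ j - 1) + 1 by
      have := Nat.one_le_two_pow (n := j); rw [pow_succ]; omega, pow_succ, Module.End.mul_apply]
    exact h

end Group

namespace Weil

variable {K : Type u} [Field K] {V : Type v} [AddCommGroup V] [Module K V] {M : Type w}
  [CommGroup M] {T : Type x} [Group T] (d : Weil K V M T)

/-- The fixed elements. -/
def fix (t : T) : Subgroup M := (d.σ t).toMonoidHom.eqLocus (MonoidHom.id M)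

theorem mem_fix {t : T} {a : M} : a ∈ d.fix t ↔ d.σ t a = a := Iff.rfl

theorem fix_mapsTo {s t : T} (h : Commute (d.σ s) (d.σ t)) {a : M} (ha : a ∈ d.fix t) :
    d.σ s a ∈ d.fix t := by
  rw [mem_fix, ← MulAut.mul_apply, ← h.eq, MulAut.mul_apply, d.mem_fix.1 ha]

/-- The fixed elements of an element of two-power order form a nondegenerate subgroup. -/
theorem fix_nd [Finite M] {t : T} {s : ℕ} (ht : d.σ t ^ 2 ^ s = 1) {a : M} (ha : a ∈ d.fix t)
    (h : ∀ k ∈ d.fix t, d.B k a = 1) : a = 1 := by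
  refine d.form.nd a fun m => ?_
  let Nm : M := ∏ i ∈ Finset.range (2 ^ s), (d.σ t ^ i) m
  have hN : Nm ∈ d.fix t := by
    have h1 := Finset.prod_range_succ' (fun i => (d.σ t ^ i) m) (2 ^ s)
    rw [Finset.prod_range_succ, ht, pow_zero] at h1
    rw [mem_fix, map_prod]
    refine Eq.trans (Finset.prod_congr rfl fun i _ => ?_) (mul_right_cancel h1).symm
    rw [pow_succ', MulAut.mul_apply]
  have hpow : ∀ i : ℕ, d.B ((d.σ t ^ i) m) a = d.B m a := by
    intro i
    induction i with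
    | zero => simp
    | succ i ih =>
      rw [pow_succ', MulAut.mul_apply]
      nth_rw 1 [← d.mem_fix.1 ha]
      rw [d.iso t, ih]
  have h2 : d.B m a ^ 2 ^ s = 1 := by
    have h3 := h Nm hN
    simp only [Nm, map_prod, MonoidHom.finsetProd_apply, hpow, Finset.prod_const,
      Finset.card_range] at h3
    exact h3
  have h4 : d.B m a ^ Nat.card M = 1 := by rw [← map_pow, pow_card_eq_one', map_one]
  have h5 := Nat.eq_one_of_dvd_coprimes ((Nat.coprime_two_left.2 (Form.odd d.form)).pow_left s)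
    (orderOf_dvd_of_pow_eq_one h2) (orderOf_dvd_of_pow_eq_one h4)
  exact orderOf_eq_one_iff.1 h5

theorem fix_eq_bot_of_inv [Finite M] {z : T} (hz : ∀ a, d.σ z a = a⁻¹) : d.fix z = ⊥ :=
  (Subgroup.eq_bot_iff_forall _).2 fun a ha =>
    d.form.eq_one_of_fix_inv (τ := d.σ z) ha (hz a)

/-- The predicate: for every fixed covector the chain on its kernel vanishes. -/
def Fail (k : ℕ) : Prop :=
  ∀ φ : Dual K V, φ ≠ 0 → (∀ t v, φ (d.ψ t v) = φ v) → chain d.ψ ⊤ k (LinearMap.ker φ) = ⊥

theorem fail_of_chain {k : ℕ} (h : chain d.ψ ⊤ k ⊤ = ⊥) : d.Fail k := fun φ _ _ =>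
  le_bot_iff.1 ((chain_mono le_rfl le_top k).trans h.le)

/-- Two fixed covectors make the chain vanish on everything. -/
theorem chain_of_two {k : ℕ} (h : d.Fail k) {φ φ' : Dual K V}
    (hφ : ∀ t v, φ (d.ψ t v) = φ v) (hφ' : ∀ t v, φ' (d.ψ t v) = φ' v) (h0 : φ ≠ 0)
    (hne : ∀ r : K, φ' ≠ r • φ) : chain d.ψ ⊤ k ⊤ = ⊥ := by
  have h1 := h φ h0 hφ
  have h2 := h φ' (fun e => hne 0 (by rw [e, zero_smul])) hφ'
  refine chain_eq_bot_of_ops fun X hX v _ => ?_
  have key : ∀ (k : ℕ) (P : Subgroup T) (Y : Submodule K V), ∀ X ∈ chainOps d.ψ P k, ∀ y ∈ Y,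
      X y ∈ chain d.ψ P k Y := by
    intro k
    induction k with
    | zero => rintro P Y _ rfl y hy; exact hy
    | succ k ih =>
      rintro P Y _ ⟨g, hg, X, hX, rfl⟩ y hy
      exact ih ⁅P, P⁆ _ X hX _ (mem_mcomm (ψ := d.ψ) hg hy)
  have hk1 : ∀ y ∈ LinearMap.ker φ, X y = 0 := fun y hy =>
    (Submodule.eq_bot_iff _).1 h1 _ (key k ⊤ _ X hX y hy)
  have hk2 : ∀ y ∈ LinearMap.ker φ', X y = 0 := fun y hy =>
    (Submodule.eq_bot_iff _).1 h2 _ (key k ⊤ _ X hX y hy)
  obtain ⟨u, hu, hu'⟩ : ∃ u, φ u = 0 ∧ φ' u ≠ 0 := by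
    by_contra! hall
    obtain ⟨w, hw⟩ : ∃ w, φ w ≠ 0 := by
      by_contra! h'
      exact h0 (LinearMap.ext h')
    refine hne (φ' w / φ w) (LinearMap.ext fun y => ?_)
    have := hall (y - (φ y / φ w) • w) (by rw [map_sub, map_smul, smul_eq_mul, div_mul_cancel₀ _ hw, sub_self])
    rw [map_sub, map_smul, smul_eq_mul, sub_eq_zero] at this
    rw [this, LinearMap.smul_apply, smul_eq_mul]
    ring
  have h3 := hk2 (v - (φ' v / φ' u) • u) (LinearMap.mem_ker.2 (by
    rw [map_sub, map_smul, smul_eq_mul, div_mul_cancel₀ _ hu', sub_self]))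
  rwa [map_sub, map_smul, hk1 u (LinearMap.mem_ker.2 hu), smul_zero, sub_zero] at h3

/-- A covector fixed by the group kills the displacements. -/
theorem range_le_ker {φ : Dual K V} (hφ : ∀ t v, φ (d.ψ t v) = φ v) (t : T) (v : V) :
    (d.ψ t - 1) v ∈ LinearMap.ker φ := by
  rw [LinearMap.mem_ker, LinearMap.sub_apply, Module.End.one_apply, map_sub, hφ, sub_self]

section Two

variable [CharP K 2] [Nontrivial V]

theorem exists_fixed [Finite T] (hT : IsPGroup 2 T) (W : Submodule K V)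
    (hW : ∀ t, ∀ v ∈ W, d.ψ t v ∈ W) (h0 : W ≠ ⊥) : ∃ v ∈ W, v ≠ 0 ∧ ∀ t, d.ψ t v = v := by
  haveI := Fact.mk Nat.prime_two
  exact CfsgLib.Perm.Module.exists_fixed_vector hT d.ψ W hW h0

theorem exists_fixed_covector [Finite T] [FiniteDimensional K V] (hT : IsPGroup 2 T) :
    ∃ φ : Dual K V, φ ≠ 0 ∧ ∀ t v, φ (d.ψ t v) = φ v := by
  obtain ⟨φ, -, h0, hφ⟩ := d.dual.exists_fixed hT ⊤ (fun _ _ _ => trivial) top_ne_bot
  refine ⟨φ, h0, fun t v => ?_⟩
  nth_rw 1 [← hφ t]
  rw [dual_ψ, d.ψ_inv_apply]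

variable [Fintype M]

theorem σ_apply_of_ψ {t : T} (h : d.ψ t = 1) (a : M) : d.σ t a = a := by
  classical
  obtain ⟨c, -, hc⟩ := d.equiv t a
  rw [h, one_mul, mul_one] at hc
  by_contra hne
  have h1 := Fintype.linearIndependent_iff.1 (linearIndependent (d := d))
    (fun i => (if i = a then (1 : K) else 0) - if i = d.σ t a then c else 0) (by
      simp only [sub_smul, ite_smul, zero_smul, Finset.sum_sub_distrib, Finset.sum_ite_eq',
        Finset.mem_univ, if_true, one_smul]
      rw [← hc, sub_self]) a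
  rw [if_pos rfl, if_neg (Ne.symm hne), sub_zero] at h1
  exact one_ne_zero h1

variable (hT : IsPGroup 2 T)
include hT

omit [Fintype M] in
theorem commute_of_fix {t : T} {a : M} (ha : d.σ t a = a) : d.ψ t * d.ρ a = d.ρ a * d.ψ t := by
  obtain ⟨c, hc0, hc⟩ := d.equiv t a
  rw [ha] at hc
  have hpow : ∀ j : ℕ, d.ψ (t ^ j) * d.ρ a = c ^ j • (d.ρ a * d.ψ (t ^ j)) := by
    intro j
    induction j with
    | zero => simp
    | succ j ih =>
      rw [pow_succ t, map_mul, mul_assoc, hc, mul_smul_comm, ← mul_assoc, ih, smul_mul_assoc,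
        smul_smul, mul_assoc, pow_succ']
  obtain ⟨m, hm⟩ := hT t
  have h1 := hpow (2 ^ m)
  rw [hm, map_one, one_mul, mul_one] at h1
  have h2 : c ^ 2 ^ m = 1 := by
    have h3 : (c ^ 2 ^ m - 1) • d.ρ a = 0 := by rw [sub_smul, one_smul, ← h1, sub_self]
    exact sub_eq_zero.1 ((smul_eq_zero.1 h3).resolve_right (d.ρ_ne_zero a))
  have h4 : c = 1 := sub_eq_zero.1 (pow_eq_zero_iff (Nat.two_pow_pos m).ne' |>.1 (by
    rw [sub_pow_char_pow, h2, one_pow, sub_self]))
  rw [hc, h4, one_smul]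

omit [Fintype M] in
theorem ψ_eq_one (hs : d.Simple) {t : T} (ht : d.σ t = 1) : d.ψ t = 1 := by
  obtain ⟨r, hr⟩ := hs (d.ψ t) fun a => (d.commute_of_fix hT (by rw [ht, MulAut.one_apply])).symm
  obtain ⟨m, hm⟩ := hT t
  have h : (r • (1 : Module.End K V)) ^ 2 ^ m = 1 := by rw [← hr, ← map_pow, hm, map_one]
  rw [smul_pow, one_pow] at h
  have h2 : r ^ 2 ^ m = 1 := by
    obtain ⟨v, hv⟩ := exists_ne (0 : V)
    have h3 := LinearMap.congr_fun h v
    rw [LinearMap.smul_apply, Module.End.one_apply] at h3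
    have h4 : (r ^ 2 ^ m - 1) • v = 0 := by rw [sub_smul, one_smul, h3, sub_self]
    exact sub_eq_zero.1 ((smul_eq_zero.1 h4).resolve_right hv)
  have h5 : r = 1 := sub_eq_zero.1 (pow_eq_zero_iff (Nat.two_pow_pos m).ne' |>.1 (by
    rw [sub_pow_char_pow, h2, one_pow, sub_self]))
  rw [hr, h5, one_smul]

/-- An operator fixing a subspace invariant under commuting operators acts trivially below. -/
theorem fixes_aux [FiniteDimensional K V] {s t : T} (hne : d.ψ t ≠ 1) (X : M) (hX : d.σ t X = X)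
    (hfix : d.ψ s * (d.ψ t - 1) = d.ψ t - 1) (hsX : d.σ t (d.σ s X) = d.σ s X)
    {k : M} (hk : d.σ t k = k) : d.B k ((d.σ s X) * X⁻¹) = 1 := by
  set I := LinearMap.range (d.ψ t - 1) with hI
  have hI0 : I ≠ ⊥ := fun h => hne (sub_eq_zero.1 (LinearMap.range_eq_bot.1 h))
  have hinv : ∀ {a : M}, d.σ t a = a → ∀ v ∈ I, d.ρ a v ∈ I := by
    rintro a ha _ ⟨v, rfl⟩
    refine ⟨d.ρ a v, ?_⟩
    have h := LinearMap.congr_fun (d.commute_of_fix hT ha) v
    simp only [Module.End.mul_apply] at h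
    simp only [LinearMap.sub_apply, Module.End.one_apply, map_sub, h]
  have hs : ∀ v ∈ I, d.ψ s v = v := by
    rintro _ ⟨v, rfl⟩
    exact LinearMap.congr_fun hfix v
  obtain ⟨c, hc0, hc⟩ := d.equiv s X
  have hcI : ∀ v ∈ I, d.ρ X v = c • d.ρ (d.σ s X) v := fun v hv => by
    have h := LinearMap.congr_fun hc v
    simp only [Module.End.mul_apply, LinearMap.smul_apply] at h
    rwa [hs v hv, hs _ (hinv hX v hv)] at h
  obtain ⟨v, hv, hv0⟩ := Submodule.exists_mem_ne_zero_of_ne_bot hI0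
  have h1 : d.ρ k (d.ρ X v) = (d.B k X : K) • d.ρ X (d.ρ k v) := LinearMap.congr_fun (d.ρ_comm k X) v
  have h2 : d.ρ k (d.ρ (d.σ s X) v) = (d.B k (d.σ s X) : K) • d.ρ (d.σ s X) (d.ρ k v) :=
    LinearMap.congr_fun (d.ρ_comm k (d.σ s X)) v
  rw [hcI v hv, map_smul, h2, hcI _ (hinv hk v hv), smul_smul, smul_smul, mul_comm c] at h1
  have h3 : ((d.B k (d.σ s X) : K) * c - (d.B k X : K) * c) • d.ρ (d.σ s X) (d.ρ k v) = 0 := by
    rw [sub_smul, h1, sub_self]
  have h4 := (smul_eq_zero.1 h3).resolve_right (d.ρ_apply_ne_zero _ (d.ρ_apply_ne_zero _ hv0))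
  rw [sub_eq_zero, mul_left_inj' hc0] at h4
  rw [map_mul, map_inv, Units.ext h4, mul_inv_cancel]

/-- If `s` fixes the image of `t - 1` and preserves the fixed elements of `t`, it is trivial there. -/
theorem eq_of_fix_image [FiniteDimensional K V] {s t : T} (hne : d.ψ t ≠ 1)
    (hfix : d.ψ s * (d.ψ t - 1) = d.ψ t - 1) (hcomm : Commute (d.σ s) (d.σ t)) {a : M}
    (ha : d.σ t a = a) : d.σ s a = a := by
  obtain ⟨m, hm⟩ := hT t
  refine mul_inv_eq_one.1 (d.fix_nd (t := t) (s := m) (by rw [← map_pow, hm, map_one])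
    (mul_mem (d.fix_mapsTo hcomm ha) (inv_mem ha)) fun k hk =>
      d.fixes_aux hT hne a ha hfix (d.fix_mapsTo hcomm ha) hk)

omit hT

/-- The rank of an involution. -/
theorem rank_involution [FiniteDimensional K V] (hs : d.Simple) {t : T}
    (hσ : d.σ (t * t) = 1) (hψ : d.ψ (t * t) = 1) :
    finrank K V * finrank K V ≤ Nat.card (d.fix t) +
      4 * (rk (d.ψ t - 1) 1 * (finrank K V - rk (d.ψ t - 1) 1)) := by
  classical
  have hN : (d.ψ t - 1) * (d.ψ t - 1) = 0 := by
    rw [← pow_two, show 2 = 2 ^ 1 from rfl, ψ_pow_sub, pow_one, pow_two, hψ, sub_self]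
  let e := Fintype.equivFin M
  set τ := d.σ t
  have hττ : ∀ a, τ (τ a) = a := fun a => by
    rw [← MulAut.mul_apply, ← map_mul, hσ, MulAut.one_apply]
  let S : Finset M := Finset.univ.filter fun a => e a < e (τ a)
  let S' : Finset M := Finset.univ.filter fun a => e (τ a) < e a
  let C : Finset M := Finset.univ.filter fun a => τ a = a
  have hSS' : S'.card = S.card := Finset.card_nbij' (fun a => τ a) (fun a => τ a)
    (fun a ha => by simpa [S, S', hττ] using ha) (fun a ha => by simpa [S, S', hττ] using ha)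
    (fun a _ => hττ a) (fun a _ => hττ a)
  have hcard : Fintype.card M = C.card + (S.card + S'.card) := by
    rw [← Finset.card_union_of_disjoint, ← Finset.card_union_of_disjoint, ← Finset.card_univ]
    · congr 1
      ext a
      simp only [C, S, S', Finset.mem_univ, Finset.mem_union, Finset.mem_filter, true_and, true_iff]
      rcases lt_trichotomy (e a) (e (τ a)) with h | h | h
      · exact Or.inr (Or.inl h)
      · exact Or.inl (e.injective h).symm
      · exact Or.inr (Or.inr h)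
    · rw [Finset.disjoint_union_right]
      constructor <;>
      · rw [Finset.disjoint_filter]
        intro a _ h h'
        rw [h] at h'
        exact lt_irrefl _ h'
    · rw [Finset.disjoint_filter]
      exact fun a _ h h' => lt_asymm h h'
  let R := LinearMap.range (LinearMap.mulRight K (d.ψ t) ∘ₗ bracket (d.ψ t - 1))
  have hmem : ∀ a, ∃ c : K, c ≠ 0 ∧ c • d.ρ (τ a) - d.ρ a ∈ R := fun a => by
    obtain ⟨c, hc0, hc⟩ := d.equiv t a
    refine ⟨c, hc0, d.ρ a, ?_⟩
    have hb : bracket (d.ψ t - 1) (d.ρ a) = d.ψ t * d.ρ a - d.ρ a * d.ψ t := by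
      rw [bracket_apply, sub_mul, mul_sub, one_mul, mul_one, sub_sub_sub_cancel_right]
    have hψ' : d.ψ t * d.ψ t = 1 := by rw [← map_mul, hψ]
    rw [LinearMap.comp_apply, LinearMap.mulRight_apply, hb, sub_mul, hc, smul_mul_assoc, mul_assoc,
      mul_assoc, hψ', mul_one, mul_one]
  let Sp : Submodule K (Module.End K V) := Submodule.span K (↑((C ∪ S).image d.ρ) : Set (Module.End K V))
  have htop : ⊤ ≤ R ⊔ Sp := by
    rw [← span_eq_top d.card_ne_zero hs, Submodule.span_le]
    rintro _ ⟨a, rfl⟩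
    have hin : ∀ {b}, b ∈ C ∪ S → d.ρ b ∈ R ⊔ Sp := fun {b} hb =>
      Submodule.mem_sup_right (Submodule.subset_span (Finset.mem_image_of_mem _ hb))
    by_cases ha : a ∈ C ∪ S
    · exact hin ha
    · simp only [C, S, Finset.mem_union, Finset.mem_filter, Finset.mem_univ, true_and, not_or,
        not_lt] at ha
      have hlt : e (τ a) < e a := lt_of_le_of_ne ha.2 fun h => ha.1 (e.injective h)
      have ha' : τ a ∈ C ∪ S := by simp [S, hττ, hlt]
      obtain ⟨c, -, hc⟩ := hmem a
      have h1 := Submodule.sub_mem _ (Submodule.smul_mem _ c (hin ha'))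
        (Submodule.mem_sup_left (T := Sp) hc)
      rwa [sub_sub_cancel] at h1
  have h1 := (Submodule.finrank_mono htop).trans (Submodule.finrank_add_le_finrank_add_finrank R Sp)
  have h2 : finrank K Sp ≤ C.card + S.card :=
    (finrank_span_finset_le_card _).trans (Finset.card_image_le.trans (Finset.card_union_le _ _))
  have h3 : finrank K R ≤ 2 * (rk (d.ψ t - 1) 1 * (finrank K V - rk (d.ψ t - 1) 1)) := by
    have := finrank_range_bracket_le hN
    rw [rk, pow_one]
    refine le_trans ?_ this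
    show finrank K (LinearMap.range (LinearMap.mulRight K (d.ψ t) ∘ₗ bracket (d.ψ t - 1))) ≤ _
    rw [LinearMap.range_comp]
    exact Submodule.finrank_map_le _ _
  have hC : Nat.card (d.fix t) = C.card := by
    rw [Nat.card_eq_fintype_card]
    exact Fintype.card_of_subtype C fun a => by simp [C, mem_fix, τ]
  rw [finrank_top, Module.finrank_linearMap] at h1
  have h4 := finrank_sq d.card_ne_zero hs
  omega

/-- The rank of an inverting involution. -/
theorem rank_inverting [FiniteDimensional K V] (hs : d.Simple) {z : T} (hz : ∀ a, d.σ z a = a⁻¹)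
    (hT : IsPGroup 2 T) : 2 * rk (d.ψ z - 1) 1 + 1 = finrank K V := by
  have hzz : d.σ (z * z) = 1 := MulEquiv.ext fun a => by
    rw [map_mul, MulAut.mul_apply, hz, hz, inv_inv, MulAut.one_apply]
  have hsq : d.ψ (z * z) = 1 := d.ψ_eq_one hT hs hzz
  have hN : (d.ψ z - 1) * (d.ψ z - 1) = 0 := by
    rw [← pow_two, show 2 = 2 ^ 1 from rfl, ψ_pow_sub, pow_one, pow_two, hsq, sub_self]
  have hr2 : rk (d.ψ z - 1) 1 + rk (d.ψ z - 1) 1 ≤ finrank K V := by
    have h0 : rk (d.ψ z - 1) 2 = 0 := rk_eq_zero (by rw [pow_two, hN])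
    have := jump_antitone (d.ψ z - 1) (show 0 ≤ 1 by omega)
    rw [zero_add, rk_zero, h0] at this
    omega
  have hodd : Odd (finrank K V) := by
    have h := Form.odd d.form
    rw [Nat.card_eq_fintype_card, ← finrank_sq d.card_ne_zero hs] at h
    exact (Nat.odd_mul.1 h).1
  have h1 := d.rank_involution hs hzz hsq
  rw [d.fix_eq_bot_of_inv hz, Subgroup.card_bot] at h1
  set r := rk (d.ψ z - 1) 1
  obtain ⟨m, hm⟩ := hodd
  rw [hm] at h1 hr2 ⊢
  obtain ⟨j, hj⟩ : ∃ j, 2 * m + 1 = r + j := ⟨2 * m + 1 - r, by omega⟩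
  rw [hj, Nat.add_sub_cancel_left] at h1
  have hjr : r + 1 ≤ j := by omega
  obtain ⟨i, rfl⟩ : ∃ i, j = r + 1 + i := ⟨j - r - 1, by omega⟩
  have : i = 0 := by nlinarith
  omega

end Two

end Weil

end CfsgLib.FGS74.Dlen
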