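import Cfsg.Agent.FGS74.Dlen.Prim

/-!
# The bound for a simple Weil datum

No `Fail` at four or more; consequently `prim_bound`.
-/

set_option autoImplicit false
set_option linter.style.haveILetI false

open Module
open scoped commutatorElement

namespace CfsgLib.FGS74.Dlen

open CfsgLib.FGS74.Bry CfsgLib.FGS74.GrossLen

universe u v w x

namespace Weil

variable {K : Type u} [Field K] [CharP K 2] [IsAlgClosed K]

theorem inv_element_ne_one {V : Type v} [AddCommGroup V] [Module K V] {M : Type w} [CommGroup M]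
    [Finite M] {T : Type x} [Group T] (d : Weil K V M T) (h : 1 < Nat.card M) {z : T}
    (hz : ∀ a, d.σ z a = a⁻¹) : z ≠ 1 := by
  intro h1
  haveI : Nontrivial M := Finite.one_lt_card_iff_nontrivial.1 h
  obtain ⟨a, ha⟩ := exists_ne (1 : M)
  refine ha (d.form.eq_one_of_sq ?_)
  have h2 := hz a
  rw [h1, map_one, MulAut.one_apply] at h2
  nth_rw 2 [h2]
  exact mul_inv_cancel a

theorem rangeRestrict_der {G : Type x} [Group G] {H : Type w} [Group H] (f : G →* H) {i : ℕ} {t : G}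
    (ht : t ∈ der (⊤ : Subgroup G) i) : f.rangeRestrict t ∈ der (⊤ : Subgroup f.range) i := by
  have h : (der (⊤ : Subgroup G) i).map f.rangeRestrict ≤ der ⊤ i := by
    rw [map_der]; exact der_mono le_top i
  exact h ⟨t, ht, rfl⟩

set_option maxHeartbeats 2000000 in
/-- No chain of length four or more on the kernel of a fixed covector. -/
theorem fail_large : ∀ (b k : ℕ), 4 ≤ k → ∀ {M : Type w} [CommGroup M] [Finite M], Nat.card M + k ≤ b →
    ∀ (V : Type v) [AddCommGroup V] [Module K V] [Nontrivial V] [FiniteDimensional K V]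
    (T : Type w) [Group T] [Finite T] (d : Weil K V M T), IsPGroup 2 T → d.Simple →
    Function.Injective d.σ → ∀ z : T, z ∈ der (⊤ : Subgroup T) (k - 1) → z ≠ 1 →
    (∀ a, d.σ z a = a⁻¹) → d.Fail k → False := by
  intro b
  induction b with
  | zero => intro k hk M _ _ h; omega
  | succ b ihb =>
    intro k hk M _ _ hb V _ _ _ _ T _ _ d hT hs hinj z hz hz1 hzinv hF
    classical
    haveI := Fintype.ofFinite M
    have hz2 : z ∈ der (⊤ : Subgroup T) 2 := der_antitone _ (by omega) hz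
    obtain ⟨e, W, W', P⟩ := exists_split d.form d.σ d.iso hinj hT hz2 hzinv hz1
    have horth : d.Orth W W' := ⟨P.perp, P.split⟩
    have hcl : Nat.card W < Nat.card M := by
      rw [← P.card]; exact lt_mul_of_one_lt_right Nat.card_pos P.neW'
    haveI : Finite (MulAut W) :=
      Finite.of_injective (fun q : MulAut W => (q : W → W)) DFunLike.coe_injective
    by_cases he : ∀ t, t * e * t⁻¹ = e
    · have hWl : ∀ t, ∀ a ∈ W, d.σ t a ∈ W := fun t a ha => P.fix_left (he t) ha
      obtain ⟨V₁, _, _, _, _, d₁, hs₁, hσ₁, hF₁, -, -⟩ := d.exists_piece hT horth hWl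
      have hzi : ∀ a, (d₁.img hT hs₁).σ (d₁.σ.rangeRestrict z) a = a⁻¹ := fun a => Subtype.ext (by
        show (d₁.σ z a : M) = (a : M)⁻¹
        rw [hσ₁, hzinv])
      exact ihb k hk (by omega) V₁ d₁.σ.range (d₁.img hT hs₁)
        (hT.of_surjective _ d₁.σ.rangeRestrict_surjective) hs₁ Subtype.val_injective _
        (rangeRestrict_der d₁.σ hz) ((d₁.img hT hs₁).inv_element_ne_one P.neW hzi) hzi
        (d₁.img_fail hT hs₁ (hF₁ k hF))
    push Not at he
    obtain ⟨g, hg1⟩ := he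
    have hg : g * e * g⁻¹ = e * z := (P.conj g).resolve_left hg1
    obtain ⟨S, hmem, hsq, hdich, hconj⟩ := P.exists_stab hg
    have hSl : ∀ s : S, ∀ a ∈ W, d.σ s a ∈ W := fun s a ha => P.fix_left ((hmem s).1 s.2) ha
    have hSr : ∀ s : S, ∀ a ∈ W', d.σ s a ∈ W' := fun s a ha => P.fix_right ((hmem s).1 s.2) ha
    have H : d.Halves W W' S g := ⟨horth, hSl, hSr,
      fun a ha => P.move_left hg ha, fun a ha => P.move_right hg ha, hsq, hdich, hconj⟩
    set R := ⁅(⊤ : Subgroup T), (⊤ : Subgroup T)⁆ with hR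
    obtain ⟨V₁, _, _, _, _, d₁, hs₁, hσ₁, hF₁, hn₁, -⟩ := d.exists_half hT hs H
    have hTR : IsPGroup 2 R := hT.to_subgroup _
    set di := d₁.img hTR hs₁
    have hTi : IsPGroup 2 d₁.σ.range := hTR.of_surjective _ d₁.σ.rangeRestrict_surjective
    obtain ⟨j, hj⟩ : ∃ j, k = j + 1 := ⟨k - 1, by omega⟩
    obtain ⟨zR, hzR, hzR'⟩ : ∃ zR ∈ der (⊤ : Subgroup R) (j - 1), (zR : T) = z := by
      have h1 : (der (⊤ : Subgroup R) (j - 1)).map R.subtype = der R (j - 1) := by
        rw [map_der, ← MonoidHom.range_eq_map, Subgroup.range_subtype]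
      have h2 : z ∈ der R (j - 1) := by
        rw [hj, Nat.add_sub_cancel, show j = j - 1 + 1 by omega, der_succ] at hz
        exact hz
      obtain ⟨q, hq, hq'⟩ := h1.ge h2
      exact ⟨q, hq, hq'⟩
    set z₁ := d₁.σ.rangeRestrict zR
    have hz₁inv : ∀ a, di.σ z₁ a = a⁻¹ := fun a => Subtype.ext (by
      show (d₁.σ zR a : M) = (a : M)⁻¹
      rw [hσ₁, hzR', hzinv])
    have hz₁ne : z₁ ≠ 1 := di.inv_element_ne_one P.neW hz₁inv
    have hz₁ : z₁ ∈ der (⊤ : Subgroup d₁.σ.range) (j - 1) := rangeRestrict_der d₁.σ hzR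
    have hFi : di.Fail j := d₁.img_fail hTR hs₁ (hF₁ j (hj ▸ hF))
    by_cases hj4 : 4 ≤ j
    · exact ihb j hj4 (by omega) V₁ d₁.σ.range di hTi hs₁ Subtype.val_injective z₁ hz₁ hz₁ne hz₁inv hFi
    obtain rfl : j = 3 := by omega
    obtain ⟨h9, h128, ⟨x, hx, hxz⟩, -⟩ := fail_three (Nat.card W) le_rfl V₁ d₁.σ.range di hTi hs₁
      Subtype.val_injective z₁ hz₁ hz₁ne hz₁inv hFi
    -- the factor
    let p : S →* MulAut W := restrictAut (d.σ.comp S.subtype) W hSl
    have hp : ∀ (s : S) (a : W), (p s a : M) = d.σ s a := fun _ _ => rfl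
    have hp₂ : ∀ (s : S), p₂ p hconj s = 1 → ∀ b ∈ W', d.σ s b = b := fun s h b hb => by
      have h1 := congrArg (fun q : MulAut W => (q ⟨d.σ g⁻¹ b, H.mapR' hb⟩ : M)) h
      change d.σ (g⁻¹ * s * g) (d.σ g⁻¹ b) = d.σ g⁻¹ b at h1
      rw [← MulAut.mul_apply, ← map_mul, mul_inv_cancel_right, map_mul, MulAut.mul_apply] at h1
      exact (d.σ g⁻¹).injective h1
    have hinjS : ∀ s : S, p s = 1 → p₂ p hconj s = 1 → s = 1 := fun s h1 h2 => by
      refine Subtype.ext (hinj (MulEquiv.ext fun m => ?_))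
      obtain ⟨a, ha, b, hb, rfl⟩ := P.split m
      rw [map_mul, hp₂ s h2 b hb, show d.σ s a = a from
        congrArg (fun q : MulAut W => (q ⟨a, ha⟩ : M)) h1, Subgroup.coe_one, map_one, MulAut.one_apply]
    have hRS : ∀ r : R, (r : T) ∈ S := fun r => H.commutator_le r.2
    have hσp : ∀ r : R, d₁.σ r = p ⟨r, hRS r⟩ := fun r => MulEquiv.ext fun a => Subtype.ext (hσ₁ r a)
    have hPG : IsPGroup 2 p.range :=
      (hT.to_subgroup S).of_surjective p.rangeRestrict p.rangeRestrict_surjective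
    have hR₁le : d₁.σ.range ≤ p.range := by
      rintro _ ⟨r, rfl⟩
      exact ⟨⟨r, hRS r⟩, (hσp r).symm⟩
    obtain ⟨B', hB', hB'e⟩ := form_restrict d.form W P.ndW
    have hPi : p.range ≤ isom B' := by
      rintro _ ⟨s, rfl⟩
      intro a b
      rw [hB'e, hB'e, hp, hp, d.iso]
    let incl : d₁.σ.range →* p.range := Subgroup.inclusion hR₁le
    have hincl : ∀ {i : ℕ} {t}, t ∈ der (⊤ : Subgroup d₁.σ.range) i →
        incl t ∈ der (⊤ : Subgroup p.range) i := fun {i t} ht => by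
      have h : (der (⊤ : Subgroup d₁.σ.range) i).map incl ≤ der ⊤ i := by
        rw [map_der]; exact der_mono le_top i
      exact h ⟨t, ht, rfl⟩
    have h81 : Nat.card W = 81 := by rw [← hn₁, h9]
    have hP128 : Nat.card p.range ≤ 128 :=
      card_le_128 hB' p.range.subtype (fun t => hPi t.2) Subtype.val_injective hPG h81
        (hincl hz₁) (fun a => hz₁inv a) fun h => hz₁ne (Subtype.ext (congrArg Subtype.val h :))
    have hEq : d₁.σ.range = p.range := Subgroup.eq_of_le_of_card_ge hR₁le (hP128.trans h128)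
    have hproj : ∀ a ∈ p.range, ∃ r ∈ (⁅(⊤ : Subgroup T), (⊤ : Subgroup T)⁆ : Subgroup T),
        ∃ hr : r ∈ S, p ⟨r, hr⟩ = a := by
      rw [← hEq]
      rintro _ ⟨r, rfl⟩
      exact ⟨r, r.2, hRS r, (hσp r).symm⟩
    have hzS : z ∈ S := H.commutator_le (der_antitone _ (show 1 ≤ 2 by omega) hz2)
    have hv : ∀ i < 3, incl x ^ 2 ^ i ∈ der (⊤ : Subgroup p.range) i := fun i hi => by
      rw [← map_pow]; exact hincl (hx i hi)
    obtain ⟨y, hy, hyz⟩ := exists_chain_element p hconj hinjS hproj hPG hsq hdich (k := 3) (by norm_num)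
      hv hzS P.zc (by
        rw [← map_pow, show 3 - 1 = 2 from rfl, hxz]
        show p ⟨z, hzS⟩ = (z₁ : MulAut W)
        rw [show (⟨z, hzS⟩ : S) = ⟨(zR : T), hRS zR⟩ from Subtype.ext hzR'.symm, ← hσp]
        rfl)
    obtain ⟨φ, hφ0, hφ⟩ := d.exists_fixed_covector hT
    obtain rfl : k = 4 := by omega
    have hb2 := d.rank_chain (k := 4) (by norm_num) hy hyz hφ0 (hF φ hφ0 hφ)
    have hWW : Nat.card W' = Nat.card W := by
      refine Nat.card_congr ⟨fun a => ⟨d.σ g a, P.move_right hg a.2⟩,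
        fun a => ⟨d.σ g⁻¹ a, H.mapL' a.2⟩,
        fun a => Subtype.ext (d.σ_inv_apply g _), fun a => Subtype.ext (d.σ_apply_inv g _)⟩
    have hM : finrank K V = 81 := by
      have h1 := finrank_sq d.card_ne_zero hs
      rw [← Nat.card_eq_fintype_card, ← P.card, hWW, h81] at h1
      exact Nat.mul_self_inj.1 h1
    have hrz := d.rank_inverting hs hzinv hT
    rw [hM] at hb2 hrz
    norm_num at hb2
    omega

set_option maxHeartbeats 1000000 in
/-- The bound. -/
theorem prim_bound {V : Type v} [AddCommGroup V] [Module K V] [Nontrivial V] [FiniteDimensional K V]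
    {M : Type w} [CommGroup M] [Finite M] {T : Type x} [Group T] [Finite T] (d : Weil K V M T)
    (hT : IsPGroup 2 T) (hs : d.Simple) {k : ℕ} (hk : 3 ≤ k) (h : chain d.ψ ⊤ k ⊤ = ⊥) {t : T}
    (ht : t ∈ der (⊤ : Subgroup T) (k - 1)) : d.σ t = 1 := by
  classical
  by_contra hne
  haveI := Fintype.ofFinite M
  haveI : Finite (MulAut M) :=
    Finite.of_injective (fun g : MulAut M => (g : M → M)) DFunLike.coe_injective
  set di := d.img hT hs
  have hTi : IsPGroup 2 d.σ.range := hT.of_surjective _ d.σ.rangeRestrict_surjective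
  set D := der (⊤ : Subgroup d.σ.range) (k - 1)
  have hDn : ∀ i, (der (⊤ : Subgroup d.σ.range) i).Normal := fun i => by
    induction i with
    | zero => exact inferInstanceAs (⊤ : Subgroup d.σ.range).Normal
    | succ i ih => rw [der_succ']; exact @Subgroup.commutator_normal _ _ _ _ ih ih
  haveI : D.Normal := hDn _
  obtain ⟨z₀, hz₀, hz₀1, hz₀c⟩ := exists_central_mod hTi D ⊥ fun hle => hne (by
    have := hle (rangeRestrict_der d.σ ht)
    rw [Subgroup.mem_bot] at this
    exact congrArg Subtype.val this)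
  rw [Subgroup.mem_bot] at hz₀1
  have hcen₀ : ∀ g, g * z₀ = z₀ * g := fun g => by
    have := hz₀c g
    rw [Subgroup.mem_bot, mul_inv_eq_one, mul_inv_eq_iff_eq_mul] at this
    exact this
  obtain ⟨m, hm⟩ := hTi z₀
  have hex : ∃ i, z₀ ^ 2 ^ i = 1 := ⟨m, hm⟩
  obtain ⟨i, hi⟩ : ∃ i, Nat.find hex = i + 1 := Nat.exists_eq_succ_of_ne_zero fun h => hz₀1 (by
    simpa [h] using Nat.find_spec hex)
  set z := z₀ ^ 2 ^ i
  have hz : z ∈ D := D.pow_mem hz₀ _
  have hz1 : z ≠ 1 := Nat.find_min hex (by omega)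
  have hzz : z * z = 1 := by
    rw [← pow_add, ← two_mul, ← pow_succ', ← hi]
    exact Nat.find_spec hex
  have hcen : ∀ g, g * z = z * g := fun g => ((show Commute g z₀ from hcen₀ g).pow_right _).eq
  -- the piece inverted by `z`
  let τ : MulAut M := z
  have hττ : τ * τ = 1 := congrArg Subtype.val hzz
  have hτi : τ ∈ isom d.B := di.iso z
  let W : Subgroup M := mns τ
  let W' : Subgroup M := τ.toMonoidHom.eqLocus (MonoidHom.id M)
  have horth : di.Orth W W' := ⟨fun a ha b hb => d.form.eq_one_swap (d.form.perp hτi hb ha), fun q => by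
    obtain ⟨c, v, hc, hv, rfl⟩ := d.form.split hττ q
    exact ⟨v, hv, c, hc, mul_comm c v⟩⟩
  have hW : ∀ g : d.σ.range, ∀ a ∈ W, di.σ g a ∈ W := fun g a ha => by
    show (τ : MulAut M) ((g : MulAut M) a) = ((g : MulAut M) a)⁻¹
    have hc := congrArg Subtype.val (hcen g)
    rw [← MulAut.mul_apply, show (τ : MulAut M) * (g : MulAut M) = (g : MulAut M) * τ from hc.symm,
      MulAut.mul_apply, mem_mns.1 ha, map_inv]
  have hW1 : 1 < Nat.card W := Finite.one_lt_card_iff_nontrivial.2 ((Subgroup.nontrivial_iff_ne_bot W).2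
    (d.form.mns_ne_bot hττ fun e => hz1 (Subtype.ext e)))
  obtain ⟨V₁, _, _, _, _, d₁, hs₁, hσ₁, -, hex₁, -⟩ := di.exists_piece hTi horth hW
  have hexi : chain (d₁.img hTi hs₁).ψ ⊤ k ⊤ = ⊥ := by
    rw [d₁.img_chain hTi hs₁]
    refine hex₁ k ?_
    rw [d.img_chain hT hs]
    exact h
  haveI : Finite (MulAut W) := Finite.of_injective (fun q : MulAut W => (q : W → W)) DFunLike.coe_injective
  set dii := d₁.img hTi hs₁
  have hTii : IsPGroup 2 d₁.σ.range := hTi.of_surjective _ d₁.σ.rangeRestrict_surjective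
  set z₁ := d₁.σ.rangeRestrict z
  have hz₁inv : ∀ a, dii.σ z₁ a = a⁻¹ := fun a => Subtype.ext (by
    show (d₁.σ z a : M) = (a : M)⁻¹
    rw [hσ₁]
    exact a.2)
  have hz₁ne := dii.inv_element_ne_one hW1 hz₁inv
  have hz₁ : z₁ ∈ der (⊤ : Subgroup d₁.σ.range) (k - 1) := rangeRestrict_der d₁.σ hz
  have hFi := dii.fail_of_chain hexi
  rcases Nat.lt_or_ge k 4 with hk4 | hk4
  · obtain rfl : k = 3 := by omega
    obtain ⟨h9, -, ⟨x, hx, hxz⟩, -⟩ := fail_three (Nat.card W) le_rfl V₁ d₁.σ.range dii hTii hs₁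
      Subtype.val_injective z₁ hz₁ hz₁ne hz₁inv hFi
    exact dii.not_exact_of_chain_element hTii (show dii.Simple from hs₁) (by norm_num) hx hxz hz₁inv
      (by rw [h9]; norm_num) hexi
  · exact fail_large (Nat.card W + k) k hk4 le_rfl V₁ d₁.σ.range dii hTii hs₁ Subtype.val_injective z₁
      hz₁ hz₁ne hz₁inv hFi

end Weil

end CfsgLib.FGS74.Dlen
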