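import Mathlib.GroupTheory.Nilpotent
import Mathlib.GroupTheory.Solvable
import Mathlib.GroupTheory.Sylow
import Mathlib.RingTheory.Finiteness.Basic
import Mathlib.LinearAlgebra.Quotient.Basic
import Mathlib.Tactic

/-!
# Commutator chains along the derived series

For a subgroup `P` of `G` and a representation `ψ`, `chain ψ P d Y` is
`[Y, P, P', ..., P^(d-1)]`; the semidirect product with `P` has derived length at most `d` exactly if
`chain ψ P d ⊤ = ⊥`. The same chain in the group is `dlt P d E`.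
-/

set_option autoImplicit false
set_option linter.style.haveILetI false

open scoped commutatorElement

namespace CfsgLib.FGS74.Dlen

universe u v w w'

variable {K : Type u} [Field K] {V : Type v} [AddCommGroup V] [Module K V] {G : Type w} [Group G]

/-- The derived series of a subgroup, inside the group. -/
def der (P : Subgroup G) : ℕ → Subgroup G
  | 0 => P
  | i + 1 => der ⁅P, P⁆ i

theorem der_zero (P : Subgroup G) : der P 0 = P := rfl

theorem der_succ (P : Subgroup G) (i : ℕ) : der P (i + 1) = der ⁅P, P⁆ i := rfl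

theorem commutator_self_le (P : Subgroup G) : ⁅P, P⁆ ≤ P :=
  Subgroup.commutator_le.2 fun a ha b hb => by
    rw [commutatorElement_def]
    exact P.mul_mem (P.mul_mem (P.mul_mem ha hb) (P.inv_mem ha)) (P.inv_mem hb)

theorem der_succ' (P : Subgroup G) (i : ℕ) : der P (i + 1) = ⁅der P i, der P i⁆ := by
  induction i generalizing P with
  | zero => rfl
  | succ i ih => exact ih ⁅P, P⁆

theorem der_le (P : Subgroup G) (i : ℕ) : der P i ≤ P := by
  induction i generalizing P with
  | zero => exact le_rfl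
  | succ i ih => exact (ih ⁅P, P⁆).trans (commutator_self_le P)

theorem der_mono {P P' : Subgroup G} (h : P ≤ P') (i : ℕ) : der P i ≤ der P' i := by
  induction i generalizing P P' with
  | zero => exact h
  | succ i ih => exact ih (Subgroup.commutator_mono h h)

theorem der_antitone (P : Subgroup G) {i j : ℕ} (h : i ≤ j) : der P j ≤ der P i := by
  induction h with
  | refl => exact le_rfl
  | step _ ih => rw [der_succ']; exact (commutator_self_le _).trans ih

theorem map_der {H : Type w'} [Group H] (f : G →* H) (P : Subgroup G) (i : ℕ) :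
    (der P i).map f = der (P.map f) i := by
  induction i generalizing P with
  | zero => rfl
  | succ i ih => rw [der_succ, der_succ, ih, Subgroup.map_commutator]

theorem der_eq_map_derivedSeries (P : Subgroup G) (i : ℕ) :
    der P i = (derivedSeries P i).map P.subtype := by
  induction i with
  | zero => rw [der_zero, derivedSeries_zero, ← MonoidHom.range_eq_map, Subgroup.range_subtype]
  | succ i ih => rw [der_succ', derivedSeries_succ, Subgroup.map_commutator, ih]

/-- The chain of commutators of `E` along the derived series of `P`. -/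
def dlt (P : Subgroup G) : ℕ → Subgroup G → Subgroup G
  | 0, E => E
  | i + 1, E => dlt ⁅P, P⁆ i ⁅E, P⁆

theorem dlt_zero (P E : Subgroup G) : dlt P 0 E = E := rfl

theorem dlt_succ (P E : Subgroup G) (i : ℕ) : dlt P (i + 1) E = dlt ⁅P, P⁆ i ⁅E, P⁆ := rfl

theorem dlt_mono {P P' E E' : Subgroup G} (hP : P ≤ P') (hE : E ≤ E') (i : ℕ) :
    dlt P i E ≤ dlt P' i E' := by
  induction i generalizing P P' E E' with
  | zero => exact hE
  | succ i ih => exact ih (Subgroup.commutator_mono hP hP) (Subgroup.commutator_mono hE hP)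

theorem dlt_le_der {P E : Subgroup G} (hE : E ≤ P) (i : ℕ) : dlt P i E ≤ der P i := by
  induction i generalizing P E with
  | zero => exact hE
  | succ i ih => exact ih (Subgroup.commutator_mono hE le_rfl)

theorem commutator_le_of_normalizes {P E : Subgroup G} (hP : P ≤ Subgroup.normalizer (E : Set G)) :
    ⁅E, P⁆ ≤ E :=
  Subgroup.le_normalizer_iff_commutator_le_left.mp hP

/-- The chain of `D ∩ P` falls into the chain of `D ∩ P^(1)`. -/
theorem dlt_inf_succ_le {P D : Subgroup G} (hP : P ≤ Subgroup.normalizer (D : Set G)) (i : ℕ) :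
    dlt P (i + 1) (D ⊓ P) ≤ dlt ⁅P, P⁆ i (D ⊓ ⁅P, P⁆) := by
  rw [dlt_succ]
  refine dlt_mono le_rfl (le_inf ?_ (Subgroup.commutator_mono inf_le_right le_rfl)) i
  exact (Subgroup.commutator_mono inf_le_left le_rfl).trans (commutator_le_of_normalizes hP)

theorem dlt_inf_le {P D : Subgroup G} (hP : P ≤ Subgroup.normalizer (D : Set G)) (i : ℕ) :
    dlt P i (D ⊓ P) ≤ D := by
  induction i generalizing P with
  | zero => exact inf_le_left
  | succ i ih =>
    exact (dlt_inf_succ_le hP i).trans (ih ((commutator_self_le P).trans hP))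

theorem dlt_inf_add_le {P D : Subgroup G} (hP : P ≤ Subgroup.normalizer (D : Set G)) (i j : ℕ) :
    dlt P (i + j) (D ⊓ P) ≤ dlt (der P i) j (D ⊓ der P i) := by
  induction i generalizing P with
  | zero => rw [Nat.zero_add]; exact le_rfl
  | succ i ih =>
    rw [Nat.add_right_comm]
    exact (dlt_inf_succ_le hP _).trans (ih ((commutator_self_le P).trans hP))

theorem map_dlt {H : Type w'} [Group H] (f : G →* H) (P E : Subgroup G) (i : ℕ) :
    (dlt P i E).map f = dlt (P.map f) i (E.map f) := by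
  induction i generalizing P E with
  | zero => rfl
  | succ i ih => rw [dlt_succ, dlt_succ, ih, Subgroup.map_commutator, Subgroup.map_commutator]

/-- In a nilpotent group a proper subgroup is proper modulo commutators. -/
theorem lt_of_nilpotent {P S : Subgroup G} [Finite G] (hP : Group.IsNilpotent P) (hS : S < P) :
    S ⊔ ⁅P, P⁆ < P := by
  haveI := hP
  obtain h | ⟨M, hM, hle⟩ := eq_top_or_exists_le_coatom (S.subgroupOf P)
  · exact absurd (Subgroup.subgroupOf_eq_top.1 h) hS.not_ge
  haveI : M.Normal :=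
    Subgroup.NormalizerCondition.normal_of_coatom M Group.normalizerCondition_of_isNilpotent hM
  obtain ⟨x, hx⟩ : ∃ x : P, x ∉ M := by
    by_contra! hall
    exact hM.1 ((Subgroup.eq_top_iff' M).2 hall)
  have hzp : M ⊔ Subgroup.zpowers x = ⊤ := hM.2 _ (left_lt_sup.2 fun h => hx (h (Subgroup.mem_zpowers x)))
  have hq : ∀ y : P, ∃ i : ℤ, (y : P ⧸ M) = (x : P ⧸ M) ^ i := fun y => by
    have h : y ∈ (M ⊔ Subgroup.zpowers x : Subgroup P) := hzp ▸ Subgroup.mem_top y
    rw [← SetLike.mem_coe, Subgroup.normal_mul, Set.mem_mul] at h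
    obtain ⟨m, hm, z, hz, rfl⟩ := h
    obtain ⟨i, rfl⟩ := Subgroup.mem_zpowers_iff.1 hz
    exact ⟨i, by rw [QuotientGroup.mk_mul, (QuotientGroup.eq_one_iff m).2 hm, one_mul,
      QuotientGroup.mk_zpow]⟩
  have hc : ⁅P, P⁆ ≤ M.map P.subtype := Subgroup.commutator_le.2 fun a ha b hb => by
    refine ⟨⁅(⟨a, ha⟩ : P), ⟨b, hb⟩⁆, (QuotientGroup.eq_one_iff _).1 ?_, rfl⟩
    obtain ⟨i, hi⟩ := hq ⟨a, ha⟩
    obtain ⟨j, hj⟩ := hq ⟨b, hb⟩
    show QuotientGroup.mk' M ⁅(⟨a, ha⟩ : P), ⟨b, hb⟩⁆ = 1
    rw [map_commutatorElement, QuotientGroup.mk'_apply, QuotientGroup.mk'_apply, hi, hj,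
      commutatorElement_eq_one_iff_mul_comm]
    exact ((Commute.refl _).zpow_zpow i j).eq
  refine lt_of_le_of_ne (sup_le hS.le (commutator_self_le P)) fun h => hM.1 ?_
  have h1 : P ≤ M.map P.subtype := h.ge.trans (sup_le (fun s hs => ⟨⟨s, hS.le hs⟩, hle hs, rfl⟩) hc)
  exact (Subgroup.eq_top_iff' M).2 fun y => by
    obtain ⟨m, hm, he⟩ := h1 y.2
    exact (Subtype.ext he : m = y) ▸ hm

/-- `[Y, P]` in a representation. -/
def mcomm (ψ : G →* Module.End K V) (P : Subgroup G) (Y : Submodule K V) : Submodule K V :=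
  Submodule.span K {x | ∃ g ∈ P, ∃ y ∈ Y, ψ g y - y = x}

/-- `[Y, P, P', ..., P^(d-1)]`. -/
def chain (ψ : G →* Module.End K V) (P : Subgroup G) : ℕ → Submodule K V → Submodule K V
  | 0, Y => Y
  | d + 1, Y => chain ψ ⁅P, P⁆ d (mcomm ψ P Y)

variable {ψ : G →* Module.End K V}

theorem mem_mcomm {P : Subgroup G} {Y : Submodule K V} {g : G} (hg : g ∈ P) {y : V} (hy : y ∈ Y) :
    ψ g y - y ∈ mcomm ψ P Y := Submodule.subset_span ⟨g, hg, y, hy, rfl⟩

theorem mcomm_mono {P P' : Subgroup G} (hP : P ≤ P') {Y Y' : Submodule K V} (hY : Y ≤ Y') :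
    mcomm ψ P Y ≤ mcomm ψ P' Y' :=
  Submodule.span_mono fun _ ⟨g, hg, y, hy, h⟩ => ⟨g, hP hg, y, hY hy, h⟩

theorem chain_mono {P P' : Subgroup G} (hP : P ≤ P') {Y Y' : Submodule K V} (hY : Y ≤ Y') (d : ℕ) :
    chain ψ P d Y ≤ chain ψ P' d Y' := by
  induction d generalizing P P' Y Y' with
  | zero => exact hY
  | succ d ih => exact ih (Subgroup.commutator_mono hP hP) (mcomm_mono hP hY)

theorem chain_succ (P : Subgroup G) (d : ℕ) (Y : Submodule K V) :
    chain ψ P (d + 1) Y = chain ψ ⁅P, P⁆ d (mcomm ψ P Y) := rfl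

theorem chain_zero (P : Subgroup G) (Y : Submodule K V) : chain ψ P 0 Y = Y := rfl

theorem chain_one_eq_bot_iff {P : Subgroup G} {Y : Submodule K V} :
    chain ψ P 1 Y = ⊥ ↔ ∀ g ∈ P, ∀ y ∈ Y, ψ g y = y := by
  rw [chain_succ, chain_zero, mcomm, Submodule.span_eq_bot]
  refine ⟨fun h g hg y hy => sub_eq_zero.1 (h _ ⟨g, hg, y, hy, rfl⟩), ?_⟩
  rintro h _ ⟨g, hg, y, hy, rfl⟩
  rw [h g hg y hy, sub_self]

/-- A product along the chain. -/
theorem sub_eq_zero_of_chain_two {P : Subgroup G} (h : chain ψ P 2 ⊤ = ⊥) {z g : G}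
    (hz : z ∈ ⁅P, P⁆) (hg : g ∈ P) : (ψ z - 1) * (ψ g - 1) = 0 := by
  refine LinearMap.ext fun v => ?_
  have := chain_one_eq_bot_iff.1 h z hz _ (mem_mcomm hg (Submodule.mem_top (x := v)))
  simpa [Module.End.mul_apply, sub_eq_zero] using this

/-- An equivariant map carries chains to chains. -/
theorem chain_map {V' : Type w'} [AddCommGroup V'] [Module K V'] {ψ' : G →* Module.End K V'}
    (f : V →ₗ[K] V') {P : Subgroup G} (hf : ∀ g ∈ P, ∀ v, f (ψ g v) = ψ' g (f v))
    (Y : Submodule K V) (d : ℕ) : (chain ψ P d Y).map f = chain ψ' P d (Y.map f) := by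
  induction d generalizing P Y with
  | zero => rfl
  | succ d ih =>
    rw [chain_succ, chain_succ, ih (fun g hg => hf g (commutator_self_le P hg))]
    congr 1
    rw [mcomm, mcomm, Submodule.map_span]
    congr 1
    ext x
    constructor
    · rintro ⟨_, ⟨g, hg, y, hy, rfl⟩, rfl⟩
      exact ⟨g, hg, f y, ⟨y, hy, rfl⟩, by rw [map_sub, hf g hg]⟩
    · rintro ⟨g, hg, _, ⟨y, hy, rfl⟩, rfl⟩
      exact ⟨_, ⟨g, hg, y, hy, rfl⟩, by rw [map_sub, hf g hg]⟩

theorem chain_eq_bot_of_surjective {V' : Type w'} [AddCommGroup V'] [Module K V']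
    {ψ' : G →* Module.End K V'} (f : V →ₗ[K] V') {P : Subgroup G}
    (hf : ∀ g ∈ P, ∀ v, f (ψ g v) = ψ' g (f v)) {Y : Submodule K V} {Y' : Submodule K V'}
    (hY : Y' ≤ Y.map f) {d : ℕ} (h : chain ψ P d Y = ⊥) : chain ψ' P d Y' = ⊥ := by
  have h1 := chain_mono (ψ := ψ') le_rfl hY d (P := P)
  rw [← chain_map f hf Y d, h, Submodule.map_bot, le_bot_iff] at h1
  exact h1

theorem chain_eq_bot_of_injective {V' : Type w'} [AddCommGroup V'] [Module K V']
    {ψ' : G →* Module.End K V'} (f : V' →ₗ[K] V) (hfi : Function.Injective f) {P : Subgroup G}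
    (hf : ∀ g ∈ P, ∀ v, f (ψ' g v) = ψ g (f v)) {d : ℕ} (h : chain ψ P d ⊤ = ⊥) :
    chain ψ' P d ⊤ = ⊥ := by
  refine Submodule.map_injective_of_injective hfi (le_bot_iff.1 ?_ |>.trans (Submodule.map_bot f).symm)
  rw [chain_map f hf ⊤ d, ← h]
  exact chain_mono le_rfl le_top d

/-- A homomorphism of groups carries chains to chains. -/
theorem chain_comp {H : Type w'} [Group H] (π : G →* H) (φ : H →* Module.End K V) (P : Subgroup G)
    (Y : Submodule K V) (d : ℕ) : chain (φ.comp π) P d Y = chain φ (P.map π) d Y := by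
  induction d generalizing P Y with
  | zero => rfl
  | succ d ih =>
    rw [chain_succ, chain_succ, ih, Subgroup.map_commutator]
    congr 1
    refine congrArg _ (Set.ext fun x => ?_)
    constructor
    · rintro ⟨g, hg, y, hy, rfl⟩
      exact ⟨π g, ⟨g, hg, rfl⟩, y, hy, rfl⟩
    · rintro ⟨_, ⟨g, hg, rfl⟩, y, hy, rfl⟩
      exact ⟨g, hg, y, hy, rfl⟩

/-- The products along a chain. -/
def chainOps (ψ : G →* Module.End K V) (P : Subgroup G) : ℕ → Set (Module.End K V)
  | 0 => {1}
  | d + 1 => {X | ∃ g ∈ P, ∃ Y ∈ chainOps ψ ⁅P, P⁆ d, Y * (ψ g - 1) = X}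

theorem chain_eq_bot_of_ops {P : Subgroup G} {d : ℕ} {Y : Submodule K V}
    (h : ∀ X ∈ chainOps ψ P d, ∀ y ∈ Y, X y = 0) : chain ψ P d Y = ⊥ := by
  induction d generalizing P Y with
  | zero => exact (Submodule.eq_bot_iff Y).2 fun y hy => h 1 rfl y hy
  | succ d ih =>
    refine ih fun X hX y hy => ?_
    induction hy using Submodule.span_induction with
    | mem x hx =>
      obtain ⟨g, hg, y, hy, rfl⟩ := hx
      have := h _ ⟨g, hg, X, hX, rfl⟩ y hy
      simpa [Module.End.mul_apply] using this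
    | zero => exact map_zero X
    | add a b _ _ ha hb => rw [map_add, ha, hb, add_zero]
    | smul r a _ ha => rw [map_smul, ha, smul_zero]

end CfsgLib.FGS74.Dlen
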