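import Cfsg.Agent.FGS74.Dlen.Two

/-!
# The decomposition given by a four-group and its pieces
-/

set_option autoImplicit false
set_option linter.style.haveILetI false

open Module
open scoped commutatorElement

namespace CfsgLib.FGS74.Dlen

open CfsgLib.FGS74.Bry CfsgLib.FGS74.GrossLen

universe u v w x y z'

theorem derived_nonabelian {G : Type x} [Group G] {z : G} (hz : z ∈ der (⊤ : Subgroup G) 2)
    (hz1 : z ≠ 1) :
    ∃ a ∈ ⁅(⊤ : Subgroup G), (⊤ : Subgroup G)⁆, ∃ b ∈ ⁅(⊤ : Subgroup G), (⊤ : Subgroup G)⁆,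
      a * b ≠ b * a := by
  by_contra! h
  refine hz1 (Subgroup.mem_bot.1 (?_ : z ∈ (⊥ : Subgroup G)))
  exact (Subgroup.commutator_le.2 fun a ha b hb =>
    Subgroup.mem_bot.2 (commutatorElement_eq_one_iff_mul_comm.2 (h a ha b hb))) hz

theorem card_le_two_mul {G : Type x} [Group G] [Finite G] (S : Subgroup G) (g : G)
    (hdich : ∀ t, t ∈ S ∨ g⁻¹ * t ∈ S) : Nat.card G ≤ 2 * Nat.card S := by
  have h : Nat.card G ≤ Nat.card (S ⊕ S) := Nat.card_le_card_of_surjective
    (Sum.elim (fun s : S => (s : G)) fun s : S => g * s) fun t => by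
    rcases hdich t with h | h
    · exact ⟨Sum.inl ⟨t, h⟩, rfl⟩
    · exact ⟨Sum.inr ⟨_, h⟩, mul_inv_cancel_left g t⟩
  rwa [Nat.card_sum, ← two_mul] at h

theorem two_mul_le_card {G : Type x} [Group G] [Finite G] (S : Subgroup G) {g : G} (hg : g ∉ S) :
    2 * Nat.card S ≤ Nat.card G := by
  rw [two_mul, ← Nat.card_sum]
  refine Nat.card_le_card_of_injective (Sum.elim (fun s : S => (s : G)) fun s : S => g * s) ?_
  refine Function.Injective.sumElim Subtype.val_injective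
    (fun a b h => Subtype.ext (mul_left_cancel h)) fun a b h => hg ?_
  rw [show g = (a : G) * (b : G)⁻¹ by rw [h, mul_inv_cancel_right]]
  exact S.mul_mem a.2 (S.inv_mem b.2)

theorem le_of_pow_two_dvd {i j N : ℕ} (h : ¬ 2 ^ (j + 1) ∣ N) (hd : 2 ^ i ∣ N) : 2 ^ i ≤ 2 ^ j := by
  refine Nat.pow_le_pow_right two_pos ?_
  by_contra hlt
  exact h ((pow_dvd_pow 2 (by omega)).trans hd)

theorem mul_comm_of_card_lt_eight {G : Type x} [Group G] [Finite G] (hG : IsPGroup 2 G)
    (h : Nat.card G < 8) (a b : G) : a * b = b * a := by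
  haveI := Fact.mk Nat.prime_two
  obtain ⟨j, hj⟩ := IsPGroup.iff_card.1 hG
  rw [hj] at h
  have hj2 : j < 3 := (Nat.pow_lt_pow_iff_right (by norm_num)).1 (h : 2 ^ j < 2 ^ 3)
  interval_cases j
  · haveI : Subsingleton G := (Nat.card_eq_one_iff_unique.1 (by simpa using hj)).1
    exact Subsingleton.elim _ _
  · haveI : IsCyclic G := isCyclic_of_prime_card (p := 2) (by simpa using hj)
    exact (IsCyclic.isMulCommutative (α := G)).is_comm.comm a b
  · exact (IsPGroup.isMulCommutative_of_card_eq_prime_sq hj).is_comm.comm a b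

section Aut

variable {M : Type w} [CommGroup M] {S : Type x} [Group S]

/-- Restriction to an invariant subgroup. -/
def restrictAut (σ : S →* MulAut M) (W : Subgroup M) (hW : ∀ t, ∀ a ∈ W, σ t a ∈ W) :
    S →* MulAut W :=
  MonoidHom.mk' (fun t =>
    { toFun := fun a => ⟨σ t a, hW t a a.2⟩
      invFun := fun a => ⟨σ t⁻¹ a, hW t⁻¹ a a.2⟩
      left_inv := fun a => Subtype.ext (by
        show σ t⁻¹ (σ t a) = a
        rw [← MulAut.mul_apply, ← map_mul, inv_mul_cancel, map_one, MulAut.one_apply])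
      right_inv := fun a => Subtype.ext (by
        show σ t (σ t⁻¹ a) = a
        rw [← MulAut.mul_apply, ← map_mul, mul_inv_cancel, map_one, MulAut.one_apply])
      map_mul' := fun a b => Subtype.ext (map_mul (σ t) (a : M) (b : M)) })
    fun s t => MulEquiv.ext fun a => Subtype.ext (by
      show σ (s * t) a = σ s (σ t a)
      rw [map_mul, MulAut.mul_apply])

theorem restrictAut_apply (σ : S →* MulAut M) (W : Subgroup M) (hW : ∀ t, ∀ a ∈ W, σ t a ∈ W)
    (t : S) (a : W) : (restrictAut σ W hW t a : M) = σ t a := rfl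

variable {U : Type y} [CommGroup U] {B : M →* M →* U}

/-- A nondegenerate form on a subgroup. -/
theorem form_restrict [Finite M] (hB : Form B) (W : Subgroup M)
    (hnd : ∀ a ∈ W, (∀ k ∈ W, B k a = 1) → a = 1) :
    ∃ B' : W →* W →* U, Form B' ∧ ∀ a b : W, B' a b = B a b :=
  ⟨MonoidHom.mk' (fun a => (B a).comp W.subtype) fun a b => MonoidHom.ext fun c => by simp [map_mul],
    ⟨(Form.odd hB).of_dvd_nat W.card_subgroup_dvd_card, fun m => hB.self _,
      fun m hm => Subtype.ext (hnd m m.2 fun k hk => hm ⟨k, hk⟩)⟩, fun _ _ => rfl⟩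

/-- The card of a proper nondegenerate subgroup is neither a prime. -/
theorem card_ne_prime (hB : Form B) {W : Subgroup M} (hnd : ∀ a ∈ W, (∀ k ∈ W, B k a = 1) → a = 1)
    {q : ℕ} (hq : q.Prime) : Nat.card W ≠ q := by
  intro h
  haveI := Fact.mk hq
  haveI : IsCyclic W := isCyclic_of_prime_card h
  refine hq.one_lt.ne' (h.symm.trans (Subgroup.card_eq_one.2 ((Subgroup.eq_bot_iff_forall _).2
    fun a ha => hnd a ha fun k hk => hB.cyclic_iso (P := W) hk ha)))

end Aut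

/-- Subgroups cut by an involution whose conjugates are itself or its product with `z`. -/
structure Split {M : Type w} [CommGroup M] {U : Type y} [CommGroup U] {T : Type x} [Group T]
    (B : M →* M →* U) (σ : T →* MulAut M) (z e : T) (W W' : Subgroup M) : Prop where
  memW : ∀ a, a ∈ W ↔ σ e a = a
  memW' : ∀ a, a ∈ W' ↔ σ (e * z) a = a
  perp : ∀ a ∈ W, ∀ b ∈ W', B a b = 1
  split : ∀ m, ∃ a ∈ W, ∃ b ∈ W', m = a * b
  ndW : ∀ a ∈ W, (∀ k ∈ W, B k a = 1) → a = 1
  ndW' : ∀ a ∈ W', (∀ k ∈ W', B k a = 1) → a = 1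
  neW : 1 < Nat.card W
  neW' : 1 < Nat.card W'
  card : Nat.card W * Nat.card W' = Nat.card M
  conj : ∀ t, t * e * t⁻¹ = e ∨ t * e * t⁻¹ = e * z
  sqz : z * z = 1
  zc : ∀ t, t * z = z * t

theorem exists_split {M : Type w} [CommGroup M] [Finite M] {U : Type y} [CommGroup U] {T : Type x}
    [Group T] [Finite T] {B : M →* M →* U} (hB : Form B) (σ : T →* MulAut M)
    (hσi : ∀ t, σ t ∈ isom B) (hinj : Function.Injective σ) (hT : IsPGroup 2 T) {z : T}
    (hz : z ∈ der (⊤ : Subgroup T) 2) (hzinv : ∀ a, σ z a = a⁻¹) (hz1 : z ≠ 1) :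
    ∃ (e : T) (W W' : Subgroup M), Split B σ z e W W' := by
  have hzc : ∀ t, t * z = z * t := fun t => hinj (MulEquiv.ext fun a => by
    rw [map_mul, map_mul, MulAut.mul_apply, MulAut.mul_apply, hzinv, hzinv, map_inv])
  have hzz : z * z = 1 := hinj (MulEquiv.ext fun a => by
    rw [map_mul, MulAut.mul_apply, hzinv, hzinv, inv_inv, map_one, MulAut.one_apply])
  obtain ⟨e, hee, he1, hez, hconj⟩ := four_group hT hzc hz1 hzz
    (der_antitone _ (show 1 ≤ 2 by omega) hz) (derived_nonabelian hz hz1)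
  let W : Subgroup M := (σ e).toMonoidHom.eqLocus (MonoidHom.id M)
  let W' : Subgroup M := (σ (e * z)).toMonoidHom.eqLocus (MonoidHom.id M)
  have hW : ∀ a, a ∈ W ↔ σ e a = a := fun a => Iff.rfl
  have hW' : ∀ a, a ∈ W' ↔ σ (e * z) a = a := fun a => Iff.rfl
  have hW'' : ∀ a, a ∈ W' ↔ a ∈ mns (σ e) := fun a => by
    rw [hW', map_mul, MulAut.mul_apply, hzinv, map_inv, inv_eq_iff_eq_inv]
    exact mem_mns.symm
  have hττ : σ e * σ e = 1 := by rw [← map_mul, hee, map_one]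
  have hperp : ∀ a ∈ W, ∀ b ∈ W', B a b = 1 := fun a ha b hb => hB.perp (hσi e) ha ((hW'' b).1 hb)
  have hsplit : ∀ m, ∃ a ∈ W, ∃ b ∈ W', m = a * b := fun m => by
    obtain ⟨c, v, hc, hv, rfl⟩ := hB.split hττ m
    exact ⟨c, hc, v, (hW'' v).2 hv, rfl⟩
  have hnd : ∀ a ∈ W, (∀ k ∈ W, B k a = 1) → a = 1 := fun a ha hk => hB.nd a fun m => by
    obtain ⟨p, hp, q, hq, rfl⟩ := hsplit m
    rw [map_mul, MonoidHom.mul_apply, hk p hp, hB.eq_one_swap (hperp a ha q hq), one_mul]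
  have hnd' : ∀ a ∈ W', (∀ k ∈ W', B k a = 1) → a = 1 := fun a ha hk => hB.nd a fun m => by
    obtain ⟨p, hp, q, hq, rfl⟩ := hsplit m
    rw [map_mul, MonoidHom.mul_apply, hk q hq, hperp p hp a ha, one_mul]
  refine ⟨e, W, W', hW, hW', hperp, hsplit, hnd, hnd', ?_, ?_, ?_, hconj, hzz, hzc⟩
  · refine Finite.one_lt_card_iff_nontrivial.2 ((Subgroup.nontrivial_iff_ne_bot W).2 fun hb => hez ?_)
    refine hinj (MulEquiv.ext fun m => ?_)
    obtain ⟨a, ha, b, hb', rfl⟩ := hsplit m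
    rw [hb, Subgroup.mem_bot] at ha
    rw [ha, one_mul, mem_mns.1 ((hW'' b).1 hb'), hzinv]
  · refine Finite.one_lt_card_iff_nontrivial.2 ((Subgroup.nontrivial_iff_ne_bot W').2 fun hb => he1 ?_)
    refine hinj (MulEquiv.ext fun m => ?_)
    obtain ⟨a, ha, b, hb', rfl⟩ := hsplit m
    rw [hb, Subgroup.mem_bot] at hb'
    rw [hb', mul_one, (hW a).1 ha, map_one, MulAut.one_apply]
  · rw [← Nat.card_prod]
    refine Nat.card_eq_of_bijective (fun p : W × W' => (p.1 : M) * p.2) ⟨?_, fun m => ?_⟩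
    · rintro ⟨a, b⟩ ⟨a', b'⟩ (he : (a : M) * b = a' * b')
      have h1 : (a' : M)⁻¹ * a = b' * (b : M)⁻¹ := by
        rw [inv_mul_eq_iff_eq_mul, ← mul_assoc, ← he, mul_inv_cancel_right]
      have hm : (a' : M)⁻¹ * a ∈ W' := h1 ▸ W'.mul_mem b'.2 (W'.inv_mem b.2)
      have h2 : (a' : M)⁻¹ * a = 1 := hB.eq_one_of_fix_inv (τ := σ e)
        ((hW _).1 (W.mul_mem (W.inv_mem a'.2) a.2)) (mem_mns.1 ((hW'' _).1 hm))
      rw [inv_mul_eq_one] at h2
      rw [← h2] at he
      exact Prod.ext (Subtype.ext h2.symm) (Subtype.ext (mul_left_cancel he))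
    · obtain ⟨a, ha, b, hb, rfl⟩ := hsplit m
      exact ⟨(⟨a, ha⟩, ⟨b, hb⟩), rfl⟩

namespace Split

variable {M : Type w} [CommGroup M] {U : Type y} [CommGroup U] {T : Type x} [Group T]
  {B : M →* M →* U} {σ : T →* MulAut M} {z e : T} {W W' : Subgroup M} (P : Split B σ z e W W')
include P

theorem map_memW {t : T} {a : M} (ha : a ∈ W) :
    σ (t * e * t⁻¹) (σ t a) = σ t a := by
  rw [← MulAut.mul_apply, ← map_mul, inv_mul_cancel_right, map_mul, MulAut.mul_apply, (P.memW a).1 ha]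

theorem map_memW' {t : T} {a : M} (ha : a ∈ W') :
    σ (t * e * t⁻¹ * z) (σ t a) = σ t a := by
  rw [← MulAut.mul_apply, ← map_mul, show t * e * t⁻¹ * z * t = t * (e * z) by
    rw [mul_assoc _ z t, ← P.zc t]; group, map_mul, MulAut.mul_apply, (P.memW' a).1 ha]

theorem fix_left {t : T} (ht : t * e * t⁻¹ = e) {a : M} (ha : a ∈ W) : σ t a ∈ W := by
  rw [P.memW]
  have h := P.map_memW (t := t) ha
  rwa [ht] at h

theorem fix_right {t : T} (ht : t * e * t⁻¹ = e) {a : M} (ha : a ∈ W') : σ t a ∈ W' := by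
  rw [P.memW']
  have h := P.map_memW' (t := t) ha
  rwa [ht] at h

theorem move_left {t : T} (ht : t * e * t⁻¹ = e * z) {a : M} (ha : a ∈ W) : σ t a ∈ W' := by
  rw [P.memW']
  have h := P.map_memW (t := t) ha
  rwa [ht] at h

theorem move_right {t : T} (ht : t * e * t⁻¹ = e * z) {a : M} (ha : a ∈ W') : σ t a ∈ W := by
  rw [P.memW]
  have h := P.map_memW' (t := t) ha
  rwa [ht, mul_assoc e, P.sqz, mul_one] at h

/-- The stabiliser. -/
theorem exists_stab {g : T} (hg : g * e * g⁻¹ = e * z) :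
    ∃ S : Subgroup T, (∀ t, t ∈ S ↔ t * e * t⁻¹ = e) ∧ g * g ∈ S ∧
      (∀ t, t ∈ S ∨ g⁻¹ * t ∈ S) ∧ (∀ s ∈ S, g⁻¹ * s * g ∈ S) := by
  refine ⟨Subgroup.centralizer {e}, fun t => ?_, ?_, fun t => ?_, fun s hs => ?_⟩
  · rw [Subgroup.mem_centralizer_singleton_iff, mul_inv_eq_iff_eq_mul]
  all_goals
    simp only [Subgroup.mem_centralizer_singleton_iff] at *
  · have hge : g * e = e * z * g := mul_inv_eq_iff_eq_mul.1 hg
    rw [mul_assoc g g e, hge, ← mul_assoc, ← mul_assoc, hge, mul_assoc (e * z) g z, P.zc g, ← mul_assoc,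
      mul_assoc e z z, P.sqz, mul_one, mul_assoc]
  · rcases P.conj t with h | h
    · exact Or.inl (mul_inv_eq_iff_eq_mul.1 h)
    · refine Or.inr ?_
      have hgi : g⁻¹ * (e * z) * g = e := by rw [← hg]; group
      calc g⁻¹ * t * e = g⁻¹ * (t * e * t⁻¹) * g * (g⁻¹ * t) := by group
        _ = _ := by rw [h, hgi]
  · have hgi : g * e * g⁻¹ = e * z := hg
    have hsez : s * (e * z) = e * z * s := by
      rw [← mul_assoc, hs, mul_assoc, P.zc s, ← mul_assoc]
    calc g⁻¹ * s * g * e = g⁻¹ * (s * (g * e * g⁻¹)) * g := by group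
      _ = g⁻¹ * (e * z * s) * g := by rw [hgi, hsez]
      _ = g⁻¹ * ((g * e * g⁻¹) * s) * g := by rw [hgi]
      _ = _ := by group

end Split

/-- Two-groups of isometries of a group of order `81` with `-1` in the second derived subgroup. -/
theorem card_le_128 {M : Type w} [CommGroup M] [Finite M] {U : Type y} [CommGroup U] {T : Type x}
    [Group T] [Finite T] {B : M →* M →* U} (hB : Form B) (σ : T →* MulAut M)
    (hσi : ∀ t, σ t ∈ isom B) (hinj : Function.Injective σ) (hT : IsPGroup 2 T) (hM : Nat.card M = 81)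
    {z : T} (hz : z ∈ der (⊤ : Subgroup T) 2) (hzinv : ∀ a, σ z a = a⁻¹) (hz1 : z ≠ 1) :
    Nat.card T ≤ 128 := by
  obtain ⟨e, W, W', P⟩ := exists_split hB σ hσi hinj hT hz hzinv hz1
  have hcard := P.card
  rw [hM] at hcard
  have h9 : Nat.card W = 9 ∧ Nat.card W' = 9 := by
    have h1 := P.neW
    have h2 := P.neW'
    have h3 := card_ne_prime hB P.ndW (q := 3) Nat.prime_three
    have h4 := card_ne_prime hB P.ndW' (q := 3) Nat.prime_three
    have h5 : Nat.card W ∣ 3 ^ 4 := Dvd.intro _ hcard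
    obtain ⟨j, hj, hWj⟩ := (Nat.dvd_prime_pow Nat.prime_three).1 h5
    interval_cases j <;> rw [hWj] at hcard h1 h3 <;> simp only [pow_zero, pow_one, Nat.reducePow] at * <;> omega
  obtain ⟨g, hg⟩ : ∃ g, ∀ t, t * e * t⁻¹ = e ∨ (g * e * g⁻¹ = e * z ∧ t * e * t⁻¹ = e * z) := by
    by_cases h : ∃ g, g * e * g⁻¹ = e * z
    · obtain ⟨g, hg⟩ := h
      exact ⟨g, fun t => (P.conj t).imp id fun ht => ⟨hg, ht⟩⟩
    · push Not at h
      exact ⟨1, fun t => Or.inl ((P.conj t).resolve_right (h t))⟩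
  have hS : ∀ S : Subgroup T, (∀ t ∈ S, t * e * t⁻¹ = e) → Nat.card S ≤ 64 := by
    intro S hSe
    let p := restrictAut (σ.comp S.subtype) W fun t a ha => P.fix_left (hSe t t.2) ha
    let p' := restrictAut (σ.comp S.subtype) W' fun t a ha => P.fix_right (hSe t t.2) ha
    have hb : ∀ (X : Subgroup M) (hX : ∀ a ∈ X, (∀ k ∈ X, B k a = 1) → a = 1) (h9 : Nat.card X = 9)
        (q : S →* MulAut X), (∀ s a, (q s a : M) = σ s a) → Nat.card q.range ≤ 8 := by
      intro X hX h9 q hq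
      obtain ⟨B', hB', hB'e⟩ := form_restrict hB X hX
      have hd := card_le_of_prime_sq hB' Nat.prime_three (q := 3) h9
        (hT.to_subgroup S |>.of_surjective q.rangeRestrict q.rangeRestrict_surjective) (by
        rintro _ ⟨s, rfl⟩
        intro a b
        rw [hB'e, hB'e, hq, hq, hσi]
        )
      exact Nat.le_of_dvd (by norm_num) hd
    have hle : Nat.card S ≤ Nat.card (p.range × p'.range) := Nat.card_le_card_of_injective
      (fun s => (p.rangeRestrict s, p'.rangeRestrict s)) fun s t h => by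
      refine Subtype.ext (hinj (MulEquiv.ext fun m => ?_))
      obtain ⟨a, ha, b, hb', rfl⟩ := P.split m
      have h1 := congrArg (fun q : p.range × p'.range => ((q.1 : MulAut W) ⟨a, ha⟩ : M)) h
      have h2 := congrArg (fun q : p.range × p'.range => ((q.2 : MulAut W') ⟨b, hb'⟩ : M)) h
      rw [map_mul, map_mul]
      exact congrArg₂ (· * ·) h1 h2
    rw [Nat.card_prod] at hle
    exact hle.trans (Nat.mul_le_mul (hb W P.ndW h9.1 p fun _ _ => rfl)
      (hb W' P.ndW' h9.2 p' fun _ _ => rfl))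
  by_cases h : g * e * g⁻¹ = e * z
  · obtain ⟨S, hmem, -, hdich, -⟩ := P.exists_stab h
    have := hS S fun t ht => (hmem t).1 ht
    have := card_le_two_mul S g hdich
    omega
  · have := hS ⊤ fun t _ => (hg t).resolve_right fun h' => h h'.1
    rw [Subgroup.card_top] at this
    omega

namespace Weil

variable {K : Type u} [Field K] [CharP K 2] [IsAlgClosed K] {V : Type v} [AddCommGroup V] [Module K V]
  [FiniteDimensional K V] {M : Type w} [CommGroup M] [Finite M] {T : Type w} [Group T] [Finite T]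
  (d : Weil K V M T)

omit [CharP K 2] [IsAlgClosed K] [FiniteDimensional K V] [Finite M] [Finite T] in
theorem map_der_top {T' : Type x} [Group T'] (f : T →* T') {k : ℕ} {t : T}
    (ht : t ∈ der (⊤ : Subgroup T) k) : f t ∈ der (⊤ : Subgroup T') k := by
  have h : (der (⊤ : Subgroup T) k).map f ≤ der ⊤ k := by rw [map_der]; exact der_mono le_top k
  exact h ⟨t, ht, rfl⟩

/-- A piece on an invariant nondegenerate subgroup. -/
theorem exists_piece [Nontrivial V] (hT : IsPGroup 2 T) {W W' : Subgroup M}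
    (h : d.Orth W W') (hW : ∀ t, ∀ a ∈ W, d.σ t a ∈ W) :
    ∃ (V₁ : Type v) (_ : AddCommGroup V₁) (_ : Module K V₁) (_ : FiniteDimensional K V₁)
      (_ : Nontrivial V₁) (d₁ : Weil K V₁ W T), d₁.Simple ∧ (∀ t a, (d₁.σ t a : M) = d.σ t a) ∧
      (∀ k, d.Fail k → d₁.Fail k) ∧ (∀ k, chain d.ψ ⊤ k ⊤ = ⊥ → chain d₁.ψ ⊤ k ⊤ = ⊥) ∧
      finrank K V₁ * finrank K V₁ = Nat.card W := by
  haveI := Fintype.ofFinite M
  haveI : Nontrivial (Dual K V) := Module.nontrivial_of_finrank_pos (R := K) (by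
    rw [Subspace.dual_finrank_eq]; exact Module.finrank_pos)
  let d₀ := d.restrict (MonoidHom.id T) W hW fun _ ha hk => h.nd ha hk
  obtain ⟨U, hU, -, hinv⟩ := d₀.dual.exists_min_invariant ⊤ top_ne_bot (fun _ _ _ => trivial) ⊤
    (hT.to_subgroup ⊤) fun _ _ _ _ => trivial
  have hψ := d₀.coann_ψ fun t φ hφ => hinv t trivial φ hφ
  obtain ⟨hsimp, hnt, hdim⟩ := d₀.simple_quot hU hψ
  haveI := Fintype.ofFinite W
  refine ⟨V ⧸ U.dualCoannihilator, inferInstance, inferInstance, inferInstance, hnt,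
    d₀.quot _ (d₀.coann_inv hU.2.1) hψ, hsimp, fun t a => rfl, fun k hk => ?_, fun k hk => ?_, ?_⟩
  · exact d₀.fail_quot (show d₀.Fail k from hk)
  · exact d₀.chain_quot (show chain d₀.ψ ⊤ k ⊤ = ⊥ from hk)
  · rw [hdim, d₀.dual.finrank_isMin hU, Nat.card_eq_fintype_card]

set_option maxHeartbeats 1000000 in
/-- A piece on one of two exchanged halves. -/
theorem exists_half [Nontrivial V] (hT : IsPGroup 2 T) (hs : d.Simple) {W W' : Subgroup M}
    {S : Subgroup T} {g : T} (H : d.Halves W W' S g) :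
    ∃ (V₁ : Type v) (_ : AddCommGroup V₁) (_ : Module K V₁) (_ : FiniteDimensional K V₁)
      (_ : Nontrivial V₁) (d₁ : Weil K V₁ W ↥⁅(⊤ : Subgroup T), (⊤ : Subgroup T)⁆),
      d₁.Simple ∧ (∀ t a, (d₁.σ t a : M) = d.σ t a) ∧
      (∀ k, d.Fail (k + 1) → d₁.Fail k) ∧ finrank K V₁ * finrank K V₁ = Nat.card W ∧
      (finrank K d₁.fixCov ≤ 1 → finrank K d.fixCov * finrank K d.fixCov ≤ Nat.card W' ∧
        ∀ (u : T), (∀ a ∈ W, d.σ u a = a) → (∀ a ∈ W', d.σ u a = a⁻¹) →
          2 * finrank K d.fixCov ≤ finrank K V₁ + 1) := by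
  haveI := Fintype.ofFinite M
  obtain ⟨U, hU, hUS⟩ := H.exists_min hT
  have hU' : H.derLeft.dual.IsMin U := hU
  have hψ : ∀ t, ∀ v ∈ U.dualCoannihilator, H.derLeft.ψ t v ∈ U.dualCoannihilator :=
    H.derLeft.coann_ψ fun t φ hφ => hUS ⟨t, H.commutator_le t.2⟩ φ hφ
  obtain ⟨hsimp, hnt, hdim⟩ := H.derLeft.simple_quot hU' hψ
  haveI := Fintype.ofFinite W
  refine ⟨V ⧸ U.dualCoannihilator, inferInstance, inferInstance, inferInstance, hnt,
    H.derLeft.quot _ (H.derLeft.coann_inv hU'.2.1) hψ, hsimp, fun t a => rfl,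
    fun k hk => H.fail hT hs hU hUS _ _ hk, ?_, fun hc => ?_⟩
  · rw [hdim, H.derLeft.dual.finrank_isMin hU', Nat.card_eq_fintype_card]
  set d₁ := H.derLeft.quot _ (H.derLeft.coann_inv hU'.2.1) hψ
  have hlift : ∀ η ∈ U, (∀ r ∈ ⁅(⊤ : Subgroup T), (⊤ : Subgroup T)⁆, d.dual.ψ r η = η) →
      ∃ θ ∈ d₁.fixCov, θ.comp (U.dualCoannihilator).mkQ = η := by
    intro η hη hfix
    refine ⟨(U.dualCoannihilator).liftQ η (fun v hv => ?_), ?_, Submodule.liftQ_mkQ _ _ _⟩
    · exact (Submodule.mem_dualCoannihilator v).1 hv η hη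
    · intro t v
      induction v using Submodule.Quotient.induction_on with
      | _ v =>
        have h1 := LinearMap.congr_fun (hfix _ (inv_mem t.2)) v
        rw [dual_ψ, inv_inv] at h1
        exact h1
  have hh := H.fixCov_le hT hs hU hUS fun η hη hηf p hp hp0 hpf => by
    obtain ⟨θ, hθ, hθη⟩ := hlift η hη hηf
    obtain ⟨π, hπ, hπp⟩ := hlift p hp hpf
    have hπ0 : π ≠ 0 := fun e => hp0 (by rw [← hπp, e]; rfl)
    have hspan : Submodule.span K {π} = d₁.fixCov := Submodule.eq_of_le_of_finrank_le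
      ((Submodule.span_singleton_le_iff_mem _ _).2 hπ) (by rw [finrank_span_singleton hπ0]; exact hc)
    obtain ⟨c, hc'⟩ := Submodule.mem_span_singleton.1 (hspan.ge hθ)
    refine ⟨c, ?_⟩
    rw [← hθη, ← hπp, ← hc']
    rfl
  rw [hdim]
  exact hh

end Weil

end CfsgLib.FGS74.Dlen
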