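import Cfsg.Agent.FGS74.Dlen.Chain
import Mathlib.GroupTheory.Commutator.Basic
import Mathlib.GroupTheory.Index

/-!
# Two-groups: an involution with two conjugates, and subgroups of a wreath product by two
-/

set_option autoImplicit false
set_option linter.style.haveILetI false

open scoped commutatorElement

namespace CfsgLib.FGS74.Dlen

universe x y z'

section Four

variable {G : Type x} [Group G] [Finite G]

/-- A normal subgroup not contained in another has an element central modulo it. -/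
theorem exists_central_mod (hG : IsPGroup 2 G) (N Z : Subgroup G) [N.Normal] [Z.Normal]
    (hNZ : ¬ N ≤ Z) : ∃ e ∈ N, e ∉ Z ∧ ∀ g : G, g * e * g⁻¹ * e⁻¹ ∈ Z := by
  haveI := Fact.mk Nat.prime_two
  let π := QuotientGroup.mk' Z
  let N' : Subgroup (G ⧸ Z) := N.map π
  haveI : N'.Normal := Subgroup.Normal.map inferInstance π (QuotientGroup.mk'_surjective Z)
  have hQ : IsPGroup 2 (G ⧸ Z) := hG.to_quotient Z
  letI : MulAction (G ⧸ Z) N' :=
    { smul := fun q n => MulAut.conjNormal q n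
      one_smul := fun n => by show MulAut.conjNormal (1 : G ⧸ Z) n = n; rw [map_one]; rfl
      mul_smul := fun a b n => by
        show MulAut.conjNormal (a * b) n = MulAut.conjNormal a (MulAut.conjNormal b n)
        rw [map_mul]; rfl }
  haveI : Nontrivial N' := by
    obtain ⟨n, hn, hnZ⟩ := SetLike.not_le_iff_exists.1 hNZ
    refine ⟨⟨⟨π n, n, hn, rfl⟩, 1, fun h => hnZ ?_⟩⟩
    exact (QuotientGroup.eq_one_iff n).1 (congrArg Subtype.val h)
  have hdvd : 2 ∣ Nat.card N' := by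
    obtain ⟨k, hk⟩ := IsPGroup.iff_card.1 (hQ.to_subgroup N')
    have h1 : 1 < Nat.card N' := Finite.one_lt_card
    rw [hk] at h1 ⊢
    refine dvd_pow_self 2 ?_
    rintro rfl
    simp at h1
  have h1 : (1 : N') ∈ MulAction.fixedPoints (G ⧸ Z) N' := fun q => map_one _
  obtain ⟨b, hb, hne⟩ := hQ.exists_fixed_point_of_prime_dvd_card_of_fixed_point N' hdvd h1
  obtain ⟨e, he, hbe⟩ := b.2
  refine ⟨e, he, fun h => hne (Subtype.ext ?_), fun g => (QuotientGroup.eq_one_iff _).1 ?_⟩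
  · rw [OneMemClass.coe_one, ← hbe]
    exact ((QuotientGroup.eq_one_iff e).2 h).symm
  · have h : π g * (b : G ⧸ Z) * (π g)⁻¹ = b := congrArg Subtype.val (hb (π g))
    rw [← hbe] at h
    show π (g * e * g⁻¹ * e⁻¹) = 1
    rw [map_mul, map_mul, map_mul, map_inv, map_inv, h, mul_inv_cancel]

/-- An involution whose conjugates lie in its coset modulo a central involution. -/
theorem four_group (hG : IsPGroup 2 G) {z : G} (hzc : ∀ g, g * z = z * g) (hz1 : z ≠ 1)
    (hzz : z * z = 1) (hzX : z ∈ ⁅(⊤ : Subgroup G), (⊤ : Subgroup G)⁆)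
    (hna : ∃ a ∈ ⁅(⊤ : Subgroup G), (⊤ : Subgroup G)⁆,
      ∃ b ∈ ⁅(⊤ : Subgroup G), (⊤ : Subgroup G)⁆, a * b ≠ b * a) :
    ∃ e : G, e * e = 1 ∧ e ≠ 1 ∧ e ≠ z ∧ ∀ g, g * e * g⁻¹ = e ∨ g * e * g⁻¹ = e * z := by
  classical
  set X : Subgroup G := ⁅(⊤ : Subgroup G), (⊤ : Subgroup G)⁆ with hX
  haveI : X.Normal := Subgroup.commutator_normal ⊤ ⊤
  set Z : Subgroup G := X ⊓ Subgroup.centralizer (X : Set G) with hZ
  haveI : Z.Normal := inferInstance
  have hmemZ : ∀ {c}, c ∈ Z ↔ c ∈ X ∧ ∀ b ∈ X, b * c = c * b := fun {c} =>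
    and_congr Iff.rfl Subgroup.mem_centralizer_iff
  have hZc : ∀ {a b}, a ∈ Z → b ∈ Z → a * b = b * a := fun {a b} ha hb =>
    ((hmemZ.1 ha).2 b hb.1).symm
  have hzZ : z ∈ Z := hmemZ.2 ⟨hzX, fun b _ => hzc b⟩
  by_cases hA : ∃ c ∈ Z, c * c = 1 ∧ c ≠ 1 ∧ c ≠ z
  · obtain ⟨c, hc, hcc, hc1, hcz⟩ := hA
    let Ω : Subgroup G :=
      { carrier := {a | a ∈ Z ∧ a * a = 1}
        one_mem' := ⟨Z.one_mem, one_mul 1⟩
        mul_mem' := fun {a b} ha hb => ⟨Z.mul_mem ha.1 hb.1, by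
          rw [mul_assoc, ← mul_assoc b, hZc hb.1 ha.1, mul_assoc a b b, hb.2, mul_one, ha.2]⟩
        inv_mem' := fun {a} ha => ⟨Z.inv_mem ha.1, by rw [← mul_inv_rev, ha.2, inv_one]⟩ }
    haveI : Ω.Normal := ⟨fun a ha g => ⟨Subgroup.Normal.conj_mem inferInstance a ha.1 g, by
      rw [show g * a * g⁻¹ * (g * a * g⁻¹) = g * (a * a) * g⁻¹ by group, ha.2, mul_one,
        mul_inv_cancel]⟩⟩
    let zc : Subgroup G :=
      { carrier := {a | a = 1 ∨ a = z}
        one_mem' := Or.inl rfl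
        mul_mem' := fun {a b} ha hb => by
          rcases ha with rfl | rfl <;> rcases hb with rfl | rfl <;> simp [hzz]
        inv_mem' := fun {a} ha => by
          rcases ha with rfl | rfl
          · simp
          · exact Or.inr (inv_eq_of_mul_eq_one_right hzz) }
    haveI : zc.Normal := ⟨fun a ha g => by
      rcases ha with rfl | rfl
      · exact Or.inl (by group)
      · exact Or.inr (by rw [hzc g, mul_inv_cancel_right])⟩
    obtain ⟨e, he, hne, hcen⟩ := exists_central_mod hG Ω zc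
      (show ¬ Ω ≤ zc from fun h => (h (show c ∈ Ω from ⟨hc, hcc⟩)).elim hc1 hcz)
    refine ⟨e, he.2, fun h => hne (Or.inl h), fun h => hne (Or.inr h), fun g => ?_⟩
    rcases hcen g with h | h
    · exact Or.inl (mul_inv_eq_one.1 h)
    · refine Or.inr ?_
      rw [mul_inv_eq_iff_eq_mul] at h
      rw [h, hzc e]
  push Not at hA
  have huniqZ : ∀ c ∈ Z, c * c = 1 → c = 1 ∨ c = z := fun c hc h =>
    (em (c = 1)).imp id fun h1 => hA c hc h h1
  have hXZ : ¬ X ≤ Z := by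
    obtain ⟨a, ha, b, hb, hab⟩ := hna
    exact fun h => hab ((hmemZ.1 (h hb)).2 a ha)
  obtain ⟨l₀, hl₀X, hl₀Z, hl₀c⟩ := exists_central_mod hG X Z hXZ
  -- a square root of an element of `Z`
  obtain ⟨l, hlX, hlZ, hllZ, hlc⟩ : ∃ l ∈ X, l ∉ Z ∧ l * l ∈ Z ∧ ∀ g, g * l * g⁻¹ * l⁻¹ ∈ Z := by
    obtain ⟨m, hm⟩ := hG l₀
    have hex : ∃ j, l₀ ^ 2 ^ j ∈ Z := ⟨m, by rw [hm]; exact Z.one_mem⟩
    obtain ⟨j, hj⟩ : ∃ j, Nat.find hex = j + 1 := by
      refine Nat.exists_eq_succ_of_ne_zero fun h => hl₀Z ?_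
      simpa [h] using Nat.find_spec hex
    refine ⟨l₀ ^ 2 ^ j, X.pow_mem hl₀X _, Nat.find_min hex (by omega), ?_, fun g => ?_⟩
    · rw [← pow_add, ← two_mul, ← pow_succ', ← hj]
      exact Nat.find_spec hex
    · have h : ∀ n : ℕ, g * l₀ ^ n * g⁻¹ * (l₀ ^ n)⁻¹ ∈ Z := fun n => by
        rw [← QuotientGroup.eq_one_iff (N := Z)]
        have h1 := (QuotientGroup.eq_one_iff (N := Z) _).2 (hl₀c g)
        simp only [QuotientGroup.mk_mul, QuotientGroup.mk_inv, mul_inv_eq_one] at h1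
        simp only [QuotientGroup.mk_mul, QuotientGroup.mk_inv, QuotientGroup.mk_pow, mul_inv_eq_one]
        rw [← conj_pow, h1]
      exact h _
  have hlcom : ∀ a ∈ Z, l * a = a * l := fun a ha => (hmemZ.1 ha).2 l hlX
  let L : Subgroup G :=
    { carrier := {y | y ∈ Z ∨ ∃ a ∈ Z, y = a * l}
      one_mem' := Or.inl Z.one_mem
      mul_mem' := fun {a b} ha hb => by
        rcases ha with ha | ⟨a', ha', rfl⟩ <;> rcases hb with hb | ⟨b', hb', rfl⟩
        · exact Or.inl (Z.mul_mem ha hb)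
        · exact Or.inr ⟨a * b', Z.mul_mem ha hb', (mul_assoc _ _ _).symm⟩
        · exact Or.inr ⟨a' * b, Z.mul_mem ha' hb, by rw [mul_assoc, hlcom b hb, mul_assoc]⟩
        · refine Or.inl ?_
          rw [show a' * l * (b' * l) = a' * (l * b') * l by group, hlcom b' hb',
            show a' * (b' * l) * l = a' * b' * (l * l) by group]
          exact Z.mul_mem (Z.mul_mem ha' hb') hllZ
      inv_mem' := fun {a} ha => by
        rcases ha with ha | ⟨a', ha', rfl⟩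
        · exact Or.inl (Z.inv_mem ha)
        · refine Or.inr ⟨(l * l)⁻¹ * a'⁻¹, Z.mul_mem (Z.inv_mem hllZ) (Z.inv_mem ha'), ?_⟩
          rw [mul_assoc, ← hlcom _ (Z.inv_mem ha')]
          group }
  have hLcom : ∀ {a b}, a ∈ L → b ∈ L → a * b = b * a := by
    intro a b ha hb
    have hc1 : ∀ {p}, p ∈ L → ∀ q ∈ Z, Commute p q := by
      intro p hp q hq
      rcases hp with hp | ⟨p', hp', rfl⟩
      · exact hZc hp hq
      · exact (Commute.mul_left (hZc hp' hq : Commute p' q) (hlcom q hq))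
    rcases hb with hb | ⟨b', hb', rfl⟩
    · exact (hc1 ha b hb).eq
    · refine ((hc1 ha b' hb').mul_right ?_).eq
      rcases ha with ha | ⟨a', ha', rfl⟩
      · exact (hlcom a ha).symm
      · exact Commute.mul_left (hlcom a' ha').symm (Commute.refl l)
  have hconj : ∀ {y}, y ∈ L → ∀ g, g * y * g⁻¹ ∈ L := by
    intro y hy g
    rcases hy with hy | ⟨a, ha, rfl⟩
    · exact Or.inl (Subgroup.Normal.conj_mem inferInstance y hy g)
    · refine Or.inr ⟨g * a * g⁻¹ * (g * l * g⁻¹ * l⁻¹),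
        Z.mul_mem (Subgroup.Normal.conj_mem inferInstance a ha g) (hlc g), by group⟩
  by_cases hB : ∃ e ∈ L, e * e = 1 ∧ e ≠ 1 ∧ e ≠ z
  · obtain ⟨e, he, hee, he1, hez⟩ := hB
    have heX : e ∈ X := he.elim (fun h => h.1) fun ⟨a, ha, h⟩ => h ▸ X.mul_mem ha.1 hlX
    refine ⟨e, hee, he1, hez, fun g => ?_⟩
    have hge : g * e * g⁻¹ * (g * e * g⁻¹) = 1 := by
      rw [show g * e * g⁻¹ * (g * e * g⁻¹) = g * (e * e) * g⁻¹ by group, hee, mul_one, mul_inv_cancel]
    set c := g * e * g⁻¹ * e⁻¹ with hc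
    have hcZ : c ∈ Z := by
      rcases he with he | ⟨a, ha, rfl⟩
      · exact Z.mul_mem (Subgroup.Normal.conj_mem inferInstance e he g) (Z.inv_mem he)
      · rw [hc, show g * (a * l) * g⁻¹ * (a * l)⁻¹ = g * a * g⁻¹ * (g * l * g⁻¹ * l⁻¹) * a⁻¹ by group]
        exact Z.mul_mem (Z.mul_mem (Subgroup.Normal.conj_mem inferInstance a ha g) (hlc g))
          (Z.inv_mem ha)
    have hce : e * c = c * e := (hmemZ.1 hcZ).2 e heX
    have hg : g * e * g⁻¹ = c * e := by rw [hc, inv_mul_cancel_right]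
    have hcc : c * c = 1 := by
      rw [hg, show c * e * (c * e) = c * (e * c) * e by group, hce,
        show c * (c * e) * e = c * c * (e * e) by group, hee, mul_one] at hge
      exact hge
    rcases huniqZ c hcZ hcc with h | h
    · exact Or.inl (by rw [hg, h, one_mul])
    · exact Or.inr (by rw [hg, h, hzc e])
  exfalso
  push Not at hB
  -- `L` is cyclic
  obtain ⟨w, hw, hmax⟩ := (Set.toFinite {y : G | y ∈ L}).exists_maximalFor orderOf _ ⟨1, L.one_mem⟩
  have hord : ∀ y : G, ∃ j, orderOf y = 2 ^ j := fun y => (IsPGroup.iff_orderOf.1 hG) y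
  obtain ⟨m, hm⟩ := hord w
  have hcyc : ∀ i, ∀ y ∈ L, orderOf y = 2 ^ i → y ∈ Subgroup.zpowers w := by
    intro i
    induction i using Nat.strong_induction_on with
    | _ i ih =>
      intro y hy hyi
      rcases Nat.eq_zero_or_pos i with rfl | hi
      · rw [orderOf_eq_one_iff.1 (show orderOf y = 1 by simpa using hyi)]
        exact one_mem _
      have him : i ≤ m := by
        by_contra hlt
        have h1 := hmax (show y ∈ {y : G | y ∈ L} from hy)
          (by rw [hm, hyi]; exact Nat.pow_le_pow_right two_pos (by omega))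
        rw [hm, hyi] at h1
        exact hlt ((Nat.pow_le_pow_iff_right (by norm_num)).1 h1)
      have hy2 : orderOf (y ^ 2) = 2 ^ (i - 1) := by
        rw [orderOf_pow' y two_ne_zero, hyi, show Nat.gcd (2 ^ i) 2 = 2 from
          Nat.gcd_eq_right (dvd_pow_self 2 (by omega))]
        conv_lhs => rw [show i = i - 1 + 1 by omega, pow_succ]
        rw [Nat.mul_div_cancel _ two_pos]
      obtain ⟨j, hj⟩ := Subgroup.mem_zpowers_iff.1 (ih (i - 1) (by omega) _ (L.pow_mem hy 2) hy2)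
      obtain ⟨q, hq⟩ : (2 : ℤ) ∣ j := by
        have h1 : w ^ (j * (2 ^ (i - 1) : ℕ)) = 1 := by
          rw [zpow_mul, hj, zpow_natCast, ← hy2, pow_orderOf_eq_one]
        rw [← orderOf_dvd_iff_zpow_eq_one, hm] at h1
        push_cast at h1
        obtain ⟨t, rfl⟩ : ∃ t, m = i - 1 + (t + 1) := ⟨m - i, by omega⟩
        rw [pow_add, mul_comm j] at h1
        exact (dvd_pow_self (2 : ℤ) t.succ_ne_zero).trans
          (Int.dvd_of_mul_dvd_mul_left (by positivity) h1)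
      have hwq : w ^ q ∈ L := L.zpow_mem hw q
      have hsq : y * (w ^ q)⁻¹ * (y * (w ^ q)⁻¹) = 1 := by
        rw [mul_assoc, ← mul_assoc ((w ^ q)⁻¹), hLcom (L.inv_mem hwq) hy, mul_assoc y ((w ^ q)⁻¹),
          ← mul_assoc, ← pow_two, ← hj, hq, ← mul_inv_rev, ← zpow_add, ← two_mul, mul_inv_cancel]
      have hzw : z ∈ Subgroup.zpowers w := by
        have hm0 : m ≠ 0 := by omega
        set u := w ^ 2 ^ (m - 1)
        have hu1 : u ≠ 1 := pow_ne_one_of_lt_orderOf (pow_pos two_pos _).ne'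
          (by rw [hm]; exact Nat.pow_lt_pow_right one_lt_two (by omega))
        have hu2 : u * u = 1 := by
          rw [← pow_add, ← two_mul, ← pow_succ', show m - 1 + 1 = m by omega, ← hm, pow_orderOf_eq_one]
        rw [← hB u (L.pow_mem hw _) hu2 hu1]
        exact Subgroup.pow_mem _ (Subgroup.mem_zpowers w) _
      have hmem : y * (w ^ q)⁻¹ ∈ Subgroup.zpowers w := by
        by_cases h1 : y * (w ^ q)⁻¹ = 1
        · rw [h1]; exact one_mem _
        · rw [hB _ (L.mul_mem hy (L.inv_mem hwq)) hsq h1]; exact hzw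
      rw [← inv_mul_cancel_right y (w ^ q)]
      exact mul_mem hmem (zpow_mem (Subgroup.mem_zpowers w) q)
  have hpow : ∀ g, ∃ i : ℤ, g * w * g⁻¹ = w ^ i := fun g => by
    obtain ⟨i, hi⟩ := hord (g * w * g⁻¹)
    obtain ⟨j, hj⟩ := Subgroup.mem_zpowers_iff.1 (hcyc i _ (hconj hw g) hi)
    exact ⟨j, hj.symm⟩
  have hcent : X ≤ Subgroup.centralizer ({w} : Set G) := Subgroup.commutator_le.2 fun a _ b _ => by
    rw [Subgroup.mem_centralizer_iff]
    intro x hx
    rw [Set.mem_singleton_iff] at hx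
    rw [hx]
    obtain ⟨i, hi⟩ := hpow a⁻¹
    obtain ⟨j, hj⟩ := hpow b⁻¹
    rw [inv_inv] at hi hj
    have hA : a⁻¹ * w ^ j * a = (a⁻¹ * w * a) ^ j := by
      have := conj_zpow (a := a⁻¹) (b := w) (i := j)
      rw [inv_inv] at this
      exact this.symm
    have hB' : b⁻¹ * w ^ i * b = (b⁻¹ * w * b) ^ i := by
      have := conj_zpow (a := b⁻¹) (b := w) (i := i)
      rw [inv_inv] at this
      exact this.symm
    have hab : (a * b)⁻¹ * w * (a * b) = (b * a)⁻¹ * w * (b * a) := by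
      rw [show (a * b)⁻¹ * w * (a * b) = b⁻¹ * (a⁻¹ * w * a) * b by group,
        show (b * a)⁻¹ * w * (b * a) = a⁻¹ * (b⁻¹ * w * b) * a by group, hi, hj, hA, hB', hi, hj,
        ← zpow_mul, ← zpow_mul, mul_comm]
    rw [commutatorElement_def]
    calc w * (a * b * a⁻¹ * b⁻¹)
        = (a * b) * ((a * b)⁻¹ * w * (a * b)) * (b * a)⁻¹ := by group
      _ = _ := by rw [hab]; group
  refine hlZ (hmemZ.2 ⟨hlX, fun b hb => ?_⟩)
  obtain ⟨i, hi⟩ := hord l
  obtain ⟨j, hj⟩ := Subgroup.mem_zpowers_iff.1 (hcyc i l (Or.inr ⟨1, Z.one_mem, (one_mul l).symm⟩) hi)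
  have hwb : Commute b w := ((Subgroup.mem_centralizer_iff.1 (hcent hb)) w rfl).symm
  rw [← hj]
  exact (hwb.zpow_right j).eq

end Four

section Wreath

variable {T : Type x} [Group T] {S : Subgroup T} {g : T}

/-- A homomorphism of `S` into an abelian group of exponent two that `g` respects kills commutators. -/
theorem commutator_le_kill (hsq : g * g ∈ S) (hconj : ∀ s ∈ S, g⁻¹ * s * g ∈ S)
    (hdich : ∀ t, t ∈ S ∨ g⁻¹ * t ∈ S) {C : Type y} [CommGroup C]
    (ζ : S →* C) (hζ : ∀ s : S, ζ ⟨g⁻¹ * s * g, hconj s s.2⟩ = ζ s) {r : T}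
    (hr : r ∈ ⁅(⊤ : Subgroup T), (⊤ : Subgroup T)⁆) : ∃ h : r ∈ S, ζ ⟨r, h⟩ = 1 := by
  let N : Subgroup T := (ζ.ker).map S.subtype
  have hmem : ∀ {t}, t ∈ N ↔ ∃ h : t ∈ S, ζ ⟨t, h⟩ = 1 := fun {t} => by
    constructor
    · rintro ⟨s, hs, rfl⟩; exact ⟨s.2, MonoidHom.mem_ker.1 hs⟩
    · rintro ⟨h, h1⟩; exact ⟨⟨t, h⟩, MonoidHom.mem_ker.2 h1, rfl⟩
  have hg : ∀ {t}, t ∈ N → g⁻¹ * t * g ∈ N := fun {t} ht => by
    obtain ⟨h, h1⟩ := hmem.1 ht
    exact hmem.2 ⟨hconj t h, (hζ ⟨t, h⟩).trans h1⟩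
  have hS : ∀ s ∈ S, ∀ {t}, t ∈ N → s * t * s⁻¹ ∈ N := fun s hs {t} ht => by
    obtain ⟨h, h1⟩ := hmem.1 ht
    refine hmem.2 ⟨S.mul_mem (S.mul_mem hs h) (S.inv_mem hs), ?_⟩
    show ζ (⟨s, hs⟩ * ⟨t, h⟩ * ⟨s, hs⟩⁻¹) = 1
    rw [map_mul, map_mul, h1, mul_one, map_inv, mul_inv_cancel]
  haveI : N.Normal := ⟨fun t ht a => by
    rcases hdich a with h | h
    · exact hS a h ht
    · have h1 := hS (g * g) hsq (hg (hS _ h ht))
      rwa [show g * g * (g⁻¹ * (g⁻¹ * a * t * (g⁻¹ * a)⁻¹) * g) * (g * g)⁻¹ = a * t * a⁻¹ by group]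
        at h1⟩
  let π := QuotientGroup.mk' N
  have hSS : ∀ s ∈ S, ∀ t ∈ S, π s * π t = π t * π s := fun s hs t ht => by
    rw [← commutatorElement_eq_one_iff_mul_comm, ← map_commutatorElement]
    refine (QuotientGroup.eq_one_iff _).2 (hmem.2 ⟨?_, ?_⟩)
    · rw [commutatorElement_def]
      exact S.mul_mem (S.mul_mem (S.mul_mem hs ht) (S.inv_mem hs)) (S.inv_mem ht)
    · show ζ ⁅(⟨s, hs⟩ : S), ⟨t, ht⟩⁆ = 1
      rw [map_commutatorElement, commutatorElement_eq_one_iff_mul_comm, mul_comm]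
  have hgS : ∀ s ∈ S, π g * π s = π s * π g := fun s hs => by
    rw [← map_mul, ← map_mul, QuotientGroup.mk'_apply, QuotientGroup.mk'_apply, QuotientGroup.eq]
    refine hmem.2 ⟨?_, ?_⟩
    · rw [show (g * s)⁻¹ * (s * g) = s⁻¹ * (g⁻¹ * s * g) by group]
      exact S.mul_mem (S.inv_mem hs) (hconj s hs)
    · rw [show (⟨(g * s)⁻¹ * (s * g), _⟩ : S) = ⟨s, hs⟩⁻¹ * ⟨g⁻¹ * s * g, hconj s hs⟩ from
        Subtype.ext (by show (g * s)⁻¹ * (s * g) = s⁻¹ * (g⁻¹ * s * g); group),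
        map_mul, map_inv, hζ ⟨s, hs⟩, inv_mul_cancel]
  have hform : ∀ a : T, ∃ i : ℕ, ∃ s ∈ S, π a = π g ^ i * π s := fun a => by
    rcases hdich a with h | h
    · exact ⟨0, a, h, by rw [pow_zero, one_mul]⟩
    · exact ⟨1, _, h, by rw [pow_one, ← map_mul, mul_inv_cancel_left]⟩
  have hle : ⁅(⊤ : Subgroup T), (⊤ : Subgroup T)⁆ ≤ N := Subgroup.commutator_le.2 fun a _ b _ => by
    refine (QuotientGroup.eq_one_iff _).1 ?_
    show π ⁅a, b⁆ = 1
    rw [map_commutatorElement, commutatorElement_eq_one_iff_mul_comm]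
    obtain ⟨i, s, hs, hi⟩ := hform a
    obtain ⟨j, t, ht, hj⟩ := hform b
    rw [hi, hj]
    exact ((((Commute.refl (π g)).pow_pow i j).mul_left ((hgS s hs).symm |> fun h =>
      (show Commute (π s) (π g) from h).pow_right j)).mul_right
      (((show Commute (π g) (π t) from hgS t ht).pow_left i).mul_left (hSS s hs t ht))).eq
  exact hmem.1 (hle hr)

variable {Q₀ : Type z'} [Group Q₀] (p : S →* Q₀) (hconj : ∀ s ∈ S, g⁻¹ * s * g ∈ S)

/-- The second projection. -/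
def p₂ : S →* Q₀ where
  toFun s := p ⟨g⁻¹ * s * g, hconj s s.2⟩
  map_one' := by
    rw [← map_one p]
    congr 1
    exact Subtype.ext (by simp)
  map_mul' s t := by
    rw [← map_mul]
    congr 1
    exact Subtype.ext (by show g⁻¹ * ((s : T) * t) * g = (g⁻¹ * s * g) * (g⁻¹ * t * g); group)

theorem p₂_g_conj (hsq : g * g ∈ S) (s : S) :
    p₂ p hconj ⟨g⁻¹ * s * g, hconj s s.2⟩ = (p ⟨g * g, hsq⟩)⁻¹ * p s * p ⟨g * g, hsq⟩ := by
  show p ⟨g⁻¹ * (g⁻¹ * s * g) * g, _⟩ = _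
  rw [← map_inv, ← map_mul, ← map_mul]
  congr 1
  exact Subtype.ext (by show g⁻¹ * (g⁻¹ * (s : T) * g) * g = (g * g)⁻¹ * s * (g * g); group)

/-- The two projections of a commutator agree in abelian quotients of exponent two. -/
theorem commutator_diag (hsq : g * g ∈ S) (hdich : ∀ t, t ∈ S ∨ g⁻¹ * t ∈ S) {C : Type y}
    [CommGroup C] (hC : ∀ c : C, c * c = 1) (χ : Q₀ →* C) {r : T} (hrS : r ∈ S)
    (hr : r ∈ ⁅(⊤ : Subgroup T), (⊤ : Subgroup T)⁆) :
    χ (p ⟨r, hrS⟩) = χ (p₂ p hconj ⟨r, hrS⟩) := by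
  obtain ⟨h, h1⟩ := commutator_le_kill hsq hconj hdich (χ.comp p * χ.comp (p₂ p hconj)) (fun s => by
    simp only [MonoidHom.mul_apply, MonoidHom.comp_apply]
    rw [p₂_g_conj p hconj hsq s, map_mul, map_mul, map_inv, mul_comm (χ (p ⟨g * g, hsq⟩))⁻¹,
      inv_mul_cancel_right]
    exact mul_comm _ _) hr
  simp only [MonoidHom.mul_apply, MonoidHom.comp_apply] at h1
  exact (mul_eq_one_iff_eq_inv.1 h1).trans (inv_eq_of_mul_eq_one_right (hC _))

variable (hinj : ∀ s : S, p s = 1 → p₂ p hconj s = 1 → s = 1)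
  (hproj : ∀ a ∈ p.range, ∃ r ∈ ⁅(⊤ : Subgroup T), (⊤ : Subgroup T)⁆, ∃ hr : r ∈ S, p ⟨r, hr⟩ = a)

theorem p₂_mem (s : S) : p₂ p hconj s ∈ p.range := ⟨_, rfl⟩

include hproj in
/-- A subgroup of index two in a wreath product whose commutators project onto the factor is full. -/
theorem full [Finite T] [Finite Q₀] (hQ : IsPGroup 2 p.range) (hsq : g * g ∈ S)
    (hdich : ∀ t, t ∈ S ∨ g⁻¹ * t ∈ S) {a b : Q₀} (ha : a ∈ p.range) (hb : b ∈ p.range) :
    ∃ s : S, p s = a ∧ p₂ p hconj s = b := by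
  classical
  haveI := Fact.mk Nat.prime_two
  let P : S →* p.range × p.range :=
    (p.rangeRestrict).prod ((p₂ p hconj).codRestrict p.range (p₂_mem p hconj))
  suffices hP : P.range = ⊤ by
    obtain ⟨s, hs⟩ : (⟨a, ha⟩, ⟨b, hb⟩) ∈ P.range := hP ▸ Subgroup.mem_top _
    exact ⟨s, congrArg (fun q : p.range × p.range => (q.1 : Q₀)) hs,
      congrArg (fun q : p.range × p.range => (q.2 : Q₀)) hs⟩
  by_contra hlt
  have hQQ : IsPGroup 2 (p.range × p.range) := fun q => by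
    obtain ⟨i, hi⟩ := hQ q.1
    obtain ⟨j, hj⟩ := hQ q.2
    exact ⟨i + j, Prod.ext (by rw [Prod.pow_fst, pow_add, pow_mul, hi, one_pow]; rfl)
      (by rw [Prod.pow_snd, add_comm, pow_add, pow_mul, hj, one_pow]; rfl)⟩
  obtain h | ⟨M, hM, hle⟩ := eq_top_or_exists_le_coatom P.range
  · exact hlt h
  haveI := hQQ.isNilpotent
  haveI : M.Normal :=
    Subgroup.NormalizerCondition.normal_of_coatom M Group.normalizerCondition_of_isNilpotent hM
  have hidx : M.index = 2 := by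
    obtain ⟨k, hk⟩ := IsPGroup.iff_card.1 (hQQ.to_subgroup M)
    obtain ⟨l, hl⟩ := IsPGroup.iff_card.1 hQQ
    have hlt' : Nat.card M < Nat.card (p.range × p.range) :=
      lt_of_le_of_ne M.card_le_card_group fun h => hM.1 (Subgroup.eq_top_of_card_eq M h)
    rw [hk, hl] at hlt'
    have hkl : k < l := (Nat.pow_lt_pow_iff_right (by norm_num)).1 hlt'
    obtain ⟨N, hN, hMN⟩ := Sylow.exists_subgroup_card_pow_prime_le 2 (n := k) (m := k + 1)
      (by rw [hl]; exact pow_dvd_pow 2 hkl) M hk (by omega)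
    have hNtop : N = ⊤ := hM.2 N (lt_of_le_of_ne hMN fun h => by
      rw [← h, hk] at hN
      exact absurd (Nat.pow_right_injective le_rfl hN) (by omega))
    have h := M.card_mul_index
    rw [hk, ← Subgroup.card_top (G := p.range × p.range), ← hNtop, hN, pow_succ] at h
    exact Nat.eq_of_mul_eq_mul_left (Nat.two_pow_pos k) h
  have hsq2 : ∀ c : (p.range × p.range) ⧸ M, c * c = 1 := fun c => by
    rw [← pow_two, ← hidx, ← pow_card_eq_one' (x := c)]
    rfl
  letI : CommGroup ((p.range × p.range) ⧸ M) :=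
    { (inferInstance : Group ((p.range × p.range) ⧸ M)) with
      mul_comm := fun x y => by
        have hi : ∀ c : (p.range × p.range) ⧸ M, c⁻¹ = c := fun c =>
          inv_eq_of_mul_eq_one_right (hsq2 c)
        have h := hi (x * y)
        rw [mul_inv_rev, hi, hi] at h
        exact h.symm }
  let χ := QuotientGroup.mk' M
  let χ₁ : p.range →* (p.range × p.range) ⧸ M := χ.comp (MonoidHom.inl _ _)
  let χ₂ : p.range →* (p.range × p.range) ⧸ M := χ.comp (MonoidHom.inr _ _)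
  let q₁ : S →* p.range := p.rangeRestrict
  let q₂ : S →* p.range := (p₂ p hconj).codRestrict p.range (p₂_mem p hconj)
  have hrel : ∀ s : S, χ₁ (q₁ s) * χ₂ (q₂ s) = 1 := fun s => by
    show χ (q₁ s, 1) * χ (1, q₂ s) = 1
    rw [← map_mul, Prod.mk_mul_mk, mul_one, one_mul]
    exact (QuotientGroup.eq_one_iff _).2 (hle ⟨s, rfl⟩)
  have hsymm : ∀ (φ : p.range →* (p.range × p.range) ⧸ M) (s : S),
      φ (q₁ ⟨g⁻¹ * s * g, hconj s s.2⟩) = φ (q₂ s) ∧
        φ (q₂ ⟨g⁻¹ * s * g, hconj s s.2⟩) = φ (q₁ s) := fun φ s => by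
    refine ⟨rfl, ?_⟩
    rw [show q₂ ⟨g⁻¹ * s * g, hconj s s.2⟩ = (q₁ ⟨g * g, hsq⟩)⁻¹ * q₁ s * q₁ ⟨g * g, hsq⟩ from
      Subtype.ext (p₂_g_conj p hconj hsq s), map_mul, map_mul, map_inv,
      mul_comm (φ (q₁ ⟨g * g, hsq⟩))⁻¹, inv_mul_cancel_right]
  have heps : ∀ (φ : p.range →* (p.range × p.range) ⧸ M) (r : S),
      (r : T) ∈ ⁅(⊤ : Subgroup T), (⊤ : Subgroup T)⁆ → φ (q₁ r) = φ (q₂ r) := fun φ r hr => by
    obtain ⟨h, h1⟩ := commutator_le_kill hsq hconj hdich (φ.comp q₁ * φ.comp q₂) (fun s => by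
      simp only [MonoidHom.mul_apply, MonoidHom.comp_apply]
      rw [(hsymm φ s).1, (hsymm φ s).2, mul_comm]) hr
    simp only [MonoidHom.mul_apply, MonoidHom.comp_apply] at h1
    exact (mul_eq_one_iff_eq_inv.1 h1).trans (inv_eq_of_mul_eq_one_right (hsq2 _))
  have h12 : ∀ c : p.range, χ₁ c = χ₂ c := fun c => by
    obtain ⟨r, hr, hrS, hrc⟩ := hproj c c.2
    have hc : q₁ ⟨r, hrS⟩ = c := Subtype.ext hrc
    have h := hrel ⟨r, hrS⟩
    rw [← heps χ₂ ⟨r, hrS⟩ hr, hc] at h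
    exact (mul_eq_one_iff_eq_inv.1 h).trans (inv_eq_of_mul_eq_one_right (hsq2 _))
  have hone : ∀ c : p.range, χ₁ c = 1 := fun c => by
    obtain ⟨r, hr, hrS, hrc⟩ := hproj c c.2
    obtain ⟨h, h1⟩ := commutator_le_kill hsq hconj hdich (χ₁.comp q₁) (fun s => by
      simp only [MonoidHom.comp_apply]
      rw [(hsymm χ₁ s).1]
      have h := hrel s
      rw [← h12] at h
      exact ((mul_eq_one_iff_eq_inv.1 h).trans (inv_eq_of_mul_eq_one_right (hsq2 _))).symm) hr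
    rwa [MonoidHom.comp_apply, show q₁ ⟨r, h⟩ = c from Subtype.ext hrc] at h1
  refine hM.1 ((Subgroup.eq_top_iff' M).2 fun q => (QuotientGroup.eq_one_iff q).1 ?_)
  obtain ⟨c, c'⟩ := q
  have h : χ (c, c') = χ₁ c * χ₂ c' := by
    show χ (c, c') = χ (c, 1) * χ (1, c')
    rw [← map_mul, Prod.mk_mul_mk, mul_one, one_mul]
  exact h.trans (by rw [← h12, hone, hone, one_mul])

include hconj hproj in
/-- The order. -/
theorem card_full [Finite T] [Finite Q₀] (hQ : IsPGroup 2 p.range) (hsq : g * g ∈ S)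
    (hdich : ∀ t, t ∈ S ∨ g⁻¹ * t ∈ S) : Nat.card p.range * Nat.card p.range ≤ Nat.card S := by
  rw [← Nat.card_prod]
  refine Nat.card_le_card_of_injective
    (fun q : p.range × p.range => (full p hconj hproj hQ hsq hdich q.1.2 q.2.2).choose) fun q q' h => ?_
  obtain ⟨h1, h2⟩ := (full p hconj hproj hQ hsq hdich q.1.2 q.2.2).choose_spec
  obtain ⟨h1', h2'⟩ := (full p hconj hproj hQ hsq hdich q'.1.2 q'.2.2).choose_spec
  exact Prod.ext (Subtype.ext (h1.symm.trans ((congrArg p h).trans h1')))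
    (Subtype.ext (h2.symm.trans ((congrArg (p₂ p hconj) h).trans h2')))

include hproj hinj in
set_option maxHeartbeats 1000000 in
/-- A chain element of the factor gives a longer one in the whole group. -/
theorem exists_chain_element [Finite T] [Finite Q₀] (hQ : IsPGroup 2 p.range) (hsq : g * g ∈ S)
    (hdich : ∀ t, t ∈ S ∨ g⁻¹ * t ∈ S) {k : ℕ} (hk : 2 ≤ k) {v : p.range}
    (hv : ∀ i < k, v ^ 2 ^ i ∈ der (⊤ : Subgroup p.range) i) {z : T} (hzS : z ∈ S)
    (hzc : ∀ t, t * z = z * t) (hvz : p ⟨z, hzS⟩ = ((v ^ 2 ^ (k - 1) : p.range) : Q₀)) :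
    ∃ x : T, (∀ i < k + 1, x ^ 2 ^ i ∈ der (⊤ : Subgroup T) i) ∧ x ^ 2 ^ k = z := by
  classical
  -- the factor
  have hex : ∀ a : p.range, ∃ s : S, p s = a ∧ p₂ p hconj s = 1 := fun a =>
    full p hconj hproj hQ hsq hdich a.2 (one_mem _)
  have huniq : ∀ s t : S, p s = p t → p₂ p hconj s = p₂ p hconj t → s = t := fun s t h1 h2 =>
    mul_inv_eq_one.1 (hinj _ (by rw [map_mul, map_inv, h1, mul_inv_cancel])
      (by rw [map_mul, map_inv, h2, mul_inv_cancel]))
  let ι : p.range →* S := MonoidHom.mk' (fun a => (hex a).choose) fun a b => by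
    obtain ⟨h1, h2⟩ := (hex (a * b)).choose_spec
    obtain ⟨h3, h4⟩ := (hex a).choose_spec
    obtain ⟨h5, h6⟩ := (hex b).choose_spec
    exact huniq _ _ (by rw [h1, map_mul, h3, h5, Subgroup.coe_mul]) (by rw [h2, map_mul, h4, h6, mul_one])
  have hι1 : ∀ a, p (ι a) = a := fun a => (hex a).choose_spec.1
  have hι2 : ∀ a, p₂ p hconj (ι a) = 1 := fun a => (hex a).choose_spec.2
  -- the involution
  set s₀ : S := ι ⟨(p ⟨g * g, hsq⟩)⁻¹, inv_mem ⟨_, rfl⟩⟩
  set γ : T := g * s₀ with hγ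
  have hγS : γ * γ ∈ S := by
    rw [hγ, show g * (s₀ : T) * (g * s₀) = (g * g) * (g⁻¹ * s₀ * g) * s₀ by group]
    exact S.mul_mem (S.mul_mem hsq (hconj _ s₀.2)) s₀.2
  have hγγ : γ * γ = 1 := by
    have h1 : (⟨γ * γ, hγS⟩ : S) = ⟨g * g, hsq⟩ * ⟨g⁻¹ * s₀ * g, hconj _ s₀.2⟩ * s₀ :=
      Subtype.ext (by show g * (s₀ : T) * (g * s₀) = (g * g) * (g⁻¹ * s₀ * g) * s₀; group)
    have h := hinj ⟨γ * γ, hγS⟩ (by
      rw [h1, map_mul, map_mul, hι1, show p ⟨g⁻¹ * s₀ * g, _⟩ = 1 from hι2 _, mul_one, mul_inv_cancel])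
      (by
      have hgg : p₂ p hconj ⟨g * g, hsq⟩ = p ⟨g * g, hsq⟩ := by
        show p ⟨g⁻¹ * (g * g) * g, _⟩ = _
        congr 1
        exact Subtype.ext (by show g⁻¹ * (g * g) * g = g * g; group)
      rw [h1, map_mul, map_mul, hgg, p₂_g_conj p hconj hsq, hι1, hι2, mul_one]
      simp)
    exact congrArg Subtype.val h
  have hγinv : γ⁻¹ = γ := inv_eq_of_mul_eq_one_right hγγ
  have hcS : ∀ s : S, γ * s * γ ∈ S := fun s => by
    have h : γ * (s : T) * γ = (s₀ : T)⁻¹ * (g⁻¹ * s * g) * s₀ := by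
      conv_lhs => arg 1; arg 1; rw [← hγinv]
      rw [hγ]; group
    rw [h]
    exact S.mul_mem (S.mul_mem (S.inv_mem s₀.2) (hconj _ s.2)) s₀.2
  let c : S →* S := MonoidHom.mk' (fun s => ⟨γ * s * γ, hcS s⟩) fun s t => Subtype.ext (by
    show γ * ((s : T) * t) * γ = γ * s * γ * (γ * t * γ)
    rw [show γ * (s : T) * γ * (γ * t * γ) = γ * s * (γ * γ) * t * γ by group, hγγ]
    group)
  have hcc : ∀ s, c (c s) = s := fun s => Subtype.ext (by
    show γ * (γ * (s : T) * γ) * γ = s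
    rw [show γ * (γ * (s : T) * γ) * γ = γ * γ * s * (γ * γ) by group, hγγ, one_mul, mul_one])
  let q : S →* Q₀ := p.comp c
  have hq2 : ∀ s, q s = 1 ↔ p₂ p hconj s = 1 := fun s => by
    have h : c s = s₀⁻¹ * ⟨g⁻¹ * s * g, hconj _ s.2⟩ * s₀ := Subtype.ext (by
      show γ * (s : T) * γ = (s₀ : T)⁻¹ * (g⁻¹ * s * g) * s₀
      conv_lhs => arg 1; arg 1; rw [← hγinv]
      rw [hγ]; group)
    show p (c s) = 1 ↔ _
    rw [h, map_mul, map_mul, map_inv]
    constructor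
    · intro h'
      show p ⟨g⁻¹ * s * g, hconj _ s.2⟩ = 1
      rw [show p ⟨g⁻¹ * s * g, hconj _ s.2⟩
          = p s₀ * ((p s₀)⁻¹ * p ⟨g⁻¹ * s * g, hconj _ s.2⟩ * p s₀) * (p s₀)⁻¹ by group, h']
      group
    · intro h'
      rw [show p ⟨g⁻¹ * s * g, hconj _ s.2⟩ = 1 from h', mul_one, inv_mul_cancel]
  have hinj' : ∀ s t : S, p s = p t → q s = q t → s = t := fun s t h1 h2 =>
    mul_inv_eq_one.1 (hinj _ (by rw [map_mul, map_inv, h1, mul_inv_cancel])
      ((hq2 _).1 (by rw [map_mul, map_inv, h2, mul_inv_cancel])))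
  have hqι : ∀ a, q (ι a) = 1 := fun a => (hq2 _).2 (hι2 a)
  have hqc : ∀ s, q (c s) = p s := fun s => congrArg p (hcc s)
  have hcomm : ∀ a b, ι a * c (ι b) = c (ι b) * ι a := fun a b => hinj' _ _
    (by rw [map_mul, map_mul, show p (c (ι b)) = 1 from hqι b, mul_one, one_mul])
    (by rw [map_mul, map_mul, hqι, one_mul, mul_one])
  let D : p.range →* S := MonoidHom.mk' (fun a => ι a * c (ι a)) fun a b => by
    show ι (a * b) * c (ι (a * b)) = ι a * c (ι a) * (ι b * c (ι b))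
    rw [map_mul, map_mul, show ι a * c (ι a) * (ι b * c (ι b)) = ι a * (c (ι a) * ι b) * c (ι b) by group,
      ← hcomm b a]
    group
  let D' : p.range →* T := S.subtype.comp D
  let ι' : p.range →* T := S.subtype.comp ι
  set T₁ : Subgroup T := ⁅(⊤ : Subgroup T), (⊤ : Subgroup T)⁆
  set T₂ : Subgroup T := ⁅T₁, T₁⁆
  set Q₁ : Subgroup p.range := ⁅(⊤ : Subgroup p.range), (⊤ : Subgroup p.range)⁆
  -- the antidiagonal
  let A : p.range → S := fun a => ι a⁻¹ * c (ι a)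
  have hA : ∀ a, (A a : T) ∈ T₁ := fun a => by
    have h : (A a : T) = ⁅((ι a : S) : T)⁻¹, γ⁆ := by
      show ((ι a⁻¹ : S) : T) * (γ * (ι a : S) * γ) = _
      rw [commutatorElement_def, map_inv, Subgroup.coe_inv, hγinv]
      group
    rw [h]
    exact Subgroup.commutator_mem_commutator trivial trivial
  have hιQ : ∀ a ∈ Q₁, (ι a : T) ∈ T₁ := fun a ha => by
    have : Q₁.map ι' ≤ T₁ := by
      rw [Subgroup.map_commutator]; exact Subgroup.commutator_mono le_top le_top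
    exact this ⟨a, ha, rfl⟩
  have hD1 : ∀ a : p.range, a * a ∈ Q₁ → (D a : T) ∈ T₁ := fun a ha => by
    rw [show (D a : T) = (ι (a * a) : T) * (A a : T) by
      show ((ι a : S) : T) * (c (ι a) : T) = _ * (((ι a⁻¹ : S) : T) * (c (ι a) : T))
      rw [← mul_assoc, show ((ι (a * a) : S) : T) * ((ι a⁻¹ : S) : T) = ((ι a : S) : T) by
        rw [← Subgroup.coe_mul, ← map_mul, mul_inv_cancel_right]]]
    exact T₁.mul_mem (hιQ _ ha) (hA a)
  have hιQ2 : ∀ a ∈ ⁅Q₁, (⊤ : Subgroup p.range)⁆, (ι a : T) ∈ T₂ := fun a ha => by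
    have : ⁅Q₁, (⊤ : Subgroup p.range)⁆ ≤ T₂.comap ι' := Subgroup.commutator_le.2 fun u hu b _ => by
      have h : ι ⁅u, b⁆ = ⁅ι u, A b⁻¹⁆ := hinj' _ _ (by
          rw [map_commutatorElement, map_commutatorElement, map_commutatorElement]
          simp only [A, map_mul, hι1, inv_inv]
          rw [show p (c (ι b⁻¹)) = 1 from hqι _, mul_one])
        (by
          rw [map_commutatorElement, map_commutatorElement, map_commutatorElement, hqι, hqι,
            commutatorElement_one_left, commutatorElement_one_left])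
      show ((ι ⁅u, b⁆ : S) : T) ∈ T₂
      rw [h]
      show ⁅((ι u : S) : T), (A b⁻¹ : T)⁆ ∈ T₂
      exact Subgroup.commutator_mem_commutator (hιQ u hu) (hA _)
    exact this ha
  have hD2 : Q₁.map D' ≤ T₂ := by
    rw [Subgroup.map_le_iff_le_comap]
    refine Subgroup.commutator_le.2 fun a _ b _ => ?_
    have hw : ⁅a, b⁆ * ⁅a⁻¹, b⁻¹⁆⁻¹ ∈ ⁅Q₁, (⊤ : Subgroup p.range)⁆ := by
      rw [show ⁅a, b⁆ * ⁅a⁻¹, b⁻¹⁆⁻¹ = ⁅⁅a, b⁆, (b * a)⁻¹⁆ by
        simp only [commutatorElement_def]; group]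
      exact Subgroup.commutator_mem_commutator (Subgroup.commutator_mem_commutator trivial trivial) trivial
    have h : D ⁅a, b⁆ = ι (⁅a, b⁆ * ⁅a⁻¹, b⁻¹⁆⁻¹) * ⁅A a, A b⁆ := by
      refine hinj' _ _ ?_ ?_
      · show p (ι ⁅a, b⁆ * c (ι ⁅a, b⁆)) = _
        rw [map_mul, map_mul, show p (c (ι ⁅a, b⁆)) = 1 from hqι _, mul_one, map_commutatorElement p]
        simp only [A, map_mul, hι1, show ∀ y, p (c (ι y)) = 1 from hqι, mul_one]
        simp only [Subgroup.coe_mul, Subgroup.coe_inv, commutatorElement_def]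
        group
      · show q (ι ⁅a, b⁆ * c (ι ⁅a, b⁆)) = _
        rw [map_mul, map_mul, hqι, hqc, hι1, one_mul, map_commutatorElement q]
        simp only [A, map_mul, hqι, hqc, hι1, one_mul, commutatorElement_one_left]
        simp [commutatorElement_def]
    show (D ⁅a, b⁆ : T) ∈ T₂
    rw [h, Subgroup.coe_mul]
    exact T₂.mul_mem (hιQ2 _ hw) (Subgroup.commutator_mem_commutator (hA a) (hA b))
  have hDder : ∀ j, (der Q₁ j).map D' ≤ der T₂ j := fun j => by
    rw [map_der]; exact der_mono hD2 j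
  set x : T := γ * ι v
  have hxx : x * x = (D v : T) := by
    show γ * ((ι v : S) : T) * (γ * (ι v : S)) = ((ι v : S) : T) * (c (ι v) : T)
    rw [← Subgroup.coe_mul, hcomm v v, Subgroup.coe_mul]
    show _ = γ * ((ι v : S) : T) * γ * (ι v : S)
    group
  have hpow : ∀ i, x ^ 2 ^ (i + 1) = (D (v ^ 2 ^ i) : T) := fun i => by
    rw [map_pow, SubmonoidClass.coe_pow, ← hxx, ← pow_two, ← pow_mul, ← pow_succ']
  refine ⟨x, fun i hi => ?_, ?_⟩
  · rcases i with _ | _ | i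
    · exact trivial
    · rw [zero_add, hpow 0]
      refine hD1 _ ?_
      have := hv 1 (by omega)
      rw [pow_one, pow_two] at this
      simpa [Q₁, der_succ, der_zero] using this
    · rw [hpow (i + 1)]
      have := hv (i + 1) (by omega)
      rw [der_succ] at this
      exact hDder i ⟨_, this, rfl⟩
  · rw [show k = k - 1 + 1 by omega, hpow (k - 1)]
    refine congrArg Subtype.val (hinj' (D (v ^ 2 ^ (k - 1))) ⟨z, hzS⟩ ?_ ?_)
    · show p (ι _ * c (ι _)) = _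
      rw [map_mul, hι1, show p (c (ι _)) = 1 from hqι _, mul_one, hvz]
    · show q (ι _ * c (ι _)) = p (c ⟨z, hzS⟩)
      rw [map_mul, hqι, hqc, hι1, one_mul, ← hvz]
      congr 1
      exact Subtype.ext (by show z = γ * z * γ; rw [hzc γ, mul_assoc, hγγ, mul_one])

end Wreath

end CfsgLib.FGS74.Dlen
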