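import Cfsg.Agent.FGS74.Dlen.Bound
import Cfsg.Agent.FGS74.Bry.Key

/-!
# The proper subgroup containing the chains

If a two-subgroup `D` does not centralise an odd solvable normal subgroup, in a representation in
characteristic two, then a proper subgroup of `D` contains the squares and all chains
`[D ∩ P, P, P', ..., P^(k-2)]` of two-groups `P` with a chain of length `k` on the module.
-/

set_option autoImplicit false
set_option linter.style.haveILetI false

open Module
open scoped commutatorElement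

namespace CfsgLib.FGS74.Dlen

open CfsgLib.FGS74.GrossLen CfsgLib.FGS74.Bry

universe u v v' w w'

variable {K : Type u} [Field K]

/-- A proper subgroup of `D` contains the squares and the chains. -/
def HasChainSub {V : Type v} [AddCommGroup V] [Module K V] {H : Type w} [Group H]
    (ψ : H →* Module.End K V) (D : Subgroup H) : Prop :=
  ∃ D' < D, (∀ d ∈ D, d * d ∈ D') ∧ ∀ (k : ℕ) (P : Subgroup H), IsPGroup 2 P →
    P ≤ Subgroup.normalizer (D : Set H) → chain ψ P k ⊤ = ⊥ → dlt P (k - 1) (D ⊓ P) ≤ D'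

section Transfer

variable {V : Type v} [AddCommGroup V] [Module K V] {H : Type w} [Group H]
  {ψ : H →* Module.End K V} {D : Subgroup H}

theorem HasChainSub.pull {V' : Type v'} [AddCommGroup V'] [Module K V'] {H' : Type w'} [Group H']
    {ψ' : H' →* Module.End K V'} (π : H →* H')
    (hc : ∀ (P : Subgroup H) (k : ℕ), chain ψ P k ⊤ = ⊥ → chain ψ' (P.map π) k ⊤ = ⊥)
    (h : HasChainSub ψ' (D.map π)) : HasChainSub ψ D := by
  obtain ⟨E, hE, hsq, hn⟩ := h
  refine ⟨D ⊓ E.comap π, lt_of_le_of_ne inf_le_left fun h => hE.2 ?_, fun d hd => ⟨mul_mem hd hd, ?_⟩,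
    fun k P hP hPD hch => le_inf (dlt_inf_le hPD _) ?_⟩
  · rintro _ ⟨d, hd, rfl⟩
    exact (show d ∈ D ⊓ E.comap π from h.symm ▸ hd).2
  · show π (d * d) ∈ E
    rw [map_mul]
    exact hsq _ ⟨d, hd, rfl⟩
  · rw [← Subgroup.map_le_iff_le_comap, map_dlt]
    refine (dlt_mono le_rfl (Subgroup.map_inf_le D P π) _).trans (hn k _ (hP.map π) ?_ (hc P k hch))
    rintro _ ⟨g, hg, rfl⟩
    exact map_mem_normalizer π (hPD hg)

theorem map_act_ne_bot [Nontrivial V] [Finite H] (hψ : Function.Injective ψ)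
    {Q R : Subgroup H} [hQn : Q.Normal] (hQo : Odd (Nat.card Q)) (hE : IsExt ψ R) (hRQ : R ≤ Q)
    (hC : ∀ h ∈ Q, (∀ a ∈ R, h * a = a * h) → h ∈ scalSub ψ)
    (hD : IsPGroup 2 D) (hnc : ∃ d ∈ D, ∃ a ∈ Q, d * a ≠ a * d) : D.map hE.act ≠ ⊥ := by
  obtain ⟨d, hd, a, ha, hne⟩ := hnc
  obtain ⟨s, hs⟩ := hD ⟨d, hd⟩
  have hs' : d ^ 2 ^ s = 1 := congrArg Subtype.val hs
  intro hbot
  have hact : hE.act d = 1 := Subgroup.mem_bot.1 (hbot ▸ Subgroup.mem_map_of_mem hE.act hd)
  have hcR : ∀ r ∈ R, d * r = r * d := by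
    intro r hr
    have h1 : ((⟨d * r * d⁻¹, hE.normal.conj_mem _ hr d⟩ : R) : Quo ψ R) =
        ((⟨r, hr⟩ : R) : Quo ψ R) := by
      rw [← hE.act_mk d ⟨r, hr⟩, hact, MulAut.one_apply]
    rw [QuotientGroup.eq_iff_div_mem, mem_scal] at h1
    have h2 : d * r * d⁻¹ * r⁻¹ ∈ scalSub ψ := by
      obtain ⟨t, ht⟩ := h1
      exact ⟨t, by rw [← ht, Subgroup.coe_div, div_eq_mul_inv]⟩
    have h3 : d * r * d⁻¹ * r⁻¹ ∈ Q :=
      mul_mem (hQn.conj_mem r (hRQ hr) d) (inv_mem (hRQ hr))
    have h4 := eq_one_of_fixed_comm hs' (a := r) (k := d * r * d⁻¹ * r⁻¹)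
      (by rw [inv_mul_cancel_right]) (scalSub_comm hψ h2 d) (odd_orderOf_mem hQo h3)
    rw [mul_inv_eq_one, mul_inv_eq_iff_eq_mul] at h4
    exact h4
  have hk : d * a * d⁻¹ * a⁻¹ ∈ Q := mul_mem (hQn.conj_mem a ha d) (inv_mem ha)
  have hks : d * a * d⁻¹ * a⁻¹ ∈ scalSub ψ := hC _ hk fun r hr => by
    have h1 : d⁻¹ * r = r * d⁻¹ := ((show Commute d r from hcR r hr).inv_left).eq
    have h2 := hcR _ (hE.normal.conj_mem r hr a⁻¹)
    rw [inv_inv] at h2
    calc d * a * d⁻¹ * a⁻¹ * r = d * a * d⁻¹ * (a⁻¹ * r * a) * a⁻¹ := by group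
      _ = d * a * (d⁻¹ * (a⁻¹ * r * a * d)) * d⁻¹ * a⁻¹ := by group
      _ = d * a * (a⁻¹ * r * a) * d⁻¹ * a⁻¹ := by rw [← h2, inv_mul_cancel_left]
      _ = (d * r) * a * d⁻¹ * a⁻¹ := by group
      _ = r * (d * a * d⁻¹ * a⁻¹) := by rw [hcR r hr]; group
  have h4 := eq_one_of_fixed_comm hs' (a := a) (k := d * a * d⁻¹ * a⁻¹)
    (by rw [inv_mul_cancel_right]) (scalSub_comm hψ hks d) (odd_orderOf_mem hQo hk)
  rw [mul_inv_eq_one, mul_inv_eq_iff_eq_mul] at h4
  exact hne h4

variable [CharP K 2]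

/-- The Weil datum of a subgroup acting on `R`. -/
noncomputable def extWeil [Nontrivial V] [Finite H] {R : Subgroup H} (hE : IsExt ψ R)
    (P : Subgroup H) : letI := quoComm hE; Weil K V (Quo ψ R) P := by
  classical
  letI := quoComm hE
  have hρ : ∀ r : R, ∃ c : K, c ≠ 0 ∧
      (if (r : Quo ψ R) = 1 then 1 else ψ ((r : Quo ψ R).out : H)) = c • ψ (r : H) := by
    intro r
    have hu : ∀ {z : R} {s : K}, ψ (z : H) = s • 1 → s ≠ 0 := by
      intro z s hs h0
      refine one_ne_zero (α := Module.End K V) ?_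
      rw [← map_inv_mul ψ (z : H), hs, h0, zero_smul, mul_zero]
    split_ifs with h
    · obtain ⟨s, hs⟩ := (QuotientGroup.eq_one_iff r).1 h
      exact ⟨s⁻¹, inv_ne_zero (hu hs), by rw [hs, smul_smul, inv_mul_cancel₀ (hu hs), one_smul]⟩
    · obtain ⟨⟨z, s, hs⟩, hz⟩ := QuotientGroup.mk_out_eq_mul (scal ψ R) r
      exact ⟨s, hu hs, by rw [hz, Subgroup.coe_mul, map_mul, hs, mul_smul_comm, mul_one]⟩
  exact
  { B := qform hE
    form := form_qform hE
    ρ := fun m => if m = 1 then 1 else ψ (m.out : H)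
    ρ_one := if_pos rfl
    ρ_mul := fun a b => by
      induction a using QuotientGroup.induction_on with
      | _ a =>
        induction b using QuotientGroup.induction_on with
        | _ b =>
          obtain ⟨ca, hca0, hca⟩ := hρ a
          obtain ⟨cb, hcb0, hcb⟩ := hρ b
          obtain ⟨cab, hcab0, hcab⟩ := hρ (a * b)
          refine ⟨cab * (ca * cb)⁻¹, mul_ne_zero hcab0 (inv_ne_zero (mul_ne_zero hca0 hcb0)), ?_⟩
          rw [← QuotientGroup.mk_mul, hca, hcb, hcab, smul_mul_smul_comm, smul_smul, mul_assoc,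
            inv_mul_cancel₀ (mul_ne_zero hca0 hcb0), mul_one, Subgroup.coe_mul, map_mul]
    ρ_comm := fun a b => by
      induction a using QuotientGroup.induction_on with
      | _ a =>
        induction b using QuotientGroup.induction_on with
        | _ b =>
          obtain ⟨ca, -, hca⟩ := hρ a
          obtain ⟨cb, -, hcb⟩ := hρ b
          show _ = qpair ψ R (a : Quo ψ R) (b : Quo ψ R) • _
          rw [hca, hcb, smul_mul_smul_comm, smul_mul_smul_comm, hE.qpair_mk, hE.mul_swap,
            smul_smul, smul_smul]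
          congr 1
          ring
    σ := hE.act.comp P.subtype
    ψ := ψ.comp P.subtype
    equiv := fun t a => by
      induction a using QuotientGroup.induction_on with
      | _ a =>
        obtain ⟨c, hc0, hc⟩ := hρ a
        obtain ⟨c', hc'0, hc'⟩ := hρ ⟨t * a * (t : H)⁻¹, hE.normal.conj_mem _ a.2 t⟩
        refine ⟨c * c'⁻¹, mul_ne_zero hc0 (inv_ne_zero hc'0), ?_⟩
        rw [MonoidHom.comp_apply, MonoidHom.comp_apply, Subgroup.coe_subtype, hE.act_mk, hc, hc',
          mul_smul_comm, smul_mul_assoc, smul_smul, mul_assoc, inv_mul_cancel₀ hc'0, mul_one,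
          ← map_mul, ← map_mul, inv_mul_cancel_right]
    iso := fun t => act_isom hE t }

set_option maxHeartbeats 1000000 in
/-- The case of scalar abelian normal subgroups inside `Q`. -/
theorem key_prim [IsAlgClosed K] [FiniteDimensional K V] [Nontrivial V] [Finite H]
    (hψ : Function.Injective ψ)
    (Q : Subgroup H) [hQn : Q.Normal] (hQo : Odd (Nat.card Q)) (hQs : Group.IsSolvable Q)
    (hsc : ∀ A : Subgroup H, A.Normal → A ≤ Q → (∀ a ∈ A, ∀ b ∈ A, a * b = b * a) →
      ∀ a ∈ A, ∃ r : K, ψ a = r • 1)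
    (hD : IsPGroup 2 D) (hnc : ∃ d ∈ D, ∃ a ∈ Q, d * a ≠ a * d) : HasChainSub ψ D := by
  haveI := Fact.mk Nat.prime_two
  obtain ⟨R, hE, hRQ, hC⟩ := exists_ext_subgroup_in Q hQs hψ hsc
  haveI := hE.normal
  letI := quoComm hE
  have hne := map_act_ne_bot hψ hQo hE hRQ hC hD hnc
  obtain ⟨D', hD', hker, hsq⟩ := exists_index_two_ge hD (S := D ⊓ hE.act.ker)
    (lt_of_le_of_ne inf_le_left fun h => hne (by
      rw [Subgroup.map_eq_bot_iff]; exact inf_eq_left.1 h))
  refine ⟨D', hD', hsq, fun k P hP hPD hch => ?_⟩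
  match k with
  | 0 => exact absurd hch top_ne_bot
  | 1 =>
    intro x hx
    have h1 : ψ x = 1 := LinearMap.ext fun v => chain_one_eq_bot_iff.1 hch x hx.2 v Submodule.mem_top
    rw [hψ (h1.trans (map_one ψ).symm)]
    exact one_mem D'
  | k + 2 =>
  set d := extWeil hE P
  obtain ⟨L, hL, -, hLP⟩ := d.exists_min_invariant ⊤ top_ne_bot (fun _ _ _ => Submodule.mem_top) ⊤
    (hP.of_equiv Subgroup.topEquiv.symm) fun _ _ _ _ => Submodule.mem_top
  haveI : Nontrivial L := Submodule.nontrivial_iff_ne_bot.2 hL.1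
  have hψL : ∀ t, ∀ v ∈ L, d.ψ t v ∈ L := fun t => hLP t (Subgroup.mem_top t)
  set e := d.sub L hL.2.1 hψL
  have hs : e.Simple := d.simple_sub hL hψL
  have hchain : chain e.ψ ⊤ (k + 2) ⊤ = ⊥ := by
    refine chain_eq_bot_of_injective (ψ := d.ψ) L.subtype L.injective_subtype (fun g _ v => rfl) ?_
    show chain (ψ.comp P.subtype) ⊤ (k + 2) ⊤ = ⊥
    rw [chain_comp, ← MonoidHom.range_eq_map, Subgroup.range_subtype, hch]
  have hDle : dlt P (k + 2 - 1) (D ⊓ P) ≤ D := dlt_inf_le hPD _
  rcases Nat.eq_zero_or_pos k with rfl | hk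
  · show ⁅D ⊓ P, P⁆ ≤ D'
    refine Subgroup.commutator_le.2 fun x hx g hg => ?_
    have hxg : ⁅x, g⁆ ∈ D := hDle (Subgroup.commutator_mem_commutator hx hg)
    have hσ : ∀ t : P, e.σ t = hE.act (P.subtype t) := fun t => rfl
    have hc : e.σ ⁅(⟨x, hx.2⟩ : P), (⟨g, hg⟩ : P)⁆ = hE.act ⁅x, g⁆ := by
      rw [hσ, map_commutatorElement P.subtype, Subgroup.coe_subtype]
    have hx2 : e.σ (⟨x, hx.2⟩ : P) * e.σ (⟨x, hx.2⟩ : P) = hE.act (x * x) := by
      rw [hσ, Subgroup.coe_subtype, map_mul]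
    rcases e.exact_two hP hs hchain (⟨x, hx.2⟩ : P) (⟨g, hg⟩ : P) with h | h
    · refine hker ⟨hxg, MonoidHom.mem_ker.2 ?_⟩
      rw [← hc]
      exact h
    · have h' : hE.act ⁅x, g⁆ = hE.act (x * x) := by rw [← hc, ← hx2]; exact h
      have hxx : x * x ∈ D := mul_mem hx.1 hx.1
      have hk : (x * x)⁻¹ * ⁅x, g⁆ ∈ hE.act.ker := by
        rw [MonoidHom.mem_ker, map_mul, map_inv, h', inv_mul_cancel]
      have h2 : (x * x)⁻¹ * ⁅x, g⁆ ∈ D' := hker ⟨D.mul_mem (D.inv_mem hxx) hxg, hk⟩
      have h3 := mul_mem (hsq x hx.1) h2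
      rwa [mul_inv_cancel_left] at h3
  · intro y hy
    refine hker ⟨hDle hy, ?_⟩
    obtain ⟨t, ht, rfl⟩ : y ∈ (der (⊤ : Subgroup P) (k + 2 - 1)).map P.subtype := by
      rw [map_der, ← MonoidHom.range_eq_map, Subgroup.range_subtype]
      exact dlt_le_der inf_le_right _ hy
    exact e.prim_bound hP hs (k := k + 2) (by omega) hchain ht

end Transfer

set_option maxHeartbeats 2000000 in
/-- The recursion. -/
theorem key [CharP K 2] [IsAlgClosed K] : ∀ (b : ℕ) {V : Type v} [AddCommGroup V] [Module K V]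
    [FiniteDimensional K V], finrank K V ≤ b → ∀ {H : Type w} [Group H] [Finite H]
    (ψ : H →* Module.End K V), Function.Injective ψ → ∀ (Q : Subgroup H), Q.Normal →
    Odd (Nat.card Q) → Group.IsSolvable Q → ∀ (D : Subgroup H), IsPGroup 2 D →
    (∃ d ∈ D, ∃ a ∈ Q, d * a ≠ a * d) → HasChainSub ψ D := by
  haveI := Fact.mk Nat.prime_two
  intro b
  induction b with
  | zero =>
    intro V _ _ _ hd H _ _ ψ hψ Q _ _ _ D _ ⟨d, _, a, _, hne⟩
    haveI : Subsingleton V := Module.finrank_zero_iff.1 (Nat.le_zero.1 hd)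
    exact absurd (hψ (LinearMap.ext fun v => Subsingleton.elim _ _)) hne
  | succ b ih =>
    intro V _ _ _ hd H _ _ ψ hψ Q hQn hQo hQs D hD hnc
    haveI := hQn
    rcases subsingleton_or_nontrivial V with hV | hV
    · obtain ⟨d, _, a, _, hne⟩ := hnc
      exact absurd (hψ (LinearMap.ext fun v => Subsingleton.elim _ _)) hne
    -- representations that need not be faithful
    have ih' : ∀ {W : Type v} [AddCommGroup W] [Module K W] [FiniteDimensional K W],
        finrank K W ≤ b → ∀ {H' : Type w} [Group H'] [Finite H'] (φ : H' →* Module.End K W)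
        (Q' : Subgroup H'), Q'.Normal → Odd (Nat.card Q') → Group.IsSolvable Q' →
        ∀ (D' : Subgroup H'), IsPGroup 2 D' → (∃ d ∈ D', ∃ a ∈ Q', φ (d * a) ≠ φ (a * d)) →
        HasChainSub φ D' := by
      intro W _ _ _ hW H' _ _ φ Q' hQ'n hQ'o hQ's D' hD' ⟨d, hd', a, ha, hne⟩
      haveI := hQ'n
      haveI := hQ's
      have hodd : Odd (Nat.card (Q'.map (QuotientGroup.mk' φ.ker))) :=
        odd_card_map (QuotientGroup.mk' φ.ker) hQ'o
      have hsolv : Group.IsSolvable (Q'.map (QuotientGroup.mk' φ.ker)) :=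
        isSolvable_map (QuotientGroup.mk' φ.ker) hQ's
      have hrec : HasChainSub (kerLift' φ) (D'.map (QuotientGroup.mk' φ.ker)) := by
        refine ih (V := W) hW (H := H' ⧸ φ.ker) (kerLift' φ) (kerLift'_injective φ)
          (Q'.map (QuotientGroup.mk' φ.ker)) (hQ'n.map _ (QuotientGroup.mk'_surjective _))
          hodd hsolv
          (D'.map (QuotientGroup.mk' φ.ker)) (hD'.map _)
          ⟨QuotientGroup.mk' φ.ker d, Subgroup.mem_map_of_mem _ hd', QuotientGroup.mk' φ.ker a,
            Subgroup.mem_map_of_mem _ ha, fun h => hne ?_⟩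
        rw [← map_mul, ← map_mul] at h
        exact congrArg (kerLift' φ) h
      exact HasChainSub.pull (ψ := φ) (ψ' := kerLift' φ) (QuotientGroup.mk' φ.ker) (fun P k h => by
        have hφ : (kerLift' φ).comp (QuotientGroup.mk' φ.ker) = φ := MonoidHom.ext fun x => rfl
        rwa [← chain_comp, hφ]) hrec
    obtain ⟨d₀, hd₀, a₀, ha₀, hne₀⟩ := hnc
    by_cases hirr : ∀ U : Submodule K V, (∀ g, ∀ v ∈ U, ψ g v ∈ U) → U = ⊥ ∨ U = ⊤
    swap
    · push Not at hirr
      obtain ⟨U, hU, hUb, hUt⟩ := hirr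
      have hlt1 : finrank K U ≤ b := by
        have := Submodule.finrank_lt hUt
        omega
      have hlt2 : finrank K (V ⧸ U) ≤ b := by
        have h1 := U.finrank_quotient_add_finrank
        have h2 : 0 < finrank K U := Nat.pos_of_ne_zero fun h => hUb (Submodule.finrank_eq_zero.1 h)
        omega
      by_cases h1 : subRep ψ U hU (d₀ * a₀) = subRep ψ U hU (a₀ * d₀)
      swap
      · obtain ⟨E, hE, hsq, hn⟩ := ih' hlt1 (subRep ψ U hU) Q hQn hQo hQs D hD ⟨d₀, hd₀, a₀, ha₀, h1⟩
        exact ⟨E, hE, hsq, fun k P hP hPD hch => hn k P hP hPD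
          (chain_eq_bot_of_injective U.subtype U.injective_subtype (fun g _ v => rfl) hch)⟩
      by_cases h2 : quotRep ψ U hU (d₀ * a₀) = quotRep ψ U hU (a₀ * d₀)
      swap
      · obtain ⟨E, hE, hsq, hn⟩ := ih' hlt2 (quotRep ψ U hU) Q hQn hQo hQs D hD ⟨d₀, hd₀, a₀, ha₀, h2⟩
        exact ⟨E, hE, hsq, fun k P hP hPD hch => hn k P hP hPD
          (chain_eq_bot_of_surjective (Y := ⊤) U.mkQ (fun g _ v => rfl)
            (by rw [Submodule.map_top, Submodule.range_mkQ]) hch)⟩
      exfalso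
      set k := d₀ * a₀ * d₀⁻¹ * a₀⁻¹ with hk
      have hkQ : k ∈ Q := mul_mem (hQn.conj_mem a₀ ha₀ d₀) (inv_mem ha₀)
      have hkey : ∀ {W : Type v} [AddCommGroup W] [Module K W] (φ : H →* Module.End K W),
          φ (d₀ * a₀) = φ (a₀ * d₀) → φ k = 1 := by
        intro W _ _ φ h
        rw [hk, show d₀ * a₀ * d₀⁻¹ * a₀⁻¹ = d₀ * a₀ * (a₀ * d₀)⁻¹ by group, map_mul, h, ← map_mul,
          mul_inv_cancel, map_one]
      have hsq : (ψ k - 1) ^ 2 = 0 := LinearMap.ext fun v => by
        have h3 : ψ k v - v ∈ U := by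
          have := LinearMap.congr_fun (hkey _ h2) (Submodule.Quotient.mk v)
          exact (Submodule.Quotient.eq U).1 this
        have h4 : ψ k (ψ k v - v) = ψ k v - v :=
          congrArg Subtype.val (LinearMap.congr_fun (hkey _ h1) ⟨_, h3⟩)
        rw [pow_two, Module.End.mul_apply, LinearMap.sub_apply, LinearMap.sub_apply,
          Module.End.one_apply, Module.End.one_apply, h4, sub_self, LinearMap.zero_apply]
      haveI : CharP (Module.End K V) 2 :=
        charP_of_injective_algebraMap (FaithfulSMul.algebraMap_injective K _) 2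
      rw [sub_pow_char_of_commute 2 (Commute.one_right _), one_pow, sub_eq_zero, ← map_pow] at hsq
      have hk2 : k ^ 2 = 1 := hψ (hsq.trans (map_one ψ).symm)
      have hk1 : k = 1 := by
        rcases (Nat.dvd_prime Nat.prime_two).1 (orderOf_dvd_of_pow_eq_one hk2) with h | h
        · exact orderOf_eq_one_iff.1 h
        · have := odd_orderOf_mem hQo hkQ
          rw [h] at this
          exact absurd this (by decide)
      rw [hk, mul_inv_eq_one, mul_inv_eq_iff_eq_mul] at hk1
      exact hne₀ hk1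
    by_cases hsc : ∀ A : Subgroup H, A.Normal → A ≤ Q → (∀ a ∈ A, ∀ b ∈ A, a * b = b * a) →
        ∀ a ∈ A, ∃ r : K, ψ a = r • 1
    · exact key_prim hψ Q hQo hQs hsc hD ⟨d₀, hd₀, a₀, ha₀, hne₀⟩
    push Not at hsc
    obtain ⟨A, hAn, hAQ, hab, aₛ, haₛ, haₛs⟩ := hsc
    haveI := hAn
    classical
    cases nonempty_fintype A
    have hAK : (Fintype.card A : K) ≠ 0 := by
      rw [← Nat.card_eq_fintype_card]
      exact card_ne_zero_of_commutative (c := 2) hψ hirr hab
    let Vs : (A →* K) → Submodule K V := fun μ =>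
      { carrier := {v | ∀ a : A, ψ a v = μ a • v}
        add_mem' := fun {v w} hv hw a => by rw [map_add, hv a, hw a, smul_add]
        zero_mem' := fun a => by rw [map_zero, smul_zero]
        smul_mem' := fun r v hv a => by rw [map_smul, hv a, smul_comm] }
    let actc : H → (A →* K) → (A →* K) := fun g μ =>
      μ.comp (MulAut.conjNormal g⁻¹ : MulAut A).toMonoidHom
    have hactc : ∀ g μ (a : A), actc g μ a = μ (MulAut.conjNormal g⁻¹ a) := fun g μ a => rfl
    have hmap : ∀ g μ, ∀ v ∈ Vs μ, ψ g v ∈ Vs (actc g μ) := by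
      intro g μ v hv a
      rw [hactc, ← map_smul, ← hv, ← Module.End.mul_apply, ← map_mul, ← Module.End.mul_apply,
        ← map_mul, MulAut.conjNormal_apply]
      congr 2
      group
    have hactmul : ∀ g g' μ, actc (g * g') μ = actc g (actc g' μ) := fun g g' μ =>
      MonoidHom.ext fun a => by
        rw [hactc, hactc, hactc, mul_inv_rev, map_mul, MulAut.mul_apply]
    have hactone : ∀ μ, actc 1 μ = μ := fun μ => MonoidHom.ext fun a => by
      rw [hactc, inv_one, map_one, MulAut.one_apply]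
    let e0 : (A →* K) → Module.End K V := fun μ =>
      (Fintype.card A : K)⁻¹ • ∑ a : A, μ a⁻¹ • ψ a
    have he0 : ∀ μ ν, ∀ v ∈ Vs ν, e0 μ v = if μ = ν then v else 0 := by
      intro μ ν v hv
      let χ : A →* K :=
        { toFun := fun a => μ a⁻¹ * ν a
          map_one' := by simp
          map_mul' := fun p q => by
            rw [mul_inv_rev, map_mul, map_mul]
            ring }
      have h1 : e0 μ v = ((Fintype.card A : K)⁻¹ * ∑ a, χ a) • v := by
        simp only [e0, LinearMap.smul_apply, LinearMap.sum_apply]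
        rw [mul_smul, Finset.sum_smul]
        congr 1
        refine Finset.sum_congr rfl fun a _ => ?_
        rw [hv a, smul_smul]
        rfl
      rw [h1]
      split_ifs with h
      · subst h
        have : ∀ a, χ a = 1 := fun a => by
          show μ a⁻¹ * μ a = 1
          rw [← map_mul, inv_mul_cancel, map_one]
        simp [this, inv_mul_cancel₀ hAK]
      · rw [sum_hom_units_eq_zero χ, mul_zero, zero_smul]
        intro hh
        refine h (MonoidHom.ext fun a => ?_)
        have h2 : μ a⁻¹ * ν a = 1 := DFunLike.congr_fun hh a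
        have h3 : μ a * μ a⁻¹ = 1 := by rw [← map_mul, mul_inv_cancel, map_one]
        calc μ a = μ a * (μ a⁻¹ * ν a) := by rw [h2, mul_one]
          _ = ν a := by rw [← mul_assoc, h3, one_mul]
    obtain ⟨μ₀, hμ₀⟩ : ∃ μ, Vs μ ≠ ⊥ := by
      obtain ⟨S, hS⟩ := exists_minimal_of_wellFoundedLT
        (fun W : Submodule K V => W ≠ ⊥ ∧ ∀ a : A, ∀ v ∈ W, ψ a v ∈ W)
        ⟨⊤, top_ne_bot, fun _ _ _ => Submodule.mem_top⟩
      obtain ⟨hSne, hSinv⟩ := hS.prop
      haveI : Nontrivial S := Submodule.nontrivial_iff_ne_bot.2 hSne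
      have hSirr : ∀ W : Submodule K S, (∀ a : A, ∀ w ∈ W, subRep (ψ.comp A.subtype) S hSinv a w ∈ W) →
          W = ⊥ ∨ W = ⊤ := by
        intro W hW
        by_cases hWb : W = ⊥
        · exact Or.inl hWb
        right
        have h1 := hS.2 (y := W.map S.subtype) ⟨fun h => hWb (Submodule.map_injective_of_injective
            S.injective_subtype (h.trans (Submodule.map_bot _).symm)), by
          rintro a _ ⟨w, hw, rfl⟩
          exact ⟨_, hW a w hw, rfl⟩⟩ (Submodule.map_subtype_le _ _)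
        exact Submodule.map_injective_of_injective S.injective_subtype
          ((le_antisymm (Submodule.map_subtype_le _ _) h1).trans (Submodule.map_subtype_top S).symm)
      have hsc' : ∀ a : A, ∃ r : K, subRep (ψ.comp A.subtype) S hSinv a = r • 1 := fun a =>
        CfsgLib.HallHigman.exists_eq_smul_one_of_commute _ hSirr _ fun a' => by
          show subRep (ψ.comp A.subtype) S hSinv a * subRep (ψ.comp A.subtype) S hSinv a' = _
          rw [← map_mul, ← map_mul]
          exact congrArg _ (Subtype.ext (hab a a.2 a' a'.2))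
      choose μ hμ using hsc'
      have hinj : ∀ r r' : K, r • (1 : Module.End K S) = r' • 1 → r = r' := fun r r' h =>
        smul_left_injective K (one_ne_zero (α := Module.End K S)) h
      refine ⟨⟨⟨μ, hinj _ _ (by rw [← hμ, map_one, one_smul])⟩,
        fun p q => hinj _ _ (by rw [← hμ, map_mul, hμ, hμ, smul_mul_smul_comm, one_mul])⟩, ?_⟩
      obtain ⟨v, hv, hv0⟩ := Submodule.exists_mem_ne_zero_of_ne_bot hSne
      refine fun h => hv0 ((Submodule.mem_bot K).1 (h ▸ ?_))
      intro a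
      exact congrArg Subtype.val (LinearMap.congr_fun (hμ a) ⟨v, hv⟩)
    have hsum : ⨆ μ, Vs μ = ⊤ := by
      refine (hirr _ fun g => ?_).resolve_left fun h => hμ₀ (le_bot_iff.1 (h ▸ le_iSup Vs μ₀))
      intro v hv
      have : (⨆ μ, Vs μ) ≤ (⨆ μ, Vs μ).comap (ψ g) := iSup_le fun μ w hw =>
        Submodule.mem_iSup_of_mem (actc g μ) (hmap g μ w hw)
      exact this hv
    have hproper : ∀ μ, finrank K (Vs μ) ≤ b := fun μ => by
      have h : Vs μ ≠ ⊤ := fun h => haₛs (μ ⟨aₛ, haₛ⟩) (LinearMap.ext fun v => by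
        exact (show v ∈ Vs μ from h ▸ Submodule.mem_top) ⟨aₛ, haₛ⟩)
      have := Submodule.finrank_lt h
      omega
    let St : (A →* K) → Subgroup H := fun μ =>
      { carrier := {g | actc g μ = μ}
        one_mem' := hactone μ
        mul_mem' := fun {g g'} (hg : actc g μ = μ) (hg' : actc g' μ = μ) => by
          show actc (g * g') μ = μ
          rw [hactmul, hg', hg]
        inv_mem' := fun {g} (hg : actc g μ = μ) => by
          show actc g⁻¹ μ = μ
          conv_lhs => rw [← hg]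
          rw [← hactmul, inv_mul_cancel, hactone] }
    let B : Subgroup H :=
      { carrier := {g | ∀ μ, Vs μ ≠ ⊥ → g ∈ St μ}
        one_mem' := fun μ _ => one_mem _
        mul_mem' := fun {g g'} hg hg' μ hμ => mul_mem (hg μ hμ) (hg' μ hμ)
        inv_mem' := fun {g} hg μ hμ => inv_mem (hg μ hμ) }
    have hne_act : ∀ g μ, Vs μ ≠ ⊥ → Vs (actc g μ) ≠ ⊥ := by
      intro g μ hμ h
      obtain ⟨v, hv, hv0⟩ := Submodule.exists_mem_ne_zero_of_ne_bot hμ
      have h1 := hmap g μ v hv
      rw [h, Submodule.mem_bot] at h1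
      refine hv0 ?_
      have h2 := congrArg (ψ g⁻¹) h1
      rwa [map_zero, ← Module.End.mul_apply, ← map_mul, inv_mul_cancel, map_one,
        Module.End.one_apply] at h2
    haveI hBn : B.Normal := ⟨fun y hy g μ hμ => by
      show actc (g * y * g⁻¹) μ = μ
      rw [mul_assoc, hactmul, hactmul,
        show actc y (actc g⁻¹ μ) = actc g⁻¹ μ from hy _ (hne_act _ _ hμ), ← hactmul, mul_inv_cancel,
        hactone]⟩
    have hequiv : ∀ g μ v, e0 (actc g μ) (ψ g v) = ψ g (e0 μ v) := by
      intro g μ v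
      have hle : (⊤ : Submodule K V) ≤
          LinearMap.ker (e0 (actc g μ) * ψ g - ψ g * e0 μ) := by
        rw [← hsum]
        refine iSup_le fun ν w hw => ?_
        rw [LinearMap.mem_ker, LinearMap.sub_apply, sub_eq_zero, Module.End.mul_apply,
          Module.End.mul_apply, he0 _ _ _ (hmap g ν w hw), he0 μ ν w hw]
        by_cases h : μ = ν
        · rw [if_pos h, if_pos (congrArg (actc g) h)]
        · rw [if_neg h, if_neg fun h' => h ?_, map_zero]
          have h2 := congrArg (actc g⁻¹) h'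
          rwa [← hactmul, ← hactmul, inv_mul_cancel, hactone, hactone] at h2
      have := hle (Submodule.mem_top : v ∈ (⊤ : Submodule K V))
      rwa [LinearMap.mem_ker, LinearMap.sub_apply, sub_eq_zero] at this
    -- the chain on one block
    have horb : ∀ μ, Vs μ ≠ ⊥ → ∀ (k : ℕ) (P : Subgroup H) (Y : Submodule K V), IsPGroup 2 P →
        chain ψ P k Y = ⊥ →
        (∀ g ∈ P, ∀ v ∈ Vs (actc g μ), ∃ u ∈ Y, ∀ h ∈ P, e0 (actc h μ) u = e0 (actc h μ) v) →
        ∃ j < k, der P j ≤ St μ ∧ chain ψ (der P j) (k - j) (Vs μ) = ⊥ := by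
      intro μ hμ k
      induction k with
      | zero =>
        intro P Y _ hch hY
        rw [chain_zero] at hch
        obtain ⟨v, hv, hv0⟩ := Submodule.exists_mem_ne_zero_of_ne_bot hμ
        obtain ⟨u, hu, hu'⟩ := hY 1 (one_mem P) v (by rwa [hactone])
        have := hu' 1 (one_mem P)
        rw [hactone, he0 μ μ v hv, if_pos rfl, (Submodule.eq_bot_iff Y).1 hch u hu, map_zero] at this
        exact absurd this.symm hv0
      | succ k ihk =>
        intro P Y hP hch hY
        by_cases hPS : P ≤ St μ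
        · refine ⟨0, k.succ_pos, hPS, ?_⟩
          refine chain_eq_bot_of_surjective (Y := Y) (e0 μ) (fun g hg v => ?_) (fun v hv => ?_) hch
          · conv_lhs => rw [← show actc g μ = μ from hPS hg]
            exact hequiv g μ v
          · obtain ⟨u, hu, hu'⟩ := hY 1 (one_mem P) v (by rwa [hactone])
            refine ⟨u, hu, ?_⟩
            have := hu' 1 (one_mem P)
            rwa [hactone, he0 μ μ v hv, if_pos rfl] at this
        haveI := hP.isNilpotent
        obtain ⟨g, hgP, hgS⟩ := Set.exists_of_ssubset (SetLike.coe_ssubset_coe.2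
          (lt_of_nilpotent (S := P ⊓ St μ) hP.isNilpotent
            (lt_of_le_of_ne inf_le_left fun h => hPS (inf_eq_left.1 h))))
        have hle : ⁅P, P⁆ ≤ P := commutator_self_le P
        obtain ⟨j, hj, hjS, hjc⟩ := ihk ⁅P, P⁆ (mcomm ψ P Y) (hP.to_le hle) hch
          fun g' hg' v hv => by
          have hgg : g⁻¹ * g' ∈ P := mul_mem (inv_mem hgP) (hle hg')
          have hv' : ψ g⁻¹ v ∈ Vs (actc (g⁻¹ * g') μ) := by
            rw [hactmul]; exact hmap g⁻¹ _ v hv
          obtain ⟨u, hu, hu'⟩ := hY _ hgg _ hv'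
          refine ⟨ψ g u - u, mem_mcomm hgP hu, fun h hh => ?_⟩
          have e1 : e0 (actc h μ) (ψ g u) = e0 (actc h μ) v := by
            have h1 := hequiv g (actc (g⁻¹ * h) μ) u
            rw [← hactmul, mul_inv_cancel_left, hu' _ (mul_mem (inv_mem hgP) (hle hh)), ← hequiv,
              ← hactmul, mul_inv_cancel_left,
              show ψ g (ψ g⁻¹ v) = v by
                rw [← Module.End.mul_apply, ← map_mul, mul_inv_cancel, map_one,
                  Module.End.one_apply]] at h1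
            exact h1
          have e2 : e0 (actc h μ) u = 0 := by
            rw [hu' h (hle hh), he0 _ _ _ hv', if_neg]
            intro he
            have h2 := congrArg (actc h⁻¹) he
            rw [← hactmul, ← hactmul, inv_mul_cancel, hactone] at h2
            have hs : h⁻¹ * (g⁻¹ * g') ∈ P ⊓ St μ :=
              ⟨P.mul_mem (P.inv_mem (hle hh)) hgg, h2.symm⟩
            have h3 := mul_mem (mul_mem (Subgroup.mem_sup_right (S := P ⊓ St μ) hh)
              (Subgroup.mem_sup_left hs)) (Subgroup.mem_sup_right (inv_mem hg'))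
            rw [mul_inv_cancel_left, mul_assoc, mul_inv_cancel, mul_one, inv_mem_iff] at h3
            exact hgS h3
          rw [map_sub, e1, e2, sub_zero]
        exact ⟨j + 1, Nat.succ_lt_succ hj, hjS, by rw [Nat.succ_sub_succ]; exact hjc⟩
    have hblock : ∀ (P : Subgroup H) (k : ℕ), IsPGroup 2 P → chain ψ P k ⊤ = ⊥ → ∀ μ, Vs μ ≠ ⊥ →
        ∃ j < k, der P j ≤ St μ ∧ chain ψ (der P j) (k - j) (Vs μ) = ⊥ := fun P k hP hch μ hμ =>
      horb μ hμ k P ⊤ hP hch fun g _ v _ => ⟨v, Submodule.mem_top, fun h _ => rfl⟩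
    by_cases hDB : D ≤ B
    swap
    · obtain ⟨E, hE, hSE, hsq⟩ := exists_index_two_ge hD (S := D ⊓ B)
        (lt_of_le_of_ne inf_le_left fun h => hDB (inf_eq_left.1 h))
      refine ⟨E, hE, hsq, fun k P hP hPD hch => le_trans (le_inf (dlt_inf_le hPD _) ?_) hSE⟩
      refine (dlt_le_der inf_le_right _).trans fun g hg μ hμ => ?_
      obtain ⟨j, hj, hjS, -⟩ := hblock P k hP hch μ hμ
      exact hjS (der_antitone P (by omega) hg)
    obtain ⟨μ, hμ, d, hdD, a, haQ, haB, hneμ⟩ : ∃ μ, Vs μ ≠ ⊥ ∧ ∃ d ∈ D, ∃ a ∈ Q, a ∈ B ∧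
        ∃ v ∈ Vs μ, ψ (d * a) v ≠ ψ (a * d) v := by
      by_contra hno
      push Not at hno
      have hcomm : ∀ d ∈ D, ∀ a ∈ Q, a ∈ B → d * a = a * d := by
        intro d hd a ha haB
        refine hψ (LinearMap.ext fun v => ?_)
        have hle : (⊤ : Submodule K V) ≤ LinearMap.ker (ψ (d * a) - ψ (a * d)) := by
          rw [← hsum]
          refine iSup_le fun μ w hw => ?_
          rw [LinearMap.mem_ker, LinearMap.sub_apply, sub_eq_zero]
          by_cases hμ : Vs μ = ⊥
          · rw [hμ, Submodule.mem_bot] at hw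
            rw [hw, map_zero, map_zero]
          · exact hno μ hμ d hd a ha haB w hw
        have := hle (Submodule.mem_top : v ∈ (⊤ : Submodule K V))
        rwa [LinearMap.mem_ker, LinearMap.sub_apply, sub_eq_zero] at this
      obtain ⟨s, hs⟩ := hD ⟨d₀, hd₀⟩
      set k := d₀ * a₀ * d₀⁻¹ * a₀⁻¹ with hk
      have hkQ : k ∈ Q := mul_mem (hQn.conj_mem a₀ ha₀ d₀) (inv_mem ha₀)
      have hkB : k ∈ B := by
        rw [hk, show d₀ * a₀ * d₀⁻¹ * a₀⁻¹ = d₀ * (a₀ * d₀⁻¹ * a₀⁻¹) by group]
        exact mul_mem (hDB hd₀) (hBn.conj_mem _ (inv_mem (hDB hd₀)) a₀)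
      have hk1 := eq_one_of_fixed_comm (congrArg Subtype.val hs) (a := a₀) (k := k)
        (by rw [hk, inv_mul_cancel_right]) (hcomm _ hd₀ k hkQ hkB) (odd_orderOf_mem hQo hkQ)
      rw [hk, mul_inv_eq_one, mul_inv_eq_iff_eq_mul] at hk1
      exact hne₀ hk1
    obtain ⟨v, hv, hneμ⟩ := hneμ
    have hDS : D ≤ St μ := fun g hg => hDB hg μ hμ
    have hSt : ∀ g : St μ, ∀ v ∈ Vs μ, (ψ.comp (St μ).subtype) g v ∈ Vs μ := fun g v hv => by
      have := hmap (g : H) μ v hv
      rwa [show actc (g : H) μ = μ from g.2] at this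
    set Φ := subRep (ψ.comp (St μ).subtype) (Vs μ) hSt with hΦ
    have hQo' : Odd (Nat.card (Q.subgroupOf (St μ))) := by
      refine hQo.of_dvd_nat ?_
      rw [← Subgroup.inf_subgroupOf_right, Nat.card_congr (Subgroup.subgroupOfEquivOfLe inf_le_right).toEquiv]
      exact Subgroup.card_dvd_of_le inf_le_left
    have hQs' : Group.IsSolvable (Q.subgroupOf (St μ)) := by
      haveI := hQs
      exact Group.isSolvable_of_isSolvable_injective (f :=
        (((St μ).subtype.comp (Q.subgroupOf (St μ)).subtype).codRestrict Q fun x => x.2))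
        fun x y h => Subtype.ext (Subtype.ext (congrArg (fun t : Q => (t : H)) h :))
    obtain ⟨E, hE, hsq, hn⟩ := ih' (hproper μ) Φ (Q.subgroupOf (St μ)) inferInstance hQo' hQs'
      (D.subgroupOf (St μ)) (hD.of_equiv (Subgroup.subgroupOfEquivOfLe hDS).symm)
      ⟨⟨d, hDS hdD⟩, hdD, ⟨a, haB μ hμ⟩, haQ, fun h => hneμ
        (congrArg Subtype.val (LinearMap.congr_fun h ⟨v, hv⟩))⟩
    refine ⟨E.map (St μ).subtype, lt_of_le_of_ne ?_ fun h => hE.2 fun g hg => ?_,
      fun d hd => ⟨_, hsq ⟨d, hDS hd⟩ hd, rfl⟩, fun k P hP hPD hch => ?_⟩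
    · rintro _ ⟨g, hg, rfl⟩
      exact hE.le hg
    · obtain ⟨g', hg', he⟩ := (show (g : H) ∈ E.map (St μ).subtype from h.symm ▸ hg)
      rwa [← Subtype.ext he]
    obtain ⟨j, hjk, hjS, hjc⟩ := hblock P k hP hch μ hμ
    set P₁ := (der P j).subgroupOf (St μ) with hP₁
    have hmapP : P₁.map (St μ).subtype = der P j := Subgroup.map_subgroupOf_eq_of_le hjS
    have hmapD : (D.subgroupOf (St μ) ⊓ P₁).map (St μ).subtype = D ⊓ der P j := by
      rw [Subgroup.map_inf _ _ _ (St μ).subtype_injective, hmapP,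
        Subgroup.map_subgroupOf_eq_of_le hDS]
    have h1 := hn (k - j) P₁ ((hP.to_le (der_le P j)).of_equiv (Subgroup.subgroupOfEquivOfLe hjS).symm)
      (fun p hp => by
        rw [Subgroup.mem_normalizer_iff]
        intro g
        rw [Subgroup.mem_subgroupOf, Subgroup.mem_subgroupOf]
        exact Subgroup.mem_normalizer_iff.1 (hPD (der_le P j hp)) g)
      (Submodule.map_injective_of_injective (Vs μ).injective_subtype (by
        rw [chain_map (ψ' := ψ.comp (St μ).subtype) (Vs μ).subtype (fun g _ v => rfl),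
          Submodule.map_subtype_top, chain_comp, hmapP, hjc, Submodule.map_bot]))
    rw [show k - 1 = j + (k - j - 1) by omega]
    refine (dlt_inf_add_le hPD j _).trans ?_
    refine le_trans (le_of_eq ?_) (Subgroup.map_mono (f := (St μ).subtype) h1)
    rw [map_dlt, hmapD, hmapP]

end CfsgLib.FGS74.Dlen
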