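import Cfsg.Agent.FGS74.Dlen.Key
import Cfsg.Agent.FGS74.Bry.Lift

/-!
# Chains in the quotient by `O_{2'}`

A nontrivial normal two-subgroup of `H / O_{2'}(H)` has a proper subgroup containing the squares and
all `[D ∩ P, P, P', ..., P^(e-1)]`, if the two-subgroups of `H` have a chain of length `e + 1` on a
faithful module in characteristic two.
-/

set_option autoImplicit false
set_option linter.style.haveILetI false

open Pointwise

namespace CfsgLib.FGS74.Dlen

open CfsgLib.FGS74.GrossLen CfsgLib.FGS74.Bry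

universe u v w

variable {K : Type u} [Field K] [CharP K 2] [IsAlgClosed K] {V : Type v} [AddCommGroup V]
  [Module K V] [FiniteDimensional K V] {H : Type w} [Group H] [Finite H]

/-- The chains in the quotient lie in a proper subgroup. -/
theorem exists_chain_sub (hH : Cfsg.IsPSolvable 2 H) (hH0 : Cfsg.pCore 2 H = ⊥)
    (ψ : H →* Module.End K V) (hψ : Function.Injective ψ) {e : ℕ}
    (hgood : ∀ S : Subgroup H, IsPGroup 2 S → chain ψ S (e + 1) ⊤ = ⊥)
    {D : Subgroup (H ⧸ Cfsg.pPrimeCore 2 H)} [hDn : D.Normal] (hD : IsPGroup 2 D) (hD1 : D ≠ ⊥) :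
    ∃ D' < D, (∀ d ∈ D, d * d ∈ D') ∧ ∀ P : Subgroup (H ⧸ Cfsg.pPrimeCore 2 H),
      IsPGroup 2 P → dlt P e (D ⊓ P) ≤ D' := by
  haveI := Fact.mk Nat.prime_two
  set N := Cfsg.pPrimeCore 2 H with hN
  have hNodd : Odd (Nat.card N) :=
    Nat.coprime_two_right.1 (CfsgLib.PLocal.coprime_card_pPrimeCore 2 H)
  set π := QuotientGroup.mk' N with hπ
  have hπs : Function.Surjective π := QuotientGroup.mk'_surjective N
  set M := D.comap π with hM
  haveI : M.Normal := hDn.comap π
  let P₀ : Sylow 2 M := default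
  set D₁ := (P₀ : Subgroup M).map M.subtype with hD₁
  have hD₁p : IsPGroup 2 D₁ := P₀.isPGroup'.map _
  have hcop : (Nat.card D₁).Coprime (Nat.card N) := by
    obtain ⟨k, hk⟩ := IsPGroup.iff_card.1 hD₁p
    rw [hk]
    exact (Nat.coprime_two_left.2 hNodd).pow_left k
  have hdisj : ∀ x ∈ D₁, x ∈ N → x = 1 := fun x hx hxN => by
    have : x ∈ D₁ ⊓ N := ⟨hx, hxN⟩
    rwa [disjoint_iff.1 (Subgroup.disjoint_of_coprime_natCard hcop), Subgroup.mem_bot] at this
  have hD₁M : D₁.map π = D := by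
    let f : M →* D := (π.comp M.subtype).codRestrict D fun x => x.2
    have hf : Function.Surjective f := by
      rintro ⟨y, hy⟩
      obtain ⟨x, rfl⟩ := hπs y
      exact ⟨⟨x, hy⟩, rfl⟩
    let P₁ := P₀.mapSurjective hf
    have htop : ((P₁ : Subgroup D)) = ⊤ :=
      (P₁.is_maximal' (hD.of_equiv Subgroup.topEquiv.symm) le_top).symm
    have h2 : (P₀ : Subgroup M).map f = ⊤ := htop
    have h3 : ((P₀ : Subgroup M).map f).map D.subtype = D := by
      rw [h2, ← MonoidHom.range_eq_map, Subgroup.range_subtype]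
    rw [hD₁, Subgroup.map_map]
    rw [Subgroup.map_map] at h3
    exact h3
  have hne : ¬ D₁ ≤ Subgroup.centralizer (N : Set H) := by
    intro h
    have hle := h.trans (Cfsg.Agent.S3754.centralizer_pPrimeCore_le hH hH0)
    refine hD1 ?_
    rw [← hD₁M, Subgroup.map_eq_bot_iff, QuotientGroup.ker_mk']
    exact hle
  haveI := hD₁p.isNilpotent
  obtain ⟨q, hq, P, hP, hnc⟩ := exists_invariant_sylow_not_central hcop inferInstance hne
  haveI := hq
  set Q := (P : Subgroup N).map N.subtype with hQ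
  have hQN : Q ≤ N := Subgroup.map_subtype_le _
  set L := Subgroup.normalizer (Q : Set H) with hL
  have hQL : Q ≤ L := Subgroup.le_normalizer
  have hQodd : Odd (Nat.card (Q.subgroupOf L)) := by
    rw [Nat.card_congr (Subgroup.subgroupOfEquivOfLe hQL).toEquiv]
    exact hNodd.of_dvd_nat (Subgroup.card_dvd_of_le hQN)
  have hQsol : Group.IsSolvable (Q.subgroupOf L) := by
    haveI := ((P.isPGroup'.map N.subtype).of_equiv (Subgroup.subgroupOfEquivOfLe hQL).symm).isNilpotent
    infer_instance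
  obtain ⟨d₀, hd₀, a₀, ha₀, hne₀⟩ := hnc
  obtain ⟨E, hE, hsq, hn⟩ := key (Module.finrank K V) (V := V) le_rfl (ψ.comp L.subtype)
    (hψ.comp L.subtype_injective) (Q.subgroupOf L) inferInstance hQodd hQsol (D₁.subgroupOf L)
    (hD₁p.of_equiv (Subgroup.subgroupOfEquivOfLe hP).symm)
    ⟨⟨d₀, hP hd₀⟩, hd₀, ⟨a₀, hQL ha₀⟩, ha₀, fun h => hne₀ (congrArg Subtype.val h)⟩
  refine ⟨(E.map L.subtype).map π, ?_, fun d hd => ?_, fun P₂ hP₂ => ?_⟩
  · refine lt_of_le_of_ne ?_ fun h => hE.2 fun g hg => ?_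
    · rw [← hD₁M]
      refine Subgroup.map_mono ?_
      rintro _ ⟨g, hg, rfl⟩
      exact hE.le hg
    · have hmem : π g ∈ (E.map L.subtype).map π := by
        rw [h, ← hD₁M]
        exact Subgroup.mem_map_of_mem π hg
      obtain ⟨_, ⟨g', hg', rfl⟩, he⟩ := hmem
      have h1 : (g' : H)⁻¹ * g = 1 := hdisj _ (mul_mem (inv_mem (hE.le hg')) hg) (by
        rw [← QuotientGroup.ker_mk' N, MonoidHom.mem_ker, map_mul, map_inv]
        exact inv_mul_eq_one.2 he)
      rwa [← Subtype.ext (inv_mul_eq_one.1 h1)]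
  · rw [← hD₁M] at hd
    obtain ⟨d, hd, rfl⟩ := hd
    exact ⟨d * d, ⟨_, hsq ⟨d, hP hd⟩ hd, rfl⟩, map_mul π d d⟩
  -- every element lifts into `J`
  set J := Subgroup.normalizer (D₁ : Set H) ⊓ L with hJ
  have hfr : ∀ z, ∃ x ∈ J, π x = z := by
    intro z
    obtain ⟨z₀, rfl⟩ := hπs z
    obtain ⟨y, hy, m, hm, rfl⟩ : ∃ y ∈ Subgroup.normalizer (D₁ : Set H), ∃ m ∈ M, y * m = z₀ := by
      have h := Sylow.normalizer_sup_eq_top P₀
      have h' : z₀ ∈ (Subgroup.normalizer (D₁ : Set H) ⊔ M : Subgroup H) := by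
        rw [hD₁, h]; exact Subgroup.mem_top z₀
      rw [← SetLike.mem_coe, Subgroup.mul_normal, Set.mem_mul] at h'
      exact h'
    obtain ⟨d, hd, he⟩ : ∃ d ∈ D₁, π d = π m := by
      have : π m ∈ D₁.map π := by rw [hD₁M]; exact hm
      exact this
    have hyd : y * d ∈ Subgroup.normalizer (D₁ : Set H) := mul_mem hy (Subgroup.le_normalizer hd)
    have hπyd : π (y * d) = π (y * m) := by rw [map_mul, map_mul, he]
    set z₁ := y * d with hz₁
    -- adjust by an element of the centraliser of `D₁` in `N`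
    obtain ⟨n, hnN, hn'⟩ : ∃ n ∈ N ⊓ Subgroup.centralizer (D₁ : Set H),
        MulAut.conj n • (MulAut.conj z₁ • Q) = Q := by
      have hzQ : D₁ ≤ Subgroup.normalizer ((MulAut.conj z₁ • Q : Subgroup H) : Set H) := by
        intro a ha
        have h1 := hP ((Subgroup.mem_normalizer_iff'.1 hyd (z₁⁻¹ * a)).2 (by
          rw [mul_inv_cancel_left]; exact ha))
        have h2 := CfsgLib.Coprime.conj_smul_eq_self h1
        refine CfsgLib.Coprime.le_normalizer_of_eq_self (A := Subgroup.zpowers a)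
          (fun b hb => ?_) (Subgroup.mem_zpowers a)
        obtain ⟨i, rfl⟩ := Subgroup.mem_zpowers_iff.1 hb
        have h3 : MulAut.conj (z₁⁻¹ * a * z₁) • Q = Q := h2
        have h4 : ∀ k : ℤ, MulAut.conj (a ^ k) • (MulAut.conj z₁ • Q) = MulAut.conj z₁ • Q := by
          intro k
          have h5 : MulAut.conj (z₁⁻¹ * a * z₁) ∈ MulAction.stabilizer (MulAut H) Q := h3
          have h6 : MulAut.conj ((z₁⁻¹ * a * z₁) ^ k) • Q = Q := by
            rw [map_zpow]
            exact Subgroup.zpow_mem _ h5 k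
          rw [CfsgLib.Coprime.conj_smul_conj_smul, show a ^ k * z₁ = z₁ * (z₁⁻¹ * a * z₁) ^ k by
            rw [← inv_inv z₁, inv_inv z₁⁻¹, conj_zpow]; simp; group,
            ← CfsgLib.Coprime.conj_smul_conj_smul, h6]
        exact h4 i
      have hNn : D₁ ≤ Subgroup.normalizer (N : Set H) := Subgroup.le_normalizer_of_normal
      have hle : MulAut.conj z₁ • Q ≤ N := by
        conv_rhs => rw [← Subgroup.Normal.conj_smul_eq_self z₁ N]
        exact Subgroup.pointwise_smul_le_pointwise_smul_iff.mpr hQN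
      have hc' : Nat.card ((MulAut.conj z₁ • Q).subgroupOf N) = q ^ (Nat.card N).factorization q := by
        rw [Nat.card_congr (Subgroup.subgroupOfEquivOfLe hle).toEquiv, CfsgLib.Coprime.card_conj_smul,
          hQ, Subgroup.card_map_of_injective N.subtype_injective, P.card_eq_multiplicity]
      obtain ⟨g, hg, hgeq⟩ := CfsgLib.Coprime.exists_conj_map_sylow (Sylow.ofCard _ hc') P
      rw [Sylow.coe_ofCard, Subgroup.subgroupOf_map_subtype, inf_eq_left.mpr hle] at hgeq
      exact CfsgLib.Coprime.exists_conj_eq_of_invariant hNn hcop (Or.inl inferInstance) hzQ hP hg hgeq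
    have hnzL : n * z₁ ∈ L := by
      refine CfsgLib.Coprime.le_normalizer_of_eq_self (A := Subgroup.zpowers (n * z₁)) (fun b hb => ?_)
        (Subgroup.mem_zpowers _)
      obtain ⟨i, rfl⟩ := Subgroup.mem_zpowers_iff.1 hb
      have h5 : MulAut.conj (n * z₁) ∈ MulAction.stabilizer (MulAut H) Q := by
        show MulAut.conj (n * z₁) • Q = Q
        rw [← CfsgLib.Coprime.conj_smul_conj_smul, hn']
      show MulAut.conj ((n * z₁) ^ i) • Q = Q
      rw [map_zpow]
      exact Subgroup.zpow_mem _ h5 i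
    have hnzD : n * z₁ ∈ Subgroup.normalizer (D₁ : Set H) :=
      mul_mem (Subgroup.centralizer_le_normalizer _ hnN.2) hyd
    have hπnz : π (n * z₁) = π (y * m) := by
      rw [map_mul, show π n = 1 from (QuotientGroup.eq_one_iff n).2 hnN.1, one_mul, hπyd]
    exact ⟨n * z₁, ⟨hnzD, hnzL⟩, hπnz⟩
  -- lift the two-subgroup
  set J' := J ⊓ P₂.comap π with hJ'
  let f : J' →* P₂ := (π.comp J'.subtype).codRestrict P₂ fun x => x.2.2
  have hf : Function.Surjective f := by
    rintro ⟨y, hy⟩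
    obtain ⟨x, hx, rfl⟩ := hfr y
    exact ⟨⟨x, hx, hy⟩, rfl⟩
  let S₀ : Sylow 2 J' := default
  set S := (S₀ : Subgroup J').map J'.subtype with hS
  have hSp : IsPGroup 2 S := S₀.isPGroup'.map _
  have hSJ : S ≤ J := (Subgroup.map_subtype_le _).trans inf_le_left
  have hSP : S.map π = P₂ := by
    let P₁ := S₀.mapSurjective hf
    have htop : ((P₁ : Subgroup P₂)) = ⊤ :=
      (P₁.is_maximal' (hP₂.of_equiv Subgroup.topEquiv.symm) le_top).symm
    have h2 : (S₀ : Subgroup J').map f = ⊤ := htop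
    have h3 : ((S₀ : Subgroup J').map f).map P₂.subtype = P₂ := by
      rw [h2, ← MonoidHom.range_eq_map, Subgroup.range_subtype]
    rw [hS, Subgroup.map_map]
    rw [Subgroup.map_map] at h3
    exact h3
  -- `S ∩ M` lies in the Sylow subgroup `D₁`
  have hSM : ∀ s ∈ S, s ∈ M → s ∈ D₁ := by
    intro s hs hsM
    have hle : (S ⊓ M) ≤ Subgroup.normalizer (D₁ : Set H) := fun x hx => (hSJ hx.1).1
    have hp : IsPGroup 2 ((S ⊓ M) ⊔ D₁ : Subgroup H) :=
      IsPGroup.to_sup_of_normal_right' (hSp.to_le inf_le_left) hD₁p hle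
    have hle' : (S ⊓ M) ⊔ D₁ ≤ M := sup_le inf_le_right (Subgroup.map_subtype_le _)
    have h1 := P₀.is_maximal' (Q := ((S ⊓ M) ⊔ D₁).subgroupOf M)
      (hp.of_equiv (Subgroup.subgroupOfEquivOfLe hle').symm)
      (fun x hx => Subgroup.mem_sup_right ⟨x, hx, rfl⟩)
    refine ⟨⟨s, hsM⟩, h1.le ?_, rfl⟩
    exact Subgroup.mem_sup_left ⟨hs, hsM⟩
  have hle : D ⊓ P₂ ≤ (D₁ ⊓ S).map π := by
    rintro z ⟨hz, hz'⟩
    rw [← hSP] at hz'
    obtain ⟨s, hs, rfl⟩ := hz'
    exact ⟨s, ⟨hSM s hs hz, hs⟩, rfl⟩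
  have hSL : S ≤ L := hSJ.trans inf_le_right
  have hSD : S ≤ Subgroup.normalizer (D₁ : Set H) := hSJ.trans inf_le_left
  have hmapS : (S.subgroupOf L).map L.subtype = S := Subgroup.map_subgroupOf_eq_of_le hSL
  have h1 := hn (e + 1) (S.subgroupOf L) (hSp.of_equiv (Subgroup.subgroupOfEquivOfLe hSL).symm)
    (fun x hx => by
      rw [Subgroup.mem_normalizer_iff]
      intro g
      rw [Subgroup.mem_subgroupOf, Subgroup.mem_subgroupOf]
      exact Subgroup.mem_normalizer_iff.1 (hSD hx) g)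
    (by rw [chain_comp, hmapS]; exact hgood S hSp)
  rw [Nat.add_sub_cancel] at h1
  have h2 : dlt S e (D₁ ⊓ S) ≤ E.map L.subtype := by
    refine le_trans (le_of_eq ?_) (Subgroup.map_mono (f := L.subtype) h1)
    rw [map_dlt, Subgroup.map_inf _ _ _ L.subtype_injective, hmapS,
      Subgroup.map_subgroupOf_eq_of_le hP]
  refine le_trans ?_ (Subgroup.map_mono (f := π) h2)
  rw [map_dlt, hSP]
  exact dlt_mono le_rfl hle e

end CfsgLib.FGS74.Dlen
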