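import Cfsg.Agent.FGS74.Dlen.Basic

/-!
# Orthogonal decompositions: lines and pieces

For orthogonal complementary subgroups `W`, `W'` of `M`, a minimal subspace for `W` and one for `W'`
meet in a line; the pieces are the quotients by the annihilators of minimal subspaces of the dual.
-/

set_option autoImplicit false
set_option linter.style.haveILetI false

open Module

namespace CfsgLib.FGS74.Dlen

open CfsgLib.FGS74.Bry CfsgLib.FGS74.GrossLen

universe u v w x y

namespace Weil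

variable {K : Type u} [Field K] {V : Type v} [AddCommGroup V] [Module K V] {M : Type w}
  [CommGroup M] {T : Type x} [Group T] (d : Weil K V M T)

/-- Orthogonal subgroups with product `M`. -/
structure Orth (W W' : Subgroup M) : Prop where
  perp : ∀ a ∈ W, ∀ b ∈ W', d.B a b = 1
  split : ∀ m, ∃ a ∈ W, ∃ b ∈ W', m = a * b

variable {d} {W W' : Subgroup M} (h : d.Orth W W')
include h

theorem Orth.symm : d.Orth W' W :=
  ⟨fun a ha b hb => d.form.eq_one_swap (h.perp b hb a ha), fun m =>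
    let ⟨a, ha, b, hb, e⟩ := h.split m
    ⟨b, hb, a, ha, e.trans (mul_comm a b)⟩⟩

theorem Orth.eq_one {a : M} (ha : a ∈ W) (ha' : a ∈ W') : a = 1 :=
  d.form.nd a fun m => by
    obtain ⟨p, hp, q, hq, rfl⟩ := h.split m
    rw [map_mul, MonoidHom.mul_apply, h.perp p hp a ha', h.symm.perp q hq a ha, one_mul]

theorem Orth.nd {a : M} (ha : a ∈ W) (hk : ∀ k ∈ W, d.B k a = 1) : a = 1 :=
  d.form.nd a fun m => by
    obtain ⟨p, hp, q, hq, rfl⟩ := h.split m
    rw [map_mul, MonoidHom.mul_apply, hk p hp, h.symm.perp q hq a ha, one_mul]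

theorem Orth.mem_right {m : M} (hm : ∀ k ∈ W, d.B k m = 1) : m ∈ W' := by
  obtain ⟨p, hp, q, hq, rfl⟩ := h.split m
  have : p = 1 := h.nd hp fun k hk => by
    have := hm k hk
    rwa [map_mul, h.perp k hk q hq, mul_one] at this
  rwa [this, one_mul]

theorem Orth.card_mul : Nat.card W * Nat.card W' = Nat.card M := by
  rw [← Nat.card_prod]
  refine Nat.card_eq_of_bijective (fun p : W × W' => (p.1 : M) * p.2) ⟨?_, fun m => ?_⟩
  · rintro ⟨a, b⟩ ⟨a', b'⟩ (he : (a : M) * b = a' * b')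
    have he' : (a' : M)⁻¹ * a = b' * (b : M)⁻¹ := by
      rw [inv_mul_eq_iff_eq_mul, ← mul_assoc, ← he, mul_inv_cancel_right]
    have h1 := h.eq_one (W.mul_mem (W.inv_mem a'.2) a.2)
      (he' ▸ W'.mul_mem b'.2 (W'.inv_mem b.2))
    rw [inv_mul_eq_one] at h1
    rw [← h1] at he
    exact Prod.ext (Subtype.ext h1.symm) (Subtype.ext (mul_left_cancel he))
  · obtain ⟨a, ha, b, hb, rfl⟩ := h.split m
    exact ⟨(⟨a, ha⟩, ⟨b, hb⟩), rfl⟩

variable [Fintype M]

/-- What commutes with `W` lives on `W'`. -/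
theorem Orth.proj_eq_zero {A : Module.End K V} (hA : ∀ k ∈ W, d.ρ k * A = A * d.ρ k) {a : M}
    (ha : a ∉ W') : d.proj a A = 0 := by
  obtain ⟨k, hk, hka⟩ : ∃ k ∈ W, d.B k a ≠ 1 := by
    by_contra! hall
    exact ha (h.mem_right hall)
  have h1 : d.ad k (d.proj a A) = d.proj a A := by
    rw [proj_apply, map_smul, map_sum]
    congr 1
    refine Finset.sum_congr rfl fun j _ => ?_
    rw [map_smul, ← d.ad_mul, mul_comm k j, d.ad_mul, (d.commute_iff_ad k A).1 (hA k hk)]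
  rw [d.ad_proj] at h1
  have h2 : ((d.B k a : K) - 1) • d.proj a A = 0 := by rw [sub_smul, one_smul, h1, sub_self]
  exact (smul_eq_zero.1 h2).resolve_left (sub_ne_zero.2 fun e => hka (Units.ext e))

omit [Fintype M]

/-- Operators commuting with `W` preserve subspaces invariant under `W'`. -/
theorem Orth.mem_of_commute [Finite M] [CharP K 2] (hs : d.Simple) {A : Module.End K V}
    (hA : ∀ k ∈ W, d.ρ k * A = A * d.ρ k) {L : Submodule K V}
    (hL : ∀ b ∈ W', ∀ v ∈ L, d.ρ b v ∈ L) {v : V} (hv : v ∈ L) : A v ∈ L := by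
  haveI := Fintype.ofFinite M
  rw [← d.sum_proj d.card_ne_zero A, LinearMap.sum_apply]
  refine L.sum_mem fun a _ => ?_
  by_cases ha : a ∈ W'
  · obtain ⟨r, hr⟩ := proj_eq_smul hs a A
    rw [hr]
    exact L.smul_mem r (hL a ha v hv)
  · rw [h.proj_eq_zero hA ha]
    exact L.zero_mem

/-- Operators commuting with `W` and with `W'` respectively have a nonzero product. -/
theorem Orth.mul_ne_zero [Finite M] [CharP K 2] [Nontrivial V] (hs : d.Simple)
    {P Q : Module.End K V} (hP : ∀ k ∈ W, d.ρ k * P = P * d.ρ k)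
    (hQ : ∀ k ∈ W', d.ρ k * Q = Q * d.ρ k) (hP0 : P ≠ 0) (hQ0 : Q ≠ 0) :
    P * Q ≠ 0 ∧ P * Q = Q * P := by
  haveI := Fintype.ofFinite M
  have hproj : ∀ a, ∃ r : K, d.proj a Q = r • d.ρ a ∧ (a ∉ W → r • d.ρ a = 0) := fun a => by
    obtain ⟨r, hr⟩ := proj_eq_smul hs a Q
    exact ⟨r, hr, fun ha => by rw [← hr, h.symm.proj_eq_zero hQ ha]⟩
  have hPW : ∀ a ∈ W, P * d.ρ a = d.ρ a * P := fun a ha => (hP a ha).symm
  refine ⟨fun hPQ => hQ0 ?_, ?_⟩
  · have hJ : ∀ k, P * d.ad k Q = 0 := by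
      intro k
      obtain ⟨a, ha, b, hb, rfl⟩ := h.split k
      rw [d.ad_mul, (d.commute_iff_ad b Q).1 (hQ b hb), ad_apply, mul_assoc (d.ρ a), ← mul_assoc P,
        hPW a ha, mul_assoc (d.ρ a), ← mul_assoc P, hPQ, zero_mul, mul_zero]
    rw [← d.sum_proj d.card_ne_zero Q]
    refine Finset.sum_eq_zero fun a _ => ?_
    obtain ⟨r, hr, -⟩ := hproj a
    have h1 : P * d.proj a Q = 0 := by
      rw [proj_apply, mul_smul_comm, Finset.mul_sum, Finset.sum_eq_zero, smul_zero]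
      exact fun k _ => by rw [mul_smul_comm, hJ, smul_zero]
    rw [hr, mul_smul_comm, smul_eq_zero] at h1
    rw [hr]
    refine h1.elim (fun h0 => by rw [h0, zero_smul]) fun h0 => absurd ?_ hP0
    rw [← mul_one P, ← d.ρ_mul_ρi a, ← mul_assoc, h0, zero_mul]
  · rw [← d.sum_proj d.card_ne_zero Q, Finset.mul_sum, Finset.sum_mul]
    refine Finset.sum_congr rfl fun a _ => ?_
    obtain ⟨r, hr, hr0⟩ := hproj a
    rw [hr]
    by_cases ha : a ∈ W
    · rw [mul_smul_comm, smul_mul_assoc, hPW a ha]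
    · rw [hr0 ha, mul_zero, zero_mul]

variable {T' : Type y} [Group T'] {f : T' →* T}
  {hW : ∀ t, ∀ a ∈ W, d.σ (f t) a ∈ W} {hW' : ∀ t, ∀ a ∈ W', d.σ (f t) a ∈ W'}

/-- A minimal subspace for `W` and one for `W'` meet in a line. -/
theorem Orth.line [Finite M] [CharP K 2] [IsAlgClosed K] [FiniteDimensional K V] (hs : d.Simple)
    {U L : Submodule K V} (hU : (d.restrict f W hW fun _ ha hk => h.nd ha hk).IsMin U)
    (hL : (d.restrict f W' hW' fun _ ha hk => h.symm.nd ha hk).IsMin L) :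
    ∃ p ∈ U ⊓ L, p ≠ 0 ∧ ∀ q ∈ U ⊓ L, ∃ r : K, q = r • p := by
  haveI := Fintype.ofFinite M
  set d₁ := d.restrict f W hW fun _ ha hk => h.nd ha hk
  set d₂ := d.restrict f W' hW' fun _ ha hk => h.symm.nd ha hk
  haveI : Fintype W := Fintype.ofFinite _
  haveI : Fintype W' := Fintype.ofFinite _
  haveI : Nontrivial V := by
    obtain ⟨u, -, hu⟩ := Submodule.exists_mem_ne_zero_of_ne_bot hU.1
    exact nontrivial_of_ne u 0 hu
  obtain ⟨P, hPc, hPU, hPid⟩ := d₁.exists_proj d₁.card_ne_zero hU.2.1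
  obtain ⟨Q, hQc, hQL, hQid⟩ := d₂.exists_proj d₂.card_ne_zero hL.2.1
  obtain ⟨u, hu, hu0⟩ := Submodule.exists_mem_ne_zero_of_ne_bot hU.1
  obtain ⟨l, hl, hl0⟩ := Submodule.exists_mem_ne_zero_of_ne_bot hL.1
  obtain ⟨hne, hcomm⟩ := h.mul_ne_zero hs (P := P) (Q := Q) (fun k hk => hPc ⟨k, hk⟩)
    (fun k hk => hQc ⟨k, hk⟩) (fun h0 => hu0 (by rw [← hPid u hu, h0]; rfl))
    (fun h0 => hl0 (by rw [← hQid l hl, h0]; rfl))
  obtain ⟨v, hv⟩ : ∃ v, (P * Q) v ≠ 0 := by
    by_contra! hall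
    exact hne (LinearMap.ext hall)
  refine ⟨(P * Q) v, ⟨hPU _, ?_⟩, hv, fun q hq => ?_⟩
  · rw [hcomm]; exact hQL _
  set p := (P * Q) v
  have hp : p ∈ U ⊓ L := ⟨hPU _, by show (P * Q) v ∈ L; rw [hcomm]; exact hQL _⟩
  -- an operator on `W'` carrying `p` to `q`
  let O := Submodule.span K (Set.range fun b : W' => d.ρ b)
  have hO : q ∈ O.map (LinearMap.applyₗ p) := by
    have h2 := hL.2.2 (O.map (LinearMap.applyₗ p)) (by
      rw [Submodule.map_span, Submodule.span_le]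
      rintro _ ⟨_, ⟨b, rfl⟩, rfl⟩
      exact hL.2.1 b _ hp.2) ?_ ?_
    · exact h2.ge hq.2
    · rintro a _ ⟨A, hA, rfl⟩
      induction hA using Submodule.span_induction with
      | mem x hx =>
        obtain ⟨b, rfl⟩ := hx
        obtain ⟨c, hc0, hc⟩ := d.ρ_mul a b
        refine ⟨c⁻¹ • d.ρ ((a * b : W') : M),
          O.smul_mem _ (Submodule.subset_span ⟨a * b, rfl⟩), ?_⟩
        show (c⁻¹ • d.ρ ((a * b : W') : M)) p = d.ρ a (d.ρ b p)
        rw [Subgroup.coe_mul, hc, inv_smul_smul₀ hc0]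
        rfl
      | zero => simp
      | add x y _ _ hx hy => rw [map_add, map_add]; exact add_mem hx hy
      | smul r x _ hx => rw [map_smul, map_smul]; exact Submodule.smul_mem _ r hx
    · intro hb
      refine hv ((Submodule.eq_bot_iff _).1 hb p ⟨d.ρ (1 : W'), Submodule.subset_span ⟨1, rfl⟩, ?_⟩)
      show d.ρ ((1 : W') : M) p = p
      rw [OneMemClass.coe_one, d.ρ_one, Module.End.one_apply]
  obtain ⟨A, hA, rfl⟩ := hO
  have hAc : ∀ a ∈ W, ∀ x, A (d.ρ a x) = d.ρ a (A x) := by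
    intro a ha
    clear hq
    induction hA using Submodule.span_induction with
    | mem x hx =>
      obtain ⟨b, rfl⟩ := hx
      intro w
      have h1 := LinearMap.congr_fun (d.ρ_comm a b) w
      rw [show (d.B a b : K) = 1 by rw [h.perp a ha b b.2, Units.val_one], one_smul] at h1
      exact h1.symm
    | zero => simp
    | add x y _ _ hx hy => intro w; simp [hx w, hy w]
    | smul r x _ hx => intro w; simp [hx w]
  have hAU : ∀ x ∈ U, A x ∈ U := by
    have h2 := hU.2.2 (U ⊓ U.comap A) inf_le_left (fun a x hx => ⟨hU.2.1 a x hx.1, by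
      show A (d₁.ρ a x) ∈ U
      exact (hAc a a.2 x).symm ▸ hU.2.1 a _ hx.2⟩)
      (fun hb => hv ((Submodule.eq_bot_iff _).1 hb p ⟨hp.1, hq.1⟩))
    exact fun x hx => (h2.ge hx).2
  obtain ⟨r, hr⟩ := d₁.schur hU A hAU fun a x _ => hAc a a.2 x
  exact ⟨r, hr p hp.1⟩

end Weil

end CfsgLib.FGS74.Dlen
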