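import Cfsg.Agent.FGS74.Dlen.Lift
import Cfsg.Agent.FGS74.Bry.Main

/-!
# The `2`-length is at most the derived length of the Sylow `2`-subgroups

The induction: a faithful representation in which all two-subgroups have a chain of length `e + 1`
gives one of the next quotient with chains of length `e`.
-/

set_option autoImplicit false
set_option linter.style.haveILetI false

open Finset
open scoped commutatorElement

namespace CfsgLib.FGS74.Dlen

open CfsgLib.FGS74.GrossLen CfsgLib.FGS74.Bry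

universe u v

local notation "𝕂" => AlgebraicClosure (ZMod 2)

/-- The commutators of `w` along the derived series, in a group acted on. -/
def wchain {H : Type u} [Group H] {W : Type v} [CommGroup W] (c : H →* MulAut W) :
    Subgroup H → ℕ → W → Set W
  | _, 0, w => {w}
  | P, k + 1, w => {x | ∃ g ∈ P, x ∈ wchain c ⁅P, P⁆ k (c g w * w⁻¹)}

/-- Chains of elements project into the chains of subgroups. -/
theorem wchain_proj {H : Type u} [Group H] {W : Type v} [CommGroup W] (c : H →* MulAut W)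
    (D : Subgroup H) {Q : Type*} (q : D → Q) (pr : W → Q)
    (hstep : ∀ g w (d : D), pr w = q d →
      ∃ d' : D, (d' : H) = ⁅g, (d : H)⁆ ∧ pr (c g w * w⁻¹) = q d') :
    ∀ (k : ℕ) (P E : Subgroup H) (w : W) (d : D), (d : H) ∈ E → pr w = q d →
      ∀ x ∈ wchain c P k w, ∃ y ∈ dlt P k E, ∃ hy : y ∈ D, pr x = q ⟨y, hy⟩ := by
  intro k
  induction k with
  | zero =>
    intro P E w d hd hw x hx
    obtain rfl : x = w := hx
    exact ⟨d, hd, d.2, hw⟩
  | succ k ih =>
    intro P E w d hd hw x hx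
    obtain ⟨g, hg, hx⟩ := hx
    obtain ⟨d', hd', hw'⟩ := hstep g w d hw
    refine ih ⁅P, P⁆ ⁅E, P⁆ _ d' ?_ hw' x hx
    rw [hd', Subgroup.commutator_comm]
    exact Subgroup.commutator_mem_commutator hg hd

/-- An elementary abelian group as a module, remembering chains. -/
theorem exists_chain_module {H : Type u} [Group H] (W : Type v) [CommGroup W] [Finite W]
    (hexp : ∀ w : W, w ^ 2 = 1) (c : H →* MulAut W) :
    ∃ (m : ℕ) (Φ : H →* Module.End 𝕂 (Fin m → 𝕂)), (∀ a b, Φ a = Φ b → c a = c b) ∧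
      (∀ a, c a = 1 → Φ a = 1) ∧
      ∀ (P : Subgroup H) (k : ℕ), (∀ w, ∀ x ∈ wchain c P k w, x = 1) → chain Φ P k ⊤ = ⊥ := by
  haveI := Fact.mk Nat.prime_two
  obtain ⟨m, Θ, hΘ⟩ := @CfsgLib.ShultGross.exists_end_embedding 2 _ (Additive W) _ _
    (AddCommGroup.zmodModule fun v : Additive W => hexp v.toMul)
  let toEnd : MulAut W →* AddMonoid.End (Additive W) :=
    { toFun := fun f => MonoidHom.toAdditive f.toMonoidHom
      map_one' := AddMonoidHom.ext fun _ => rfl
      map_mul' := fun _ _ => AddMonoidHom.ext fun _ => rfl }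
  let Φ : H →* Module.End 𝕂 (Fin m → 𝕂) := (Θ.toMonoidHom.comp toEnd).comp c
  refine ⟨m, Φ, fun a b h => ?_, fun a h => ?_, fun P k hk => ?_⟩
  · ext x
    exact congrArg (fun k : AddMonoid.End (Additive W) => Additive.toMul (k (Additive.ofMul x)))
      (hΘ h)
  · show Θ (toEnd (c a)) = 1
    rw [h, map_one, map_one]
  have hops : ∀ (k : ℕ) (P : Subgroup H), ∀ X ∈ chainOps Φ P k, ∃ Y : AddMonoid.End (Additive W),
      X = Θ Y ∧ ∀ w, (Y (Additive.ofMul w)).toMul ∈ wchain c P k w := by
    intro k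
    induction k with
    | zero =>
      intro P X hX
      obtain rfl : X = 1 := hX
      exact ⟨1, (map_one Θ).symm, fun w => rfl⟩
    | succ k ih =>
      intro P X hX
      obtain ⟨g, hg, X', hX', rfl⟩ := hX
      obtain ⟨Y, rfl, hY⟩ := ih _ _ hX'
      refine ⟨Y * (toEnd (c g) - 1), ?_, fun w => ⟨g, hg, ?_⟩⟩
      · rw [map_mul, map_sub, map_one]
        rfl
      · have he : (Y * (toEnd (c g) - 1)) (Additive.ofMul w) = Y (Additive.ofMul (c g w * w⁻¹)) :=
          congrArg Y (by rw [ofMul_mul, ofMul_inv, ← sub_eq_add_neg]; rfl)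
        rw [he]
        exact hY _
  refine chain_eq_bot_of_ops fun X hX y _ => ?_
  obtain ⟨Y, rfl, hY⟩ := hops k P X hX
  have hY0 : Y = 0 := AddMonoidHom.ext fun v => Additive.toMul.injective
    ((hk _ _ (hY (Additive.toMul v))).trans rfl)
  rw [hY0, map_zero, LinearMap.zero_apply]

set_option maxHeartbeats 1000000 in
/-- The faithful representation of the next quotient. -/
theorem exists_next_module {H : Type u} [Group H] [Finite H] (hH : Cfsg.IsPSolvable 2 H)
    (hH0 : Cfsg.pCore 2 H = ⊥) {m : ℕ} (ψ : H →* Module.End 𝕂 (Fin m → 𝕂))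
    (hψ : Function.Injective ψ) {e : ℕ}
    (hgood : ∀ S : Subgroup H, IsPGroup 2 S → chain ψ S (e + 2) ⊤ = ⊥) :
    ∃ (n : ℕ) (ψ₂ : (H ⧸ Cfsg.pPrimeCore 2 H) ⧸ Cfsg.pCore 2 (H ⧸ Cfsg.pPrimeCore 2 H) →*
        Module.End 𝕂 (Fin n → 𝕂)), Function.Injective ψ₂ ∧
      ∀ X : Subgroup ((H ⧸ Cfsg.pPrimeCore 2 H) ⧸ Cfsg.pCore 2 (H ⧸ Cfsg.pPrimeCore 2 H)),
        IsPGroup 2 X → chain ψ₂ X (e + 1) ⊤ = ⊥ := by
  classical
  haveI := Fact.mk Nat.prime_two
  haveI : CharP 𝕂 2 := charP_of_injective_algebraMap (algebraMap (ZMod 2) _).injective 2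
  set Hb := H ⧸ Cfsg.pPrimeCore 2 H
  have hHb : Cfsg.IsPSolvable 2 Hb := CfsgLib.PLocal.isPSolvable_quotient hH _
  have hHb0 : Cfsg.pPrimeCore 2 Hb = ⊥ := CfsgLib.PLocal.pPrimeCore_quotient_pPrimeCore_eq_bot 2 H
  set A := Cfsg.pCore 2 Hb with hA
  have hAp : IsPGroup 2 A := CfsgLib.PLocal.isPGroup_pCore 2 Hb
  let ι := {D : Subgroup Hb // D.Normal ∧ D ≤ A}
  haveI hin : ∀ i : ι, (i.1).Normal := fun i => i.2.1
  haveI : Finite ι := Subtype.finite
  -- the squares and the norms
  let T : ι → Set Hb := fun i => {x | (∃ d ∈ i.1, d * d = x) ∨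
    ∃ Z : Subgroup Hb, IsPGroup 2 Z ∧ x ∈ dlt Z (e + 1) (i.1 ⊓ Z)}
  let S : ι → Subgroup Hb := fun i => Subgroup.closure (T i)
  have hTD : ∀ i x, x ∈ T i → x ∈ i.1 := by
    rintro i x (⟨d, hd, rfl⟩ | ⟨Z, -, hx⟩)
    · exact mul_mem hd hd
    · exact dlt_inf_le (D := i.1) (by rw [Subgroup.normalizer_eq_top]; exact le_top) _ hx
  haveI hSn : ∀ i, (S i).Normal := fun i => ⟨fun x hx g => by
    have h : (S i).map (MulAut.conj g).toMonoidHom ≤ S i := by
      rw [MonoidHom.map_closure]
      refine Subgroup.closure_mono ?_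
      rintro _ ⟨x, (⟨d, hd, rfl⟩ | ⟨Z, hZ, hx⟩), rfl⟩
      · exact Or.inl ⟨g * d * g⁻¹, (hin i).conj_mem d hd g, (map_mul (MulAut.conj g) d d).symm⟩
      · refine Or.inr ⟨Z.map (MulAut.conj g).toMonoidHom, hZ.map _, ?_⟩
        have h1 := Subgroup.mem_map_of_mem (MulAut.conj g).toMonoidHom hx
        rw [map_dlt, Subgroup.map_inf _ _ _ (MulAut.conj g).injective] at h1
        refine dlt_mono le_rfl (inf_le_inf_right _ ?_) _ h1
        rintro _ ⟨d, hd, rfl⟩
        exact (hin i).conj_mem d hd g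
    exact h ⟨x, hx, rfl⟩⟩
  let P : ι → Subgroup Hb := fun i => S i ⊔ ⁅A, i.1⁆
  haveI hPn : ∀ i, (P i).Normal := fun i =>
    @Subgroup.sup_normal Hb _ (S i) ⁅A, i.1⁆ (hSn i) (Subgroup.commutator_normal A i.1)
  have hPle : ∀ i, P i ≤ i.1 := fun i =>
    sup_le ((Subgroup.closure_le _).2 (hTD i)) (Subgroup.commutator_le_right A i.1)
  have hPlt : ∀ i : ι, i.1 ≠ ⊥ → P i < i.1 := by
    intro i hi
    refine lt_of_le_of_ne (hPle i) fun h => ?_
    obtain ⟨D', hD', hsq, hn⟩ := exists_chain_sub hH hH0 ψ hψ hgood (D := i.1) (hAp.to_le i.2.2) hi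
    refine hD'.2 ((le_of_le_sup_commutator hAp.isNilpotent i.2.2 h.ge).trans
      ((Subgroup.closure_le _).2 ?_))
    rintro x (⟨d, hd, rfl⟩ | ⟨Z, hZ, hx⟩)
    · exact hsq d hd
    · exact hn Z hZ hx
  -- the modules
  let Q : ι → Type u := fun i => i.1 ⧸ (P i).subgroupOf i.1
  have hsq : ∀ (i : ι) (x : Q i), x * x = 1 := fun i x => by
    induction x using QuotientGroup.induction_on with
    | _ d =>
      rw [← QuotientGroup.mk_mul, QuotientGroup.eq_one_iff]
      exact Subgroup.mem_sup_left (Subgroup.subset_closure (Or.inl ⟨d, d.2, rfl⟩))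
  letI : ∀ i, CommGroup (Q i) := fun i =>
    { (inferInstance : Group (i.1 ⧸ (P i).subgroupOf i.1)) with
      mul_comm := fun x y => by
        have h : ∀ a : Q i, a⁻¹ = a := fun a => inv_eq_of_mul_eq_one_right (hsq i a)
        calc x * y = (x * y)⁻¹ := (h _).symm
          _ = y⁻¹ * x⁻¹ := mul_inv_rev x y
          _ = y * x := by rw [h, h] }
  have hmap : ∀ (i : ι) (g : Hb), ((P i).subgroupOf i.1).map
      ((MulAut.conjNormal g : MulAut i.1) : i.1 →* i.1) = (P i).subgroupOf i.1 := by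
    intro i g
    ext x
    rw [Subgroup.mem_map]
    constructor
    · rintro ⟨y, hy, rfl⟩
      rw [Subgroup.mem_subgroupOf] at hy ⊢
      rw [MonoidHom.coe_coe, MulAut.conjNormal_apply]
      exact (hPn i).conj_mem _ hy g
    · intro hx
      refine ⟨MulAut.conjNormal g⁻¹ x, ?_, ?_⟩
      · rw [Subgroup.mem_subgroupOf, MulAut.conjNormal_apply]
        exact (hPn i).conj_mem _ hx g⁻¹
      · rw [MonoidHom.coe_coe, ← MulAut.mul_apply, ← map_mul, mul_inv_cancel, map_one,
          MulAut.one_apply]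
  let act : ∀ i, Hb →* MulAut (Q i) := fun i =>
    { toFun := fun g => QuotientGroup.congr _ _ (MulAut.conjNormal g : MulAut i.1) (hmap i g)
      map_one' := by
        ext x
        induction x using QuotientGroup.induction_on
        simp
      map_mul' := fun g h => by
        ext x
        induction x using QuotientGroup.induction_on
        simp [MulAut.mul_apply] }
  have hact : ∀ i g (d : i.1), act i g (d : Q i) = ((MulAut.conjNormal g d : i.1) : Q i) :=
    fun i g d => rfl
  let W := ∀ i, Q i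
  let c : Hb →* MulAut W :=
    { toFun := fun g => MulEquiv.piCongrRight fun i => act i g
      map_one' := MulEquiv.ext fun w => funext fun i => by simp
      map_mul' := fun g h => MulEquiv.ext fun w => funext fun i => by simp [MulAut.mul_apply] }
  have hc : ∀ g (w : W) i, c g w i = act i g (w i) := fun g w i => rfl
  have hfix : ∀ g, c g = 1 → ∀ (i : ι) d, d ∈ i.1 → g * d * g⁻¹ * d⁻¹ ∈ P i := by
    intro g hg i d hd
    have h1 := congrFun (DFunLike.congr_fun hg (Function.update (1 : W) i ((⟨d, hd⟩ : i.1) : Q i))) i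
    rw [hc, Function.update_self, MulAut.one_apply, Function.update_self, hact, eq_comm,
      QuotientGroup.eq, Subgroup.mem_subgroupOf] at h1
    have h2 := (hPn i).conj_mem _ h1 d
    simp only [Subgroup.coe_mul, Subgroup.coe_inv, MulAut.conjNormal_apply] at h2
    convert h2 using 1
    group
  have hAker : ∀ g ∈ A, c g = 1 := by
    intro g hg
    refine MulEquiv.ext fun w => funext fun i => ?_
    rw [hc, MulAut.one_apply]
    induction w i using QuotientGroup.induction_on with
    | _ d =>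
      rw [hact, eq_comm, QuotientGroup.eq, Subgroup.mem_subgroupOf]
      simp only [Subgroup.coe_mul, Subgroup.coe_inv, MulAut.conjNormal_apply]
      have h2 := (hPn i).conj_mem _
        (Subgroup.mem_sup_right (Subgroup.commutator_mem_commutator hg d.2)) (d : Hb)⁻¹
      convert h2 using 1
      rw [commutatorElement_def]
      group
  -- odd elements of the kernel centralise `A`
  have hodd : ∀ g, c g = 1 → Odd (orderOf g) → g = 1 := by
    intro g hg ho
    have hcen : ∀ (n : ℕ) (i : ι), Nat.card i.1 ≤ n → ∀ d ∈ i.1, g * d = d * g := by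
      intro n
      induction n with
      | zero => intro i hi; exact absurd hi (Nat.not_le.2 Nat.card_pos)
      | succ n ih =>
        intro i hi d hd
        by_cases hb : i.1 = ⊥
        · rw [hb, Subgroup.mem_bot] at hd
          rw [hd, mul_one, one_mul]
        have hlt : Nat.card (P i) < Nat.card i.1 :=
          Set.Finite.card_lt_card (Set.toFinite _) (SetLike.coe_ssubset_coe.2 (hPlt i hb))
        set k := g * d * g⁻¹ * d⁻¹ with hk
        have hkP : k ∈ P i := hfix g hg i d hd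
        have hgk : Commute g k := ih ⟨P i, hPn i, (hPle i).trans i.2.2⟩
          (Nat.le_of_lt_succ (hlt.trans_le hi)) k hkP
        have hpow : ∀ r : ℕ, g ^ r * d * (g ^ r)⁻¹ = k ^ r * d := by
          intro r
          induction r with
          | zero => simp
          | succ r ihr =>
            calc g ^ (r + 1) * d * (g ^ (r + 1))⁻¹ = g * (g ^ r * d * (g ^ r)⁻¹) * g⁻¹ := by
                  rw [pow_succ']; group
              _ = (g * k ^ r * g⁻¹) * (g * d * g⁻¹ * d⁻¹) * d := by rw [ihr]; group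
              _ = k ^ (r + 1) * d := by
                  rw [(hgk.pow_right r).eq, mul_inv_cancel_right, ← hk, ← pow_succ]
        have h1 := hpow (orderOf g)
        rw [pow_orderOf_eq_one, one_mul, inv_one, mul_one, right_eq_mul] at h1
        obtain ⟨s, hs⟩ := hAp ⟨k, i.2.2 (hPle i hkP)⟩
        have hk2 : k ^ 2 ^ s = 1 := congrArg Subtype.val hs
        have h3 := Nat.eq_one_of_dvd_coprimes ((Nat.coprime_two_left.2 ho).pow_left s)
          (orderOf_dvd_of_pow_eq_one hk2) (orderOf_dvd_of_pow_eq_one h1)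
        rw [orderOf_eq_one_iff, hk, mul_inv_eq_one, mul_inv_eq_iff_eq_mul] at h3
        exact h3
    have hgA : g ∈ A := CfsgLib.PLocal.centralizer_pCore_le hHb hHb0
      (Subgroup.mem_centralizer_iff.2 fun a ha =>
        (hcen _ ⟨A, inferInstance, le_rfl⟩ le_rfl a ha).symm)
    obtain ⟨s, hs⟩ := hAp ⟨g, hgA⟩
    exact orderOf_eq_one_iff.1 (Nat.eq_one_of_dvd_coprimes ((Nat.coprime_two_left.2 ho).pow_left s)
      (orderOf_dvd_of_pow_eq_one (congrArg Subtype.val hs : g ^ 2 ^ s = 1)) dvd_rfl)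
  have hker : c.ker = A := by
    refine le_antisymm (CfsgLib.PLocal.le_pCore ?_) fun g hg => hAker g hg
    rintro ⟨g, hg⟩
    obtain ⟨s, t, ht, hord⟩ := exists_odd_pow_eq (x := g)
    refine ⟨s, Subtype.ext ?_⟩
    rw [Subgroup.coe_pow, Subgroup.coe_one]
    refine hodd _ (by rw [map_pow, MonoidHom.mem_ker.1 hg, one_pow]) (ht.of_dvd_nat ?_)
    refine orderOf_dvd_of_pow_eq_one ?_
    rw [← pow_mul, ← hord, pow_orderOf_eq_one]
  haveI : Finite W := Pi.finite
  obtain ⟨n, Φ, hΦ, hΦ1, hΦch⟩ := exists_chain_module W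
    (fun w => funext fun i => by rw [Pi.pow_apply, pow_two]; exact hsq i (w i)) c
  refine ⟨n, QuotientGroup.lift A Φ (fun g hg => hΦ1 g (hAker g hg)), ?_, fun X hX => ?_⟩
  · intro a b h
    induction a using QuotientGroup.induction_on with
    | H a =>
      induction b using QuotientGroup.induction_on with
      | H b =>
        have h1 : c a = c b := hΦ a b h
        refine QuotientGroup.eq.2 (hker.le (MonoidHom.mem_ker.2 ?_))
        rw [map_mul, map_inv, h1, inv_mul_cancel]
  set Z := X.comap (QuotientGroup.mk' A) with hZdef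
  have hZ : IsPGroup 2 Z :=
    hX.comap_of_ker_isPGroup (QuotientGroup.mk' A) (by rw [QuotientGroup.ker_mk']; exact hAp)
  have hlift : (QuotientGroup.lift A Φ (fun g hg => hΦ1 g (hAker g hg))).comp (QuotientGroup.mk' A) = Φ :=
    MonoidHom.ext fun g => rfl
  rw [← Subgroup.map_comap_eq_self_of_surjective (QuotientGroup.mk'_surjective A) X, ← hZdef,
    ← chain_comp, hlift]
  refine hΦch Z (e + 1) fun w x hx => funext fun i => ?_
  have hle : i.1 ≤ Z := fun a ha => Subgroup.mem_comap.2 (by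
    rw [QuotientGroup.mk'_apply, (QuotientGroup.eq_one_iff a).2 (i.2.2 ha)]
    exact one_mem X)
  obtain ⟨d, hd⟩ : ∃ d : i.1, (d : Q i) = w i := ⟨_, QuotientGroup.out_eq' _⟩
  obtain ⟨y, hy, hyi, hxy⟩ := wchain_proj c i.1 (fun d : i.1 => (d : Q i)) (fun w => w i)
    (fun g w d h => by
      refine ⟨⟨⁅g, (d : Hb)⁆, Subgroup.commutator_le_right ⊤ i.1
        (Subgroup.commutator_mem_commutator (Subgroup.mem_top g) d.2)⟩, rfl, ?_⟩
      rw [Pi.mul_apply, Pi.inv_apply, hc, h, hact, ← QuotientGroup.mk_inv, ← QuotientGroup.mk_mul]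
      exact congrArg _ (Subtype.ext (by
        rw [Subgroup.coe_mul, Subgroup.coe_inv, MulAut.conjNormal_apply]; exact (commutatorElement_def g _).symm)))
    (e + 1) Z i.1 w d d.2 hd.symm x hx
  rw [hxy, Pi.one_apply, QuotientGroup.eq_one_iff, Subgroup.mem_subgroupOf]
  refine Subgroup.mem_sup_left (Subgroup.subset_closure (Or.inr ⟨Z, hZ, ?_⟩))
  show y ∈ dlt Z (e + 1) (i.1 ⊓ Z)
  rw [inf_eq_left.2 hle]
  exact hy

/-- The length under the hypothesis on the representation. -/
theorem pLengthLE_of_chain : ∀ (e : ℕ) {H : Type u} [Group H] [Finite H],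
    Cfsg.IsPSolvable 2 H → Cfsg.pCore 2 H = ⊥ → ∀ (m : ℕ) (ψ : H →* Module.End 𝕂 (Fin m → 𝕂)),
    Function.Injective ψ → (∀ S : Subgroup H, IsPGroup 2 S → chain ψ S (e + 1) ⊤ = ⊥) →
    Cfsg.PLengthLE 2 e H := by
  haveI := Fact.mk Nat.prime_two
  intro e
  induction e with
  | zero =>
    intro H _ _ _ _ m ψ hψ hgood
    refine isPLengthLE_zero_of_trivial fun x hx => hψ (LinearMap.ext fun v => ?_)
    rw [map_one, Module.End.one_apply]
    exact chain_one_eq_bot_iff.1 (hgood _ hx) x (Subgroup.mem_zpowers x) v Submodule.mem_top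
  | succ e ih =>
    intro H _ _ hH hH0 m ψ hψ hgood
    set Hb := H ⧸ Cfsg.pPrimeCore 2 H
    obtain ⟨n, ψ₂, hψ₂, hgood₂⟩ := exists_next_module hH hH0 ψ hψ hgood
    have h2 := CfsgLib.PLength.pLengthLE_one_of_isPGroup (p := 2)
      (CfsgLib.PLocal.isPGroup_pCore 2 Hb)
    have h0 : Cfsg.PLengthLE 2 0 (Cfsg.pPrimeCore 2 H) :=
      CfsgLib.PLength.pLengthLE_zero_iff.2 (CfsgLib.PLocal.coprime_card_pPrimeCore 2 H)
    have hb2 := CfsgLib.PLength.pLengthLE_extension (Cfsg.pCore 2 Hb) h2
      (ih (CfsgLib.PLocal.isPSolvable_quotient (CfsgLib.PLocal.isPSolvable_quotient hH _) _)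
        (CfsgLib.PLocal.pCore_quotient_pCore_eq_bot 2 Hb) n ψ₂ hψ₂ hgood₂)
    exact CfsgLib.PLength.pLengthLE_mono (by omega)
      (CfsgLib.PLength.pLengthLE_extension (Cfsg.pPrimeCore 2 H) h0 hb2)

/-- A bound on the derived length of the two-subgroups. -/
theorem der_eq_bot {G : Type u} [Group G] [Finite G] {d : ℕ}
    (hd : ∀ P : Sylow 2 G, derivedSeries (P : Subgroup G) d = ⊥) {X : Subgroup G} (hX : IsPGroup 2 X) :
    der X d = ⊥ := by
  obtain ⟨P, hP⟩ := hX.exists_le_sylow
  rw [← le_bot_iff]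
  refine (der_mono hP d).trans ?_
  rw [der_eq_map_derivedSeries, hd P, Subgroup.map_bot]

/-- A bound on the derived length passes to quotients. -/
theorem der_quotient {G : Type u} [Group G] [Finite G] {d : ℕ}
    (hd : ∀ X : Subgroup G, IsPGroup 2 X → der X d = ⊥) (N : Subgroup G) [N.Normal]
    {X : Subgroup (G ⧸ N)} (hX : IsPGroup 2 X) : der X d = ⊥ := by
  haveI := Fact.mk Nat.prime_two
  obtain ⟨P, hP⟩ := hX.exists_le_sylow
  obtain ⟨P₀, rfl⟩ := Sylow.mapSurjective_surjective (QuotientGroup.mk'_surjective N) 2 P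
  rw [← le_bot_iff]
  refine (der_mono hP d).trans ?_
  rw [show ((P₀.mapSurjective (QuotientGroup.mk'_surjective N) : Sylow 2 (G ⧸ N)) : Subgroup (G ⧸ N)) =
    (P₀ : Subgroup G).map (QuotientGroup.mk' N) from rfl, ← map_der, hd _ P₀.isPGroup',
    Subgroup.map_bot]

/-- The module on the Frattini quotient of `O_2(G)`. -/
theorem exists_base_module {G : Type u} [Group G] [Finite G] (hG : Cfsg.IsPSolvable 2 G)
    (hO : Cfsg.pPrimeCore 2 G = ⊥) {d : ℕ} (hd : ∀ X : Subgroup G, IsPGroup 2 X → der X d = ⊥) :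
    ∃ (m : ℕ) (ψ : G ⧸ Cfsg.pCore 2 G →* Module.End 𝕂 (Fin m → 𝕂)), Function.Injective ψ ∧
      ∀ X : Subgroup (G ⧸ Cfsg.pCore 2 G), IsPGroup 2 X → chain ψ X d ⊤ = ⊥ := by
  haveI := Fact.mk Nat.prime_two
  set O := Cfsg.pCore 2 G with hOdef
  have hOp : IsPGroup 2 O := CfsgLib.PLocal.isPGroup_pCore 2 G
  set F := frattini O with hF
  haveI hFn : F.Normal := by rw [hF]; infer_instance
  have hQ'F : commutator O ≤ F := CfsgLib.Solvable.commutator_le_frattini hOp
  letI : CommGroup (O ⧸ F) := { (inferInstance : Group (O ⧸ F)) with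
    mul_comm := fun a c => by
      induction a using QuotientGroup.induction_on with
      | H a =>
        induction c using QuotientGroup.induction_on with
        | H c =>
          show ((a * c : O) : O ⧸ F) = ((c * a : O) : O ⧸ F)
          rw [QuotientGroup.eq,
            show (a * c)⁻¹ * (c * a) = ⁅c⁻¹, a⁻¹⁆ by rw [commutatorElement_def]; group]
          exact hQ'F (Subgroup.commutator_mem_commutator (Subgroup.mem_top _) (Subgroup.mem_top _)) }
  have hmapF : ∀ f : MulAut O, F.map (f : O →* O) = F := fun f =>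
    Subgroup.characteristic_iff_map_eq.1 (inferInstance : (frattini O).Characteristic) f
  let bar : MulAut O →* MulAut (O ⧸ F) :=
    { toFun := fun f => QuotientGroup.congr F F f (hmapF f)
      map_one' := by
        ext u
        induction u using QuotientGroup.induction_on
        simp
      map_mul' := fun f f' => by
        ext u
        induction u using QuotientGroup.induction_on
        simp [MulAut.mul_apply] }
  let c : G →* MulAut (O ⧸ F) := bar.comp MulAut.conjNormal
  have hc : ∀ g (u : O), c g (u : O ⧸ F) = ((MulAut.conjNormal g u : O) : O ⧸ F) := fun g u => rfl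
  have hker : ∀ g, c g = 1 ↔ g ∈ O := by
    intro g
    rw [← Cfsg.Agent.S4218.mem_pCore_iff hG hO g]
    constructor
    · intro h x hx
      have h1 : ((MulAut.conjNormal g ⟨x, hx⟩ : O) : O ⧸ F) = ((⟨x, hx⟩ : O) : O ⧸ F) := by
        rw [← hc, h, MulAut.one_apply]
      rw [eq_comm, QuotientGroup.eq] at h1
      exact ⟨_, hFn.conj_mem _ h1 ⟨x, hx⟩, by
        show x * (x⁻¹ * (g * x * g⁻¹)) * x⁻¹ = _
        rw [mul_inv_cancel_left]⟩
    · intro h
      refine MulEquiv.ext fun u => ?_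
      induction u using QuotientGroup.induction_on with
      | H u =>
        rw [hc, MulAut.one_apply, eq_comm, QuotientGroup.eq]
        obtain ⟨z, hz, hze⟩ := h u u.2
        have h2 := hFn.conj_mem z hz u⁻¹
        convert h2 using 1
        refine Subtype.ext ?_
        show (u : G)⁻¹ * (g * (u : G) * g⁻¹) = (u : G)⁻¹ * (O.subtype z) * (u : G)⁻¹⁻¹
        rw [hze]
        group
  obtain ⟨m, Φ, hΦ, hΦ1, hΦch⟩ := exists_chain_module (O ⧸ F) (fun u => by
    induction u using QuotientGroup.induction_on with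
    | H u =>
      rw [← QuotientGroup.mk_pow, QuotientGroup.eq_one_iff]
      exact CfsgLib.Solvable.pow_mem_frattini hOp u) c
  refine ⟨m, QuotientGroup.lift O Φ (fun g hg => hΦ1 g ((hker g).2 hg)), ?_, fun X hX => ?_⟩
  · intro a b h
    induction a using QuotientGroup.induction_on with
    | H a =>
      induction b using QuotientGroup.induction_on with
      | H b =>
        have h1 : c a = c b := hΦ a b h
        refine QuotientGroup.eq.2 ((hker _).1 ?_)
        rw [map_mul, map_inv, h1, inv_mul_cancel]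
  set Z := X.comap (QuotientGroup.mk' O) with hZdef
  have hZ : IsPGroup 2 Z :=
    hX.comap_of_ker_isPGroup (QuotientGroup.mk' O) (by rw [QuotientGroup.ker_mk']; exact hOp)
  have hlift : (QuotientGroup.lift O Φ (fun g hg => hΦ1 g ((hker g).2 hg))).comp (QuotientGroup.mk' O)
      = Φ := MonoidHom.ext fun g => rfl
  rw [← Subgroup.map_comap_eq_self_of_surjective (QuotientGroup.mk'_surjective O) X, ← hZdef,
    ← chain_comp, hlift]
  have hle : O ≤ Z := fun a ha => Subgroup.mem_comap.2 (by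
    rw [QuotientGroup.mk'_apply, (QuotientGroup.eq_one_iff a).2 ha]
    exact one_mem X)
  refine hΦch Z d fun w x hx => ?_
  obtain ⟨u, rfl⟩ := QuotientGroup.mk_surjective w
  obtain ⟨y, hy, hyO, hxy⟩ := wchain_proj c O (fun u : O => (u : O ⧸ F)) id
    (fun g w u h => by
      refine ⟨⟨⁅g, (u : G)⁆, Subgroup.commutator_le_right ⊤ O
        (Subgroup.commutator_mem_commutator (Subgroup.mem_top g) u.2)⟩, rfl, ?_⟩
      simp only [id_eq] at h ⊢
      rw [h, hc, ← QuotientGroup.mk_inv, ← QuotientGroup.mk_mul]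
      exact congrArg _ (Subtype.ext (by
        rw [Subgroup.coe_mul, Subgroup.coe_inv, MulAut.conjNormal_apply]; exact (commutatorElement_def g _).symm)))
    d Z O _ u u.2 rfl x hx
  have hy1 : y = 1 := by
    have h1 := dlt_le_der hle d hy
    rwa [hd Z hZ, Subgroup.mem_bot] at h1
  subst hy1
  exact hxy

/-- The `2`-length is at most the derived length. -/
theorem pLengthLE_derived : ∀ (d : ℕ) {G : Type u} [Group G] [Finite G],
    Cfsg.IsPSolvable 2 G → (∀ P : Sylow 2 G, derivedSeries (P : Subgroup G) d = ⊥) →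
    Cfsg.PLengthLE 2 d G := by
  haveI := Fact.mk Nat.prime_two
  intro d G _ _ hG hd
  have hd' : ∀ X : Subgroup G, IsPGroup 2 X → der X d = ⊥ := fun X hX => der_eq_bot hd hX
  rcases Nat.eq_zero_or_pos d with rfl | hd0
  · refine isPLengthLE_zero_of_trivial fun x hx => ?_
    exact Subgroup.mem_bot.1 ((hd' _ hx).le (Subgroup.mem_zpowers x))
  obtain ⟨e, rfl⟩ : ∃ e, d = e + 1 := ⟨d - 1, by omega⟩
  set N := Cfsg.pPrimeCore 2 G
  set G₁ := G ⧸ N
  have hG1 : Cfsg.IsPSolvable 2 G₁ := CfsgLib.PLocal.isPSolvable_quotient hG N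
  have hO : Cfsg.pPrimeCore 2 G₁ = ⊥ := CfsgLib.PLocal.pPrimeCore_quotient_pPrimeCore_eq_bot 2 G
  obtain ⟨m, ψ, hψ, hgood⟩ := exists_base_module hG1 hO fun X hX => der_quotient hd' N hX
  have h1 := CfsgLib.PLength.pLengthLE_one_of_isPGroup (p := 2) (CfsgLib.PLocal.isPGroup_pCore 2 G₁)
  have h2 := CfsgLib.PLength.pLengthLE_extension (Cfsg.pCore 2 G₁) h1
    (pLengthLE_of_chain e (CfsgLib.PLocal.isPSolvable_quotient hG1 _)
      (CfsgLib.PLocal.pCore_quotient_pCore_eq_bot 2 G₁) m ψ hψ hgood)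
  have h0 : Cfsg.PLengthLE 2 0 N :=
    CfsgLib.PLength.pLengthLE_zero_iff.2 (CfsgLib.PLocal.coprime_card_pPrimeCore 2 G)
  exact CfsgLib.PLength.pLengthLE_mono (by omega) (CfsgLib.PLength.pLengthLE_extension N h0 h2)

end CfsgLib.FGS74.Dlen
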