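import Cfsg.Agent.FGS74.Dlen.Line

/-!
# Pieces of a Weil datum and its image
-/

set_option autoImplicit false
set_option linter.style.haveILetI false

open Module
open scoped commutatorElement

namespace CfsgLib.FGS74.Dlen

open CfsgLib.FGS74.Bry CfsgLib.FGS74.GrossLen

universe u v w x y

namespace Weil

variable {K : Type u} [Field K] {V : Type v} [AddCommGroup V] [Module K V] {M : Type w}
  [CommGroup M] {T : Type x} [Group T] (d : Weil K V M T)

theorem simple_dual [Fintype M] [CharP K 2] [FiniteDimensional K V] [Nontrivial V] (hs : d.Simple) :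
    d.dual.Simple := by
  intro A hA
  have h1 : Submodule.span K (Set.range d.dual.ρ) = ⊤ := by
    refine Submodule.eq_top_of_finrank_eq (K := K) (V := Module.End K (Dual K V)) ?_
    haveI : Nontrivial (Dual K V) := Module.nontrivial_of_finrank_pos (R := K) (by
      rw [Subspace.dual_finrank_eq]; exact Module.finrank_pos)
    rw [finrank_span_eq_card (linearIndependent (d := d.dual)), ← finrank_sq d.card_ne_zero hs,
      Module.finrank_linearMap, Subspace.dual_finrank_eq]
  have hX : ∀ X : Module.End K (Dual K V), X * A = A * X := by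
    intro X
    have hmem : X ∈ Submodule.span K (Set.range d.dual.ρ) := h1 ▸ Submodule.mem_top
    induction hmem using Submodule.span_induction with
    | mem x hx => obtain ⟨a, rfl⟩ := hx; exact hA a
    | zero => simp
    | add p q _ _ hp hq => rw [add_mul, mul_add, hp, hq]
    | smul r p _ hp => rw [smul_mul_assoc, mul_smul_comm, hp]
  obtain ⟨φ, hφ⟩ := exists_ne (0 : Dual K V)
  obtain ⟨θ, hθ⟩ : ∃ θ : Dual K (Dual K V), θ φ ≠ 0 := by
    by_contra! hh
    exact hφ ((Module.forall_dual_apply_eq_zero_iff K φ).1 hh)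
  refine ⟨(θ φ)⁻¹ * θ (A φ), LinearMap.ext fun χ => ?_⟩
  have := LinearMap.congr_fun (hX (θ.smulRight χ)) φ
  rw [Module.End.mul_apply, Module.End.mul_apply, LinearMap.smulRight_apply,
    LinearMap.smulRight_apply, map_smul] at this
  rw [LinearMap.smul_apply, Module.End.one_apply, mul_smul, this, inv_smul_smul₀ hθ]

/-- A simple datum has the whole space as a minimal subspace. -/
theorem finrank_isMin [Fintype M] [CharP K 2] [IsAlgClosed K] [FiniteDimensional K V]
    {L : Submodule K V} (hL : d.IsMin L) : finrank K L * finrank K L = Fintype.card M := by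
  haveI : Nontrivial L := Submodule.nontrivial_iff_ne_bot.2 hL.1
  let d₀ := d.comap (1 : Unit →* T)
  have h1 : ∀ t : Unit, ∀ v ∈ L, d₀.ψ t v ∈ L := fun _ v hv => by
    show d.ψ 1 v ∈ L
    rwa [map_one, Module.End.one_apply]
  exact finrank_sq d.card_ne_zero (d₀.simple_sub hL h1)

theorem coann_inv {U : Submodule K (Dual K V)} (hU : d.dual.Inv U) : d.Inv U.dualCoannihilator := by
  intro a v hv
  rw [Submodule.mem_dualCoannihilator] at hv ⊢
  intro φ hφ
  obtain ⟨c, hc0, hc⟩ := d.ρ_mul a⁻¹ a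
  rw [inv_mul_cancel, d.ρ_one] at hc
  have hρ : d.ρ a = c⁻¹ • d.ρi a⁻¹ := by
    rw [eq_inv_smul_iff₀ hc0]
    calc c • d.ρ a = d.ρi a⁻¹ * (c • (d.ρ a⁻¹ * d.ρ a)) := by
          rw [mul_smul_comm, ← mul_assoc, d.ρi_mul_ρ, one_mul]
      _ = _ := by rw [← hc, mul_one]
  have h := hv _ (hU a⁻¹ φ hφ)
  rw [dual_ρ] at h
  rw [hρ, LinearMap.smul_apply, map_smul, h, smul_zero]

theorem coann_ψ {U : Submodule K (Dual K V)} (hU : ∀ t, ∀ φ ∈ U, d.dual.ψ t φ ∈ U) (t : T) :
    ∀ v ∈ U.dualCoannihilator, d.ψ t v ∈ U.dualCoannihilator := by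
  intro v hv
  rw [Submodule.mem_dualCoannihilator] at hv ⊢
  intro φ hφ
  have h := hv _ (hU t⁻¹ φ hφ)
  rwa [dual_ψ, inv_inv] at h

/-- The quotient by the annihilator of a minimal subspace of the dual is simple. -/
theorem simple_quot [IsAlgClosed K] [FiniteDimensional K V] {U : Submodule K (Dual K V)}
    (hU : d.dual.IsMin U) (hψ : ∀ t, ∀ v ∈ U.dualCoannihilator, d.ψ t v ∈ U.dualCoannihilator) :
    (d.quot U.dualCoannihilator (d.coann_inv hU.2.1) hψ).Simple ∧
      Nontrivial (V ⧸ U.dualCoannihilator) ∧ finrank K (V ⧸ U.dualCoannihilator) = finrank K U := by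
  have hUN : U.dualCoannihilator.dualAnnihilator = U := Subspace.dualCoannihilator_dualAnnihilator_eq
  have hdim : finrank K (V ⧸ U.dualCoannihilator) = finrank K U := by
    rw [← Subspace.dual_finrank_eq (K := K) (V := V ⧸ U.dualCoannihilator)]
    conv_rhs => rw [← hUN]
    exact (Submodule.dualQuotEquivDualAnnihilator U.dualCoannihilator).finrank_eq
  have hntq : Nontrivial (V ⧸ U.dualCoannihilator) := by
    refine Module.nontrivial_of_finrank_pos (R := K) ?_
    rw [hdim]
    haveI : Nontrivial U := Submodule.nontrivial_iff_ne_bot.2 hU.1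
    exact Module.finrank_pos (R := K) (M := U)
  refine ⟨fun A hA => ?_, hntq, hdim⟩
  obtain ⟨r, hr⟩ := Module.End.exists_eigenvalue A
  obtain ⟨e, he⟩ := hr.exists_hasEigenvector
  refine ⟨r, sub_eq_zero.1 ?_⟩
  set Z := A - r • 1
  have hZc : ∀ a v, Z ((d.quot U.dualCoannihilator (d.coann_inv hU.2.1) hψ).ρ a v) =
      (d.quot U.dualCoannihilator (d.coann_inv hU.2.1) hψ).ρ a (Z v) := fun a v => by
    have h := LinearMap.congr_fun (hA a) v
    simp only [Module.End.mul_apply] at h
    simp only [Z, LinearMap.sub_apply, LinearMap.smul_apply, Module.End.one_apply, map_sub, map_smul, h]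
  set N' := (LinearMap.range Z).comap (U.dualCoannihilator).mkQ
  have hle : N'.dualAnnihilator ≤ U := fun φ hφ => hUN.le
    ((Submodule.mem_dualAnnihilator φ).2 fun v hv => (Submodule.mem_dualAnnihilator φ).1 hφ v (by
      show (U.dualCoannihilator).mkQ v ∈ LinearMap.range Z
      rw [Submodule.mkQ_apply, (Submodule.Quotient.mk_eq_zero U.dualCoannihilator).2 hv]
      exact zero_mem _))
  have hinv : d.dual.Inv N'.dualAnnihilator := by
    intro a φ hφ
    rw [Submodule.mem_dualAnnihilator] at hφ ⊢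
    intro v hv
    rw [dual_ρ]
    refine hφ _ ?_
    obtain ⟨c, hc⟩ := d.ρi_eq a
    obtain ⟨w, hw⟩ := (show (U.dualCoannihilator).mkQ v ∈ LinearMap.range Z from hv)
    show (U.dualCoannihilator).mkQ (d.ρi a v) ∈ LinearMap.range Z
    rw [hc, LinearMap.smul_apply, map_smul]
    refine Submodule.smul_mem _ c ⟨(d.quot U.dualCoannihilator (d.coann_inv hU.2.1) hψ).ρ a⁻¹ w, ?_⟩
    rw [hZc, hw]
    rfl
  by_cases hbot : N'.dualAnnihilator = ⊥
  · have htop : N' = ⊤ := by
      rw [← Subspace.dualAnnihilator_dualCoannihilator_eq (W := N'), hbot, Submodule.dualCoannihilator_bot]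
    have hsurj : LinearMap.range Z = ⊤ := by
      refine eq_top_iff.2 fun q _ => ?_
      induction q using Submodule.Quotient.induction_on with
      | _ v => exact (htop.ge (Submodule.mem_top (x := v)) :)
    have hinj := LinearMap.ker_eq_bot_iff_range_eq_top.2 hsurj
    refine absurd ?_ he.2
    refine (Submodule.eq_bot_iff _).1 hinj e (LinearMap.mem_ker.2 ?_)
    simp [Z, he.apply_eq_smul]
  · have heq := hU.2.2 _ hle hinv hbot
    have : N' = U.dualCoannihilator := by
      rw [← Subspace.dualAnnihilator_dualCoannihilator_eq (W := N'), heq]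
    refine LinearMap.ext fun q => ?_
    induction q using Submodule.Quotient.induction_on with
    | _ v =>
      obtain ⟨u, hu⟩ := Submodule.Quotient.mk_surjective U.dualCoannihilator (Z (Submodule.Quotient.mk v))
      have : u ∈ N' := ⟨_, hu.symm⟩
      rw [‹N' = _›] at this
      rw [LinearMap.zero_apply, ← hu, Submodule.Quotient.mk_eq_zero]
      exact this

/-- Fail passes to quotients. -/
theorem fail_quot {N : Submodule K V} {hρ : d.Inv N} {hψ : ∀ t, ∀ v ∈ N, d.ψ t v ∈ N} {k : ℕ}
    (h : d.Fail k) : (d.quot N hρ hψ).Fail k := by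
  intro φ hφ0 hφ
  have h1 := h (φ.comp N.mkQ) (fun e => hφ0 (Submodule.linearMap_qext N e)) fun t v =>
    hφ t (Submodule.Quotient.mk v)
  refine chain_eq_bot_of_surjective N.mkQ (fun g _ v => rfl) ?_ h1
  intro q hq
  induction q using Submodule.Quotient.induction_on with
  | _ v => exact ⟨v, hq, rfl⟩

theorem chain_quot {N : Submodule K V} {hρ : d.Inv N} {hψ : ∀ t, ∀ v ∈ N, d.ψ t v ∈ N} {k : ℕ}
    (h : chain d.ψ ⊤ k ⊤ = ⊥) : chain (d.quot N hρ hψ).ψ ⊤ k ⊤ = ⊥ := by
  refine chain_eq_bot_of_surjective N.mkQ (fun g _ v => rfl) ?_ h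
  rw [Submodule.map_top, Submodule.range_mkQ]

theorem chain_comp_top {T' : Type y} [Group T'] (f : T' →* T) (k : ℕ) (Y : Submodule K V) :
    chain (d.ψ.comp f) ⊤ k Y = chain d.ψ f.range k Y := by
  rw [chain_comp, ← MonoidHom.range_eq_map]

variable [CharP K 2]

theorem ψ_congr [Nontrivial V] (hT : IsPGroup 2 T) (hs : d.Simple) {s t : T}
    (h : d.σ s = d.σ t) : d.ψ s = d.ψ t := by
  rw [← inv_mul_cancel_right s t, map_mul, d.ψ_eq_one hT hs (t := s * t⁻¹) (by
    rw [map_mul, h, ← map_mul, mul_inv_cancel, map_one]), one_mul]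

/-- The image on `M`. -/
noncomputable def img [Nontrivial V] (hT : IsPGroup 2 T) (hs : d.Simple) :
    Weil K V M d.σ.range where
  B := d.B
  form := d.form
  ρ := d.ρ
  ρ_one := d.ρ_one
  ρ_mul := d.ρ_mul
  ρ_comm := d.ρ_comm
  σ := d.σ.range.subtype
  ψ := MonoidHom.mk ⟨fun y => d.ψ y.2.choose, by
      rw [← map_one d.ψ]
      exact d.ψ_congr hT hs ((1 : d.σ.range).2.choose_spec.trans (map_one d.σ).symm)⟩
    fun y y' => by
      rw [← map_mul]
      refine d.ψ_congr hT hs ((y * y').2.choose_spec.trans ?_)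
      rw [map_mul, y.2.choose_spec, y'.2.choose_spec]
      rfl
  equiv y a := by
    obtain ⟨c, hc0, hc⟩ := d.equiv y.2.choose a
    rw [y.2.choose_spec] at hc
    exact ⟨c, hc0, hc⟩
  iso y := by
    rw [← show d.σ y.2.choose = d.σ.range.subtype y from y.2.choose_spec]
    exact d.iso _

theorem img_ψ [Nontrivial V] (hT : IsPGroup 2 T) (hs : d.Simple) (t : T) :
    (d.img hT hs).ψ (d.σ.rangeRestrict t) = d.ψ t :=
  d.ψ_congr hT hs (d.σ.rangeRestrict t).2.choose_spec

variable [Nontrivial V] (hT : IsPGroup 2 T) (hs : d.Simple)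

theorem img_chain (k : ℕ) (Y : Submodule K V) :
    chain (d.img hT hs).ψ ⊤ k Y = chain d.ψ ⊤ k Y := by
  have e : d.ψ = (d.img hT hs).ψ.comp d.σ.rangeRestrict :=
    MonoidHom.ext fun t => (d.img_ψ hT hs t).symm
  conv_rhs => rw [e]
  rw [chain_comp, ← MonoidHom.range_eq_map, MonoidHom.range_eq_top.2 d.σ.rangeRestrict_surjective]

theorem img_fail {k : ℕ} (h : d.Fail k) : (d.img hT hs).Fail k := by
  intro φ h0 hφ
  rw [img_chain]
  refine h φ h0 fun t v => ?_
  have := hφ (d.σ.rangeRestrict t) v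
  rwa [d.img_ψ] at this

end Weil

end CfsgLib.FGS74.Dlen
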