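import Cfsg.Agent.FGS74.Dlen.Decomp

/-!
# Chains in a simple Weil datum

`prim_bound`: if the chain of length `k` of a two-group vanishes then for `k ≥ 3` the derived
subgroup `k - 1` acts trivially on `M`, and for `k = 2` commutators act as squares.
-/

set_option autoImplicit false
set_option linter.style.haveILetI false

open Module
open scoped commutatorElement

namespace CfsgLib.FGS74.Dlen

open CfsgLib.FGS74.Bry CfsgLib.FGS74.GrossLen

universe u v w x

/-- Elements outside two proper subgroups. -/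
theorem exists_not_mem_two {G : Type x} [Group G] (A B : Subgroup G) (hA : ∃ a, a ∉ A)
    (hB : ∃ b, b ∉ B) : ∃ h, h ∉ A ∧ h ∉ B := by
  obtain ⟨a, ha⟩ := hA
  obtain ⟨b, hb⟩ := hB
  by_cases h1 : a ∈ B
  · by_cases h2 : b ∈ A
    · exact ⟨a * b, fun h => ha ((A.mul_mem_cancel_right h2).1 h),
        fun h => hb ((B.mul_mem_cancel_left h1).1 h)⟩
    · exact ⟨b, h2, hb⟩
  · exact ⟨a, ha, h1⟩

namespace Weil

section

variable {K : Type u} [Field K] [CharP K 2] [IsAlgClosed K] {V : Type v} [AddCommGroup V] [Module K V]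
  [Nontrivial V] [FiniteDimensional K V] {M : Type w} [CommGroup M] [Finite M] {T : Type w} [Group T]
  [Finite T] (d : Weil K V M T)

/-- The exceptional case. -/
def Exc3 (_d : Weil K V M T) (z : T) : Prop :=
  finrank K V = 9 ∧ 128 ≤ Nat.card T ∧
    (∃ x : T, (∀ i < 3, x ^ 2 ^ i ∈ der (⊤ : Subgroup T) i) ∧ x ^ 2 ^ 2 = z) ∧
    ∃ Bad : Subgroup T, (∃ r ∈ ⁅(⊤ : Subgroup T), (⊤ : Subgroup T)⁆, r ∉ Bad) ∧
      ∀ r ∈ ⁅(⊤ : Subgroup T), (⊤ : Subgroup T)⁆, r ∉ Bad → r * r = z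

omit [IsAlgClosed K] [Finite T] in
theorem rank_chain {k : ℕ} (hk : 1 ≤ k) {x z : T} (hx : ∀ i < k, x ^ 2 ^ i ∈ der (⊤ : Subgroup T) i)
    (hxz : x ^ 2 ^ (k - 1) = z) {φ : Dual K V} (hφ0 : φ ≠ 0)
    (h : chain d.ψ ⊤ k (LinearMap.ker φ) = ⊥) :
    (2 ^ k - 1) * rk (d.ψ z - 1) 1 ≤ (2 ^ (k - 1) - 1) * finrank K V + 2 ^ (k - 1) := by
  set N := d.ψ x - 1
  have h1 : rk N (2 ^ k - 1) ≤ 1 := finrank_range_le_one_of_ker hφ0 fun v hv =>
    (Submodule.eq_bot_iff _).1 h _ (pow_mem_chain d.ψ k ⊤ x hx _ v hv)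
  have h2 : 2 ^ k = 2 ^ (k - 1) + 2 ^ (k - 1) := by
    rw [← two_mul, ← pow_succ', Nat.sub_add_cancel hk]
  have h3 : 1 ≤ 2 ^ (k - 1) := Nat.one_le_two_pow
  have h4 := rk_bound N (a := 2 ^ (k - 1)) (L := 2 ^ k - 1) (by omega) h1
  rw [mul_one, show 2 ^ k - 1 - 2 ^ (k - 1) = 2 ^ (k - 1) - 1 by omega,
    show rk N (2 ^ (k - 1)) = rk (d.ψ z - 1) 1 by rw [rk, rk, pow_one, ψ_pow_sub, hxz]] at h4
  exact h4

omit [IsAlgClosed K] [Finite T] in
/-- A chain element rules out the vanishing of the whole chain. -/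
theorem not_exact_of_chain_element (hT : IsPGroup 2 T) (hs : d.Simple) {k : ℕ} (hk : 1 ≤ k) {x z : T}
    (hx : ∀ i < k, x ^ 2 ^ i ∈ der (⊤ : Subgroup T) i) (hxz : x ^ 2 ^ (k - 1) = z)
    (hzinv : ∀ a, d.σ z a = a⁻¹) (hn : 2 ^ k ≤ finrank K V) :
    chain d.ψ ⊤ k ⊤ ≠ ⊥ := by
  haveI := Fintype.ofFinite M
  intro h
  set N := d.ψ x - 1
  have h1 : rk N (2 ^ k - 1) = 0 := rk_eq_zero (LinearMap.ext fun v =>
    (Submodule.eq_bot_iff _).1 h _ (pow_mem_chain d.ψ k ⊤ x hx _ v Submodule.mem_top))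
  have h2 : 2 ^ k = 2 ^ (k - 1) + 2 ^ (k - 1) := by
    rw [← two_mul, ← pow_succ', Nat.sub_add_cancel hk]
  have h3 : 1 ≤ 2 ^ (k - 1) := Nat.one_le_two_pow
  have h4 := rk_bound N (a := 2 ^ (k - 1)) (L := 2 ^ k - 1) (by omega) h1.le
  rw [Nat.mul_zero, add_zero, show 2 ^ k - 1 - 2 ^ (k - 1) = 2 ^ (k - 1) - 1 by omega,
    show rk N (2 ^ (k - 1)) = rk (d.ψ z - 1) 1 by rw [rk, rk, pow_one, ψ_pow_sub, hxz]] at h4
  have hr := d.rank_inverting hs hzinv hT
  obtain ⟨c, hc⟩ : ∃ c, 2 ^ (k - 1) = c + 1 := ⟨2 ^ (k - 1) - 1, by omega⟩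
  rw [h2, hc, ← hr, show c + 1 + (c + 1) - 1 = 2 * c + 1 by omega, Nat.add_sub_cancel] at h4
  rw [h2, hc, ← hr] at hn
  have h5 : (2 * c + 1) * rk (d.ψ z - 1) 1 = 2 * (c * rk (d.ψ z - 1) 1) + rk (d.ψ z - 1) 1 := by ring
  have h6 : c * (2 * rk (d.ψ z - 1) 1 + 1) = 2 * (c * rk (d.ψ z - 1) 1) + c := by ring
  omega

end

section

variable {K : Type u} [Field K] [CharP K 2] [IsAlgClosed K]

set_option maxHeartbeats 2000000 in
/-- Chains of length three on the kernel of a fixed covector, two halves exchanged. -/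
theorem exc_of_swap {V : Type v} [AddCommGroup V] [Module K V] [Nontrivial V] [FiniteDimensional K V]
    {M : Type w} [CommGroup M] [Finite M] {T : Type w} [Group T] [Finite T] (d : Weil K V M T)
    (hT : IsPGroup 2 T) (hs : d.Simple) (hinj : Function.Injective d.σ) {z : T}
    (hz : z ∈ der (⊤ : Subgroup T) 2) (hzinv : ∀ a, d.σ z a = a⁻¹) (hF : d.Fail 3)
    {e g : T} {W W' : Subgroup M} (P : Split d.B d.σ z e W W') (hg : g * e * g⁻¹ = e * z)
    (hg1 : g * e * g⁻¹ ≠ e) : d.Exc3 z := by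
  classical
  haveI := Fintype.ofFinite M
  haveI := Fact.mk Nat.prime_two
  obtain ⟨S, hmem, hsq, hdich, hconj⟩ := P.exists_stab hg
  have hgS : g ∉ S := fun h => hg1 ((hmem g).1 h)
  have hSl : ∀ s : S, ∀ a ∈ W, d.σ s a ∈ W := fun s a ha => P.fix_left ((hmem s).1 s.2) ha
  have hSr : ∀ s : S, ∀ a ∈ W', d.σ s a ∈ W' := fun s a ha => P.fix_right ((hmem s).1 s.2) ha
  have H : d.Halves W W' S g := ⟨⟨P.perp, P.split⟩, hSl, hSr,
    fun a ha => P.move_left hg ha, fun a ha => P.move_right hg ha, hsq, hdich, hconj⟩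
  have hWW : Nat.card W' = Nat.card W := by
    refine Nat.card_congr ⟨fun a => ⟨d.σ g a, P.move_right hg a.2⟩, fun a => ⟨d.σ g⁻¹ a, H.mapL' a.2⟩,
      fun a => Subtype.ext (d.σ_inv_apply g _), fun a => Subtype.ext (d.σ_apply_inv g _)⟩
  set R := ⁅(⊤ : Subgroup T), (⊤ : Subgroup T)⁆ with hR
  obtain ⟨V₁, _, _, _, _, d₁, hs₁, hσ₁, hF₁, hn₁, hc₁⟩ := d.exists_half hT hs H
  have hM : finrank K V = finrank K V₁ * finrank K V₁ := by
    have h1 := finrank_sq d.card_ne_zero hs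
    rw [← Nat.card_eq_fintype_card, ← P.card, hWW, ← hn₁] at h1
    exact Nat.mul_self_inj.1 h1
  have hTR : IsPGroup 2 R := hT.to_subgroup _
  -- the factor
  let p : S →* MulAut W := restrictAut (d.σ.comp S.subtype) W hSl
  have hp : ∀ (s : S) (a : W), (p s a : M) = d.σ s a := fun _ _ => rfl
  have hp₂ : ∀ (s : S), p₂ p hconj s = 1 → ∀ b ∈ W', d.σ s b = b := fun s h b hb => by
    have h1 := congrArg (fun q : MulAut W => (q ⟨d.σ g⁻¹ b, H.mapR' hb⟩ : M)) h
    change d.σ (g⁻¹ * s * g) (d.σ g⁻¹ b) = d.σ g⁻¹ b at h1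
    rw [← MulAut.mul_apply, ← map_mul, mul_inv_cancel_right, map_mul, MulAut.mul_apply] at h1
    exact (d.σ g⁻¹).injective h1
  have hinjS : ∀ s : S, p s = 1 → p₂ p hconj s = 1 → s = 1 := fun s h1 h2 => by
    refine Subtype.ext (hinj (MulEquiv.ext fun m => ?_))
    obtain ⟨a, ha, b, hb, rfl⟩ := P.split m
    rw [map_mul, hp₂ s h2 b hb, show d.σ s a = a from
      congrArg (fun q : MulAut W => (q ⟨a, ha⟩ : M)) h1, Subgroup.coe_one, map_one, MulAut.one_apply]
  haveI : Finite (MulAut W) :=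
    Finite.of_injective (fun q : MulAut W => (q : W → W)) DFunLike.coe_injective
  have hRS : ∀ r : R, (r : T) ∈ S := fun r => H.commutator_le r.2
  have hσp : ∀ r : R, d₁.σ r = p ⟨r, hRS r⟩ := fun r => MulEquiv.ext fun a => Subtype.ext (hσ₁ r a)
  -- the piece
  set di := d₁.img hTR hs₁
  have hTi : IsPGroup 2 d₁.σ.range := hTR.of_surjective _ d₁.σ.rangeRestrict_surjective
  have hzS : z ∈ S := H.commutator_le (der_antitone _ (show 1 ≤ 2 by omega) hz)
  obtain ⟨zR, hzR, hzR'⟩ : ∃ zR ∈ der (⊤ : Subgroup R) 1, (zR : T) = z := by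
    have h1 : (der (⊤ : Subgroup R) 1).map R.subtype = der R 1 := by
      rw [map_der, ← MonoidHom.range_eq_map, Subgroup.range_subtype]
    obtain ⟨q, hq, hq'⟩ := h1.ge hz
    exact ⟨q, hq, hq'⟩
  set z₁ := d₁.σ.rangeRestrict zR
  have hz₁inv : ∀ a, di.σ z₁ a = a⁻¹ := fun a => Subtype.ext (by
    show (d₁.σ zR a : M) = (a : M)⁻¹
    rw [hσ₁, hzR', hzinv])
  have hz₁ne : z₁ ≠ 1 := fun h => by
    haveI : Nontrivial W := Finite.one_lt_card_iff_nontrivial.1 P.neW
    obtain ⟨a, ha⟩ := exists_ne (1 : W)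
    refine ha (Subtype.ext (d.form.eq_one_of_sq ?_))
    have h2 := hz₁inv a
    rw [h, map_one, MulAut.one_apply] at h2
    have h3 : (a : M) = (a : M)⁻¹ := congrArg Subtype.val h2
    nth_rw 2 [h3]
    exact mul_inv_cancel _
  have hz₁der : z₁ ∈ ⁅(⊤ : Subgroup d₁.σ.range), (⊤ : Subgroup d₁.σ.range)⁆ := by
    have h : (der (⊤ : Subgroup R) 1).map d₁.σ.rangeRestrict ≤ der ⊤ 1 := by
      rw [map_der]; exact der_mono le_top 1
    exact h ⟨zR, hzR, rfl⟩
  have hz₁c : ∀ t, t * z₁ = z₁ * t := fun t => Subtype.ext (MulEquiv.ext fun a => by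
    show (di.σ t) (di.σ z₁ a) = di.σ z₁ (di.σ t a)
    rw [hz₁inv, hz₁inv, map_inv])
  have hFi : di.Fail 2 := d₁.img_fail hTR hs₁ (hF₁ 2 hF)
  obtain ⟨h3, h7, hodd, h4⟩ := di.fail_two hTi (show di.Simple from hs₁) Subtype.val_injective hFi
    hz₁der hz₁c hz₁inv hz₁ne
  have hn₁3 : finrank K V₁ = 3 ∨ finrank K V₁ = 5 ∨ finrank K V₁ = 7 := by
    obtain ⟨i, hi⟩ := hodd; omega
  have hq : (finrank K V₁).Prime := by rcases hn₁3 with h | h | h <;> rw [h] <;> norm_num
  -- the bounds on the factor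
  have hPG : IsPGroup 2 p.range :=
    (hT.to_subgroup S).of_surjective p.rangeRestrict p.rangeRestrict_surjective
  obtain ⟨B', hB', hB'e⟩ := form_restrict d.form W P.ndW
  have hPi : p.range ≤ isom B' := by
    rintro _ ⟨s, rfl⟩
    intro a b
    rw [hB'e, hB'e, hp, hp, d.iso]
  have hfree : ∀ π ∈ p.range, π ≠ 1 → ∀ a : W, π a = a → a = 1 := fun π hπ hne a ha => by
    obtain ⟨s, hs'⟩ := hPG ⟨π, hπ⟩
    exact free_of_prime_sq hB' hq hn₁.symm (hPi hπ) (congrArg Subtype.val hs' :) hne ha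
  have hdvd := card_le_of_prime_sq hB' hq hn₁.symm hPG hPi
  obtain ⟨j, hj⟩ := IsPGroup.iff_card.1 hPG
  rw [hj] at hdvd
  have hR₁le : d₁.σ.range ≤ p.range := by
    rintro _ ⟨r, rfl⟩
    exact ⟨⟨r, hRS r⟩, (hσp r).symm⟩
  have hR₁8 : 8 ≤ Nat.card d₁.σ.range := by
    by_contra! h
    refine hz₁ne (Subgroup.mem_bot.1 ((Subgroup.commutator_le.2 fun a _ b _ => Subgroup.mem_bot.2
      (commutatorElement_eq_one_iff_mul_comm.2 (mul_comm_of_card_lt_eight hTi h a b))) hz₁der))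
  have hinvol : ∀ π ∈ p.range, π * π = 1 → π ≠ 1 → ∀ a : W, π a = a⁻¹ := fun π hπ h1 hne =>
    inv_of_free_involution h1 fun a => hfree π hπ hne a
  have hsqz : ∀ t : d₁.σ.range, t * t ≠ 1 → t * t = z₁ := fun t ht => Subtype.ext (MulEquiv.ext fun a => by
    rw [show ((z₁ : d₁.σ.range) : MulAut W) a = a⁻¹ from hz₁inv a]
    refine hinvol _ (mul_mem (hR₁le t.2) (hR₁le t.2)) ?_ (fun h => ht (Subtype.ext h)) a
    exact congrArg Subtype.val (show t * t * (t * t) = 1 by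
      rw [← pow_two, ← pow_two, ← pow_mul]; exact h4 t))
  obtain ⟨v, hv⟩ : ∃ v : d₁.σ.range, v * v ≠ 1 := by
    by_contra! hall
    refine hz₁ne (Subgroup.mem_bot.1 ((Subgroup.commutator_le.2 fun a _ b _ => Subgroup.mem_bot.2 ?_)
      hz₁der))
    have hi : ∀ c : d₁.σ.range, c⁻¹ = c := fun c => inv_eq_of_mul_eq_one_right (hall c)
    rw [commutatorElement_eq_one_iff_mul_comm]
    have h := hi (a * b)
    rw [mul_inv_rev, hi, hi] at h
    exact h.symm
  obtain ⟨φ, hφ0, hφ⟩ := d.exists_fixed_covector hT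
  have hrz := d.rank_inverting hs hzinv hT
  set r := rk (d.ψ z - 1) 1
  have hzσ : (⟨z, hzS⟩ : S) = ⟨(zR : T), hRS zR⟩ := Subtype.ext hzR'.symm
  have hpz : p ⟨z, hzS⟩ = ((z₁ : d₁.σ.range) : MulAut W) := by rw [hzσ, ← hσp]; rfl
  have hpz2 : p₂ p hconj ⟨z, hzS⟩ = p ⟨z, hzS⟩ := by
    show p ⟨g⁻¹ * z * g, _⟩ = _
    congr 1
    exact Subtype.ext (by show g⁻¹ * z * g = z; rw [mul_assoc, ← P.zc g, inv_mul_cancel_left])
  by_cases hfull : Nat.card p.range ≤ Nat.card d₁.σ.range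
  · have hEq : d₁.σ.range = p.range := Subgroup.eq_of_le_of_card_ge hR₁le hfull
    have hproj : ∀ a ∈ p.range, ∃ r ∈ (⁅(⊤ : Subgroup T), (⊤ : Subgroup T)⁆ : Subgroup T),
        ∃ hr : r ∈ S, p ⟨r, hr⟩ = a := by
      rw [← hEq]
      rintro _ ⟨r, rfl⟩
      exact ⟨r, r.2, hRS r, (hσp r).symm⟩
    let v' : p.range := ⟨v, hR₁le v.2⟩
    have hvz : v' ^ 2 ^ (2 - 1) = ⟨(z₁ : MulAut W), hR₁le z₁.2⟩ := by
      refine Subtype.ext ?_
      show ((v' ^ 2 ^ (2 - 1) : p.range) : MulAut W) = (z₁ : MulAut W)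
      rw [SubmonoidClass.coe_pow, show 2 ^ (2 - 1) = 2 from rfl, pow_two]
      exact congrArg Subtype.val (hsqz v hv)
    have hv' : ∀ i < 2, v' ^ 2 ^ i ∈ der (⊤ : Subgroup p.range) i := by
      intro i hi
      interval_cases i
      · trivial
      · rw [show (2 : ℕ) ^ 1 = 2 ^ (2 - 1) from rfl, hvz]
        let incl : d₁.σ.range →* p.range := Subgroup.inclusion hR₁le
        have h : (⁅(⊤ : Subgroup d₁.σ.range), (⊤ : Subgroup d₁.σ.range)⁆).map incl ≤ der ⊤ 1 := by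
          rw [Subgroup.map_commutator]; exact Subgroup.commutator_mono le_top le_top
        exact h ⟨z₁, hz₁der, rfl⟩
    obtain ⟨x, hx, hxz⟩ := exists_chain_element p hconj hinjS hproj hPG hsq hdich le_rfl hv' hzS P.zc
      (by rw [hvz]; exact hpz)
    have hb := d.rank_chain (k := 3) (by norm_num) hx hxz hφ0 (hF φ hφ0 hφ)
    rw [hM] at hb hrz
    norm_num at hb
    have hn9 : finrank K V₁ = 3 := by
      rcases hn₁3 with h | h | h <;> rw [h] at hb hrz <;> omega
    have h8 : Nat.card p.range = 8 := by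
      refine le_antisymm ?_ (hR₁8.trans (Subgroup.card_le_of_le hR₁le))
      rw [hn9] at hdvd
      rw [hj]
      exact le_of_pow_two_dvd (j := 3) (by norm_num) hdvd
    refine ⟨by rw [hM, hn9], ?_, ⟨x, hx, hxz⟩, ?_⟩
    · have h1 := card_full p hconj hproj hPG hsq hdich
      have h2 := two_mul_le_card S hgS
      rw [h8] at h1
      omega
    · let z' : p.range := ⟨(z₁ : MulAut W), hR₁le z₁.2⟩
      have hz'c : ∀ c : p.range, c * z' = z' * c := fun c => Subtype.ext (MulEquiv.ext fun a => by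
        show (c : MulAut W) ((z₁ : MulAut W) a) = (z₁ : MulAut W) ((c : MulAut W) a)
        rw [show (z₁ : MulAut W) a = a⁻¹ from hz₁inv a, map_inv,
          show (z₁ : MulAut W) ((c : MulAut W) a) = ((c : MulAut W) a)⁻¹ from hz₁inv _])
      have hsqp : ∀ c : p.range, c * c = 1 ∨ c * c = z' := fun c => by
        by_cases h : c * c = 1
        · exact Or.inl h
        refine Or.inr (Subtype.ext ?_)
        have hc' : (c : MulAut W) ∈ d₁.σ.range := hEq.ge c.2
        exact congrArg (fun t : d₁.σ.range => (t : MulAut W))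
          (hsqz ⟨c, hc'⟩ fun e => h (Subtype.ext (congrArg Subtype.val e :)))
      let Z : Subgroup p.range := Subgroup.zpowers z'
      haveI : Z.Normal := ⟨fun c hc a => by
        obtain ⟨i, rfl⟩ := Subgroup.mem_zpowers_iff.1 hc
        rw [((show Commute a z' from hz'c a).zpow_right i).eq, mul_inv_cancel_right]
        exact hc⟩
      have hC : ∀ c : p.range ⧸ Z, c * c = 1 := fun c => by
        induction c using QuotientGroup.induction_on with
        | _ c =>
          rw [← QuotientGroup.mk_mul, QuotientGroup.eq_one_iff]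
          rcases hsqp c with h | h <;> rw [h]
          · exact one_mem _
          · exact Subgroup.mem_zpowers _
      letI : CommGroup (p.range ⧸ Z) :=
        { (inferInstance : Group (p.range ⧸ Z)) with
          mul_comm := fun a b => by
            have hi : ∀ c : p.range ⧸ Z, c⁻¹ = c := fun c => inv_eq_of_mul_eq_one_right (hC c)
            have h := hi (a * b)
            rw [mul_inv_rev, hi, hi] at h
            exact h.symm }
      refine ⟨(Z.comap p.rangeRestrict).map S.subtype, ?_, fun q hq hbad => ?_⟩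
      · by_contra! hall
        refine hv (Subtype.ext ?_)
        obtain ⟨⟨_, r, rfl⟩, rfl⟩ : ∃ v'' : d₁.σ.range, v'' = v := ⟨v, rfl⟩
        obtain ⟨s, hs', hse⟩ := hall r r.2
        obtain rfl : s = ⟨r, hRS r⟩ := Subtype.ext hse
        obtain ⟨i, hi⟩ := Subgroup.mem_zpowers_iff.1 (show p.rangeRestrict ⟨r, hRS r⟩ ∈ Z from hs')
        show d₁.σ r * d₁.σ r = 1
        rw [hσp]
        have h2 : z' * z' = 1 := Subtype.ext (MulEquiv.ext fun a => by
          show (z₁ : MulAut W) ((z₁ : MulAut W) a) = a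
          rw [show (z₁ : MulAut W) a = a⁻¹ from hz₁inv a, map_inv,
            show (z₁ : MulAut W) a = a⁻¹ from hz₁inv a, inv_inv])
        have h3 : p.rangeRestrict ⟨r, hRS r⟩ * p.rangeRestrict ⟨r, hRS r⟩ = 1 := by
          rw [← hi, ← (Commute.refl z').mul_zpow, h2, one_zpow]
        exact congrArg Subtype.val h3
      · have hqS : q ∈ S := H.commutator_le hq
        have h1 : p.rangeRestrict ⟨q, hqS⟩ ∉ Z := fun h => hbad ⟨⟨q, hqS⟩, h, rfl⟩
        have h2 : p₂ p.rangeRestrict hconj ⟨q, hqS⟩ ∉ Z := fun h => h1 ((QuotientGroup.eq_one_iff _).1 (by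
          rw [← QuotientGroup.mk'_apply, commutator_diag p.rangeRestrict hconj hsq hdich hC
            (QuotientGroup.mk' Z) hqS hq]
          exact (QuotientGroup.eq_one_iff _).2 h))
        have hsq' : ∀ c : p.range, c ∉ Z → c * c = z' := fun c hc => (hsqp c).resolve_left fun h => by
          refine hc ?_
          by_cases hc1 : c = 1
          · rw [hc1]; exact one_mem _
          have : c = z' := Subtype.ext (MulEquiv.ext fun a => by
            rw [show ((z' : p.range) : MulAut W) a = a⁻¹ from hz₁inv a]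
            exact hinvol c c.2 (congrArg Subtype.val h) (fun e => hc1 (Subtype.ext e)) a)
          rw [this]; exact Subgroup.mem_zpowers _
        have h5 : (⟨q, hqS⟩ : S) * ⟨q, hqS⟩ = ⟨z, hzS⟩ := mul_inv_eq_one.1 (hinjS _
          (by rw [map_mul, map_inv, map_mul, hpz, mul_inv_eq_one]
              exact congrArg Subtype.val (hsq' _ h1))
          (by rw [map_mul, map_inv, map_mul, hpz2, hpz, mul_inv_eq_one]
              exact congrArg Subtype.val (hsq' _ h2)))
        exact congrArg Subtype.val h5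
  exfalso
  push Not at hfull
  have h16 : finrank K V₁ = 7 ∧ Nat.card p.range ≤ 16 := by
    rcases hn₁3 with h | h | h <;> rw [h] at hdvd
    · have := le_of_pow_two_dvd (j := 3) (by norm_num) hdvd
      omega
    · have := le_of_pow_two_dvd (j := 3) (by norm_num) hdvd
      omega
    · have := le_of_pow_two_dvd (j := 4) (by norm_num) hdvd
      exact ⟨h, by omega⟩
  obtain ⟨hn7, hP16⟩ := h16
  rw [hM, hn7] at hrz
  have hfix1 : finrank K d₁.fixCov ≤ 1 := by
    refine d₁.finrank_fixCov_le_one (hF₁ 2 hF) fun hex => ?_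
    rw [← d₁.img_chain hTR hs₁] at hex
    have h := di.not_exact_of_chain_element hTi (show di.Simple from hs₁) (k := 2) (by norm_num)
      (x := v) (fun i hi => by
        interval_cases i
        · trivial
        · rw [pow_one, pow_two, hsqz v hv]; exact hz₁der)
      (by rw [show 2 ^ (2 - 1) = 2 from rfl, pow_two, hsqz v hv]) hz₁inv (by omega)
    exact h hex
  obtain ⟨hcle, hcle'⟩ := hc₁ hfix1
  rw [hWW, ← hn₁, hn7] at hcle
  rw [hn7] at hcle'
  -- a commutator of order four in both halves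
  have hR₂ : ∀ t : R, g⁻¹ * (t : T) * g ∈ R := fun t => by
    have := (Subgroup.commutator_normal (⊤ : Subgroup T) ⊤).conj_mem (t : T) t.2 g⁻¹
    rwa [inv_inv] at this
  let c₁ : R →* d₁.σ.range := d₁.σ.rangeRestrict
  let c₂ : R →* d₁.σ.range := c₁.comp (MonoidHom.mk' (fun t : R => (⟨g⁻¹ * t * g, hR₂ t⟩ : R)) fun a b =>
    Subtype.ext (by show g⁻¹ * ((a : T) * b) * g = g⁻¹ * a * g * (g⁻¹ * b * g); group))
  let Zi : Subgroup d₁.σ.range := Subgroup.zpowers z₁
  have hout : ∀ t : d₁.σ.range, t * t = 1 → t ∈ Zi := fun t ht => by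
    by_cases h1 : t = 1
    · rw [h1]; exact one_mem _
    have : t = z₁ := Subtype.ext (MulEquiv.ext fun a => by
      rw [show ((z₁ : d₁.σ.range) : MulAut W) a = a⁻¹ from hz₁inv a]
      exact hinvol _ (hR₁le t.2) (congrArg Subtype.val ht :) (fun e => h1 (Subtype.ext e)) a)
    rw [this]; exact Subgroup.mem_zpowers _
  have hvZ : v ∉ Zi := fun h => hv (by
    obtain ⟨i, hi⟩ := Subgroup.mem_zpowers_iff.1 h
    have hz2 : z₁ * z₁ = 1 := Subtype.ext (MulEquiv.ext fun a => by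
      show (z₁ : MulAut W) ((z₁ : MulAut W) a) = a
      rw [show (z₁ : MulAut W) a = a⁻¹ from hz₁inv a, map_inv,
        show (z₁ : MulAut W) a = a⁻¹ from hz₁inv a, inv_inv])
    rw [← hi, ← (Commute.refl z₁).mul_zpow, hz2, one_zpow])
  obtain ⟨rv, hrv⟩ := d₁.σ.rangeRestrict_surjective v
  obtain ⟨q, hq1, hq2⟩ := exists_not_mem_two (Zi.comap c₁) (Zi.comap c₂) ⟨rv, by
      show c₁ rv ∉ Zi; rw [show c₁ rv = v from hrv]; exact hvZ⟩
    ⟨⟨g * rv * g⁻¹, (Subgroup.commutator_normal (⊤ : Subgroup T) ⊤).conj_mem (rv : T) rv.2 g⟩, by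
      show c₁ ⟨g⁻¹ * (g * rv * g⁻¹) * g, _⟩ ∉ Zi
      rw [show (⟨g⁻¹ * (g * (rv : T) * g⁻¹) * g, _⟩ : R) = rv from Subtype.ext (by
        show g⁻¹ * (g * (rv : T) * g⁻¹) * g = rv; group), show c₁ rv = v from hrv]
      exact hvZ⟩
  have hqq : (q : T) * q = z := by
    have e1 : c₁ q * c₁ q = z₁ := hsqz _ fun h => hq1 (hout _ h)
    have e2 : c₂ q * c₂ q = z₁ := hsqz _ fun h => hq2 (hout _ h)
    have h5 : (⟨q, hRS q⟩ : S) * ⟨q, hRS q⟩ = ⟨z, hzS⟩ := mul_inv_eq_one.1 (hinjS _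
      (by rw [map_mul, map_inv, map_mul, hpz, mul_inv_eq_one, ← hσp]
          exact congrArg Subtype.val e1)
      (by rw [map_mul, map_inv, map_mul, hpz2, hpz, mul_inv_eq_one]
          show p ⟨g⁻¹ * q * g, _⟩ * p ⟨g⁻¹ * q * g, _⟩ = _
          rw [← hσp ⟨g⁻¹ * q * g, hR₂ q⟩]
          exact congrArg Subtype.val e2))
    exact congrArg Subtype.val h5
  obtain ⟨s, hs1, hs2⟩ := exists_generators R
  have htool := d.rank_tool hF hφ0 hφ (h := (q : T)) q.2 (by rw [hqq]; exact hz) s hs1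
  rw [hqq, hM, hn7] at htool
  have hR8 : 8 ≤ Nat.card R :=
    hR₁8.trans (Nat.card_le_card_of_surjective _ d₁.σ.rangeRestrict_surjective)
  have hT2 := card_le_two_mul S g hdich
  by_cases hker : ∃ s : S, p s = 1 ∧ s ≠ 1
  · obtain ⟨s₀, hs₀, hs₀1⟩ := hker
    obtain ⟨u, hu, huu, hu1⟩ : ∃ u : S, p u = 1 ∧ u * u = 1 ∧ u ≠ 1 := by
      obtain ⟨m, hm⟩ := (hT.to_subgroup S) s₀
      have hex : ∃ i, s₀ ^ 2 ^ i = 1 := ⟨m, hm⟩
      obtain ⟨i, hi⟩ : ∃ i, Nat.find hex = i + 1 := Nat.exists_eq_succ_of_ne_zero fun h => hs₀1 (by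
        simpa [h] using Nat.find_spec hex)
      refine ⟨s₀ ^ 2 ^ i, by rw [map_pow, hs₀, one_pow], ?_, Nat.find_min hex (by omega)⟩
      rw [← pow_add, ← two_mul, ← pow_succ', ← hi]
      exact Nat.find_spec hex
    have hu2 : p₂ p hconj u ≠ 1 := fun h => hu1 (hinjS u hu h)
    have hc4 : finrank K d.fixCov ≤ 4 := by
      have := hcle' u (fun a ha => congrArg (fun q : MulAut W => (q ⟨a, ha⟩ : M)) hu) fun b hb => by
        have h1 := hinvol _ (p₂_mem p hconj u) (by rw [← map_mul, huu, map_one]) hu2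
          ⟨d.σ g⁻¹ b, H.mapR' hb⟩
        have h2 := congrArg Subtype.val h1
        change d.σ (g⁻¹ * u * g) (d.σ g⁻¹ b) = (d.σ g⁻¹ b)⁻¹ at h2
        rw [← MulAut.mul_apply, ← map_mul, mul_inv_cancel_right, map_mul, MulAut.mul_apply,
          ← map_inv] at h2
        exact (d.σ g⁻¹).injective h2
      omega
    have hS256 : Nat.card S ≤ 16 * 16 := by
      refine le_trans (Nat.card_le_card_of_injective (fun s => (p.rangeRestrict s,
        (⟨p₂ p hconj s, p₂_mem p hconj s⟩ : p.range))) fun s t h => mul_inv_eq_one.1 ?_) ?_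
      · have h1 := congrArg (fun q : p.range × p.range => (q.1 : MulAut W)) h
        have h2 := congrArg (fun q : p.range × p.range => (q.2 : MulAut W)) h
        exact hinjS _ (by rw [map_mul, map_inv, mul_inv_eq_one]; exact h1)
          (by rw [map_mul, map_inv, mul_inv_eq_one]; exact h2)
      · rw [Nat.card_prod]; exact Nat.mul_le_mul hP16 hP16
    have hG : s.card ≤ 6 := by
      by_contra hlt
      have h2 : 2 ^ 7 ≤ 2 ^ s.card := Nat.pow_le_pow_right two_pos (by omega)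
      have := Nat.mul_le_mul h2 hR8
      omega
    omega
  · push Not at hker
    have hS16 : Nat.card S ≤ 16 := (Nat.card_le_card_of_injective p.rangeRestrict fun s t h =>
      mul_inv_eq_one.1 (hker _ (by
        rw [map_mul, map_inv, mul_inv_eq_one]; exact congrArg Subtype.val h))).trans hP16
    have hG : s.card ≤ 2 := by
      by_contra hlt
      have h2 : 2 ^ 3 ≤ 2 ^ s.card := Nat.pow_le_pow_right two_pos (by omega)
      have := Nat.mul_le_mul h2 hR8
      omega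
    have hc7 : finrank K d.fixCov ≤ 7 := Nat.mul_self_le_mul_self_iff.1 hcle
    omega

set_option maxHeartbeats 2000000 in
/-- Invariant halves. -/
theorem exc_of_central {V : Type v} [AddCommGroup V] [Module K V] [Nontrivial V]
    [FiniteDimensional K V] {M : Type w} [CommGroup M] [Finite M] {T : Type w} [Group T] [Finite T]
    (d : Weil K V M T) (hT : IsPGroup 2 T) (hs : d.Simple) (hinj : Function.Injective d.σ) {z : T}
    (hz : z ∈ der (⊤ : Subgroup T) 2) (hzinv : ∀ a, d.σ z a = a⁻¹) (hF : d.Fail 3)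
    {e : T} {W W' : Subgroup M} (P : Split d.B d.σ z e W W') (he : ∀ t, t * e * t⁻¹ = e)
    (ih : ∀ (X : Subgroup M), Nat.card X < Nat.card M → ∀ (V' : Type v) [AddCommGroup V'] [Module K V']
      [Nontrivial V'] [FiniteDimensional K V'] (T' : Type w) [Group T'] [Finite T']
      (d' : Weil K V' X T'), IsPGroup 2 T' → d'.Simple → Function.Injective d'.σ → ∀ z' : T',
      z' ∈ der (⊤ : Subgroup T') 2 → z' ≠ 1 → (∀ a, d'.σ z' a = a⁻¹) → d'.Fail 3 → d'.Exc3 z') :
      False := by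
  classical
  haveI := Fintype.ofFinite M
  have hWl : ∀ t, ∀ a ∈ W, d.σ t a ∈ W := fun t a ha => P.fix_left (he t) ha
  have hWr : ∀ t, ∀ a ∈ W', d.σ t a ∈ W' := fun t a ha => P.fix_right (he t) ha
  have hcl : Nat.card W < Nat.card M := by
    rw [← P.card]; exact lt_mul_of_one_lt_right Nat.card_pos P.neW'
  have hcr : Nat.card W' < Nat.card M := by
    rw [← P.card]; exact lt_mul_of_one_lt_left Nat.card_pos P.neW
  have horth : d.Orth W W' := ⟨P.perp, P.split⟩
  -- one side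
  have side : ∀ (X X' : Subgroup M), d.Orth X X' → ∀ (hX : ∀ t, ∀ a ∈ X, d.σ t a ∈ X),
      Nat.card X < Nat.card M → 1 < Nat.card X →
      Nat.card X = 81 ∧ Nat.card (restrictAut d.σ X hX).range ≤ 128 ∧
        (∃ Bad : Subgroup T, (∃ r ∈ ⁅(⊤ : Subgroup T), (⊤ : Subgroup T)⁆, r ∉ Bad) ∧
          ∀ r ∈ ⁅(⊤ : Subgroup T), (⊤ : Subgroup T)⁆, r ∉ Bad → ∀ a ∈ X, d.σ (r * r) a = a⁻¹) ∧
        chain d.ψ ⊤ 3 ⊤ ≠ ⊥ := by
    intro X X' hXX hX hlt h1X
    obtain ⟨V₁, _, _, _, _, d₁, hs₁, hσ₁, hF₁, hex₁, hn₁⟩ := d.exists_piece hT hXX hX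
    set di := d₁.img hT hs₁
    have hTi : IsPGroup 2 d₁.σ.range := hT.of_surjective _ d₁.σ.rangeRestrict_surjective
    haveI : Finite (MulAut X) :=
      Finite.of_injective (fun q : MulAut X => (q : X → X)) DFunLike.coe_injective
    set z₁ := d₁.σ.rangeRestrict z
    have hz₁ : z₁ ∈ der (⊤ : Subgroup d₁.σ.range) 2 := by
      have h : (der (⊤ : Subgroup T) 2).map d₁.σ.rangeRestrict ≤ der ⊤ 2 := by
        rw [map_der]; exact der_mono le_top 2
      exact h ⟨z, hz, rfl⟩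
    have hz₁inv : ∀ a, di.σ z₁ a = a⁻¹ := fun a => Subtype.ext (by
      show (d₁.σ z a : M) = (a : M)⁻¹
      rw [hσ₁, hzinv])
    have hz₁ne : z₁ ≠ 1 := fun h => by
      haveI : Nontrivial X := Finite.one_lt_card_iff_nontrivial.1 h1X
      obtain ⟨a, ha⟩ := exists_ne (1 : X)
      refine ha (Subtype.ext (d.form.eq_one_of_sq ?_))
      have h2 := hz₁inv a
      rw [h, map_one, MulAut.one_apply] at h2
      have h3 : (a : M) = (a : M)⁻¹ := congrArg Subtype.val h2
      nth_rw 2 [h3]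
      exact mul_inv_cancel _
    obtain ⟨h9, -, ⟨x, hx, hxz⟩, Bad, ⟨r₀, hr₀, hr₀B⟩, hBad⟩ := ih X hlt V₁ d₁.σ.range di hTi hs₁
      Subtype.val_injective z₁ hz₁ hz₁ne hz₁inv (d₁.img_fail hT hs₁ (hF₁ 3 hF))
    have h81 : Nat.card X = 81 := by rw [← hn₁, h9]
    have hrange : (restrictAut d.σ X hX).range = d₁.σ.range := by
      rw [show restrictAut d.σ X hX = d₁.σ from MonoidHom.ext fun t => MulEquiv.ext fun a =>
        Subtype.ext (hσ₁ t a).symm]
    refine ⟨h81, ?_, ⟨Bad.comap d₁.σ.rangeRestrict, ?_, fun r hr hrB a ha => ?_⟩, fun hex => ?_⟩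
    · rw [hrange]
      exact card_le_128 di.form d₁.σ.range.subtype (fun t => di.iso t) Subtype.val_injective hTi
        (h81) hz₁ hz₁inv hz₁ne
    · have h : (⁅(⊤ : Subgroup T), (⊤ : Subgroup T)⁆).map d₁.σ.rangeRestrict =
          ⁅(⊤ : Subgroup d₁.σ.range), (⊤ : Subgroup d₁.σ.range)⁆ := by
        rw [Subgroup.map_commutator, ← MonoidHom.range_eq_map,
          MonoidHom.range_eq_top.2 d₁.σ.rangeRestrict_surjective]
      obtain ⟨r, hr, rfl⟩ := h.ge hr₀
      exact ⟨r, hr, hr₀B⟩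
    · have hmem : d₁.σ.rangeRestrict r ∈ ⁅(⊤ : Subgroup d₁.σ.range), (⊤ : Subgroup d₁.σ.range)⁆ := by
        have h : (⁅(⊤ : Subgroup T), (⊤ : Subgroup T)⁆).map d₁.σ.rangeRestrict ≤
            ⁅(⊤ : Subgroup d₁.σ.range), (⊤ : Subgroup d₁.σ.range)⁆ := by
          rw [Subgroup.map_commutator]; exact Subgroup.commutator_mono le_top le_top
        exact h ⟨r, hr, rfl⟩
      have h2 := hBad _ hmem hrB
      rw [← map_mul] at h2
      have h3 := congrArg (fun q : d₁.σ.range => ((q : MulAut X) ⟨a, ha⟩ : M)) h2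
      change (d₁.σ (r * r) ⟨a, ha⟩ : M) = (d₁.σ z ⟨a, ha⟩ : M) at h3
      rwa [hσ₁, hσ₁, hzinv] at h3
    · have h := hex₁ 3 hex
      rw [← d₁.img_chain hT hs₁] at h
      exact di.not_exact_of_chain_element hTi (show di.Simple from hs₁) (by norm_num) hx hxz hz₁inv
        (by rw [h9]; norm_num) h
  obtain ⟨hA, hAP, ⟨BA, ⟨ra, hra, hra'⟩, hBA⟩, hnex⟩ := side W W' horth hWl hcl P.neW
  obtain ⟨hB, hBP, ⟨BB, ⟨rb, hrb, hrb'⟩, hBB⟩, -⟩ := side W' W horth.symm hWr hcr P.neW'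
  have hn : finrank K V = 81 := by
    have h1 := finrank_sq d.card_ne_zero hs
    rw [← Nat.card_eq_fintype_card, ← P.card, hA, hB] at h1
    exact Nat.mul_self_inj.1 h1
  set R := ⁅(⊤ : Subgroup T), (⊤ : Subgroup T)⁆ with hR
  obtain ⟨q, hq1, hq2⟩ := exists_not_mem_two (BA.subgroupOf R) (BB.subgroupOf R)
    ⟨⟨ra, hra⟩, hra'⟩ ⟨⟨rb, hrb⟩, hrb'⟩
  have hqq : (q : T) * q = z := hinj (MulEquiv.ext fun m => by
    obtain ⟨a, ha, b, hb, rfl⟩ := P.split m
    rw [map_mul, hBA q q.2 hq1 a ha, hBB q q.2 hq2 b hb, hzinv, mul_inv])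
  have hc : finrank K d.fixCov ≤ 1 := d.finrank_fixCov_le_one hF hnex
  haveI : Finite (MulAut W) := Finite.of_injective (fun q : MulAut W => (q : W → W)) DFunLike.coe_injective
  haveI : Finite (MulAut W') :=
    Finite.of_injective (fun q : MulAut W' => (q : W' → W')) DFunLike.coe_injective
  have hT14 : Nat.card T ≤ 128 * 128 := by
    refine le_trans (Nat.card_le_card_of_injective
      (fun t => ((restrictAut d.σ W hWl).rangeRestrict t, (restrictAut d.σ W' hWr).rangeRestrict t))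
      fun s t h => hinj (MulEquiv.ext fun m => ?_)) (by rw [Nat.card_prod]; exact Nat.mul_le_mul hAP hBP)
    obtain ⟨a, ha, b, hb, rfl⟩ := P.split m
    have h1 := congrArg (fun q : (restrictAut d.σ W hWl).range × (restrictAut d.σ W' hWr).range =>
      ((q.1 : MulAut W) ⟨a, ha⟩ : M)) h
    have h2 := congrArg (fun q : (restrictAut d.σ W hWl).range × (restrictAut d.σ W' hWr).range =>
      ((q.2 : MulAut W') ⟨b, hb⟩ : M)) h
    rw [map_mul, map_mul]
    exact congrArg₂ (· * ·) h1 h2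
  obtain ⟨φ, hφ0, hφ⟩ := d.exists_fixed_covector hT
  obtain ⟨s, hs1, hs2⟩ := exists_generators R
  have htool := d.rank_tool hF hφ0 hφ (h := (q : T)) q.2 (by rw [hqq]; exact hz) s hs1
  have hrz := d.rank_inverting hs hzinv hT
  rw [hqq, hn] at htool
  rw [hn] at hrz
  have hR1 : 1 ≤ Nat.card R := Nat.card_pos
  have hG : s.card ≤ 14 := by
    by_contra hlt
    have h2 : 2 ^ 15 ≤ 2 ^ s.card := Nat.pow_le_pow_right two_pos (by omega)
    have := Nat.mul_le_mul h2 hR1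
    omega
  omega

/-- The classification for three. -/
theorem fail_three : ∀ (b : ℕ) {M : Type w} [CommGroup M] [Finite M], Nat.card M ≤ b →
    ∀ (V : Type v) [AddCommGroup V] [Module K V] [Nontrivial V] [FiniteDimensional K V]
    (T : Type w) [Group T] [Finite T] (d : Weil K V M T), IsPGroup 2 T → d.Simple →
    Function.Injective d.σ → ∀ z : T, z ∈ der (⊤ : Subgroup T) 2 → z ≠ 1 → (∀ a, d.σ z a = a⁻¹) →
    d.Fail 3 → d.Exc3 z := by
  intro b
  induction b with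
  | zero => intro M _ _ h; exact absurd h (Nat.not_le.2 Nat.card_pos)
  | succ b ihb =>
    intro M _ _ hb V _ _ _ _ T _ _ d hT hs hinj z hz hz1 hzinv hF
    obtain ⟨e, W, W', P⟩ := exists_split d.form d.σ d.iso hinj hT hz hzinv hz1
    by_cases h : ∀ t, t * e * t⁻¹ = e
    · exact (exc_of_central d hT hs hinj hz hzinv hF P h fun X hX V' _ _ _ _ T' _ _ d' hT' hs' hi' z'
        hz' hz1' hzi' hF' =>
          ihb (Nat.le_of_lt_succ (hX.trans_le hb)) V' T' d' hT' hs' hi' z' hz' hz1' hzi' hF').elim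
    · push Not at h
      obtain ⟨g, hg⟩ := h
      exact exc_of_swap d hT hs hinj hz hzinv hF P ((P.conj g).resolve_left hg) hg

end

end Weil

end CfsgLib.FGS74.Dlen
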