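import Cfsg.Agent.FGS74.Dlen.Weil
import Mathlib.LinearAlgebra.Projection
import Mathlib.LinearAlgebra.Dual.Basis
import Mathlib.LinearAlgebra.Eigenspace.Triangularizable
import Mathlib.FieldTheory.Perfect
import Mathlib.LinearAlgebra.Dual.Lemmas

/-!
# Invariant subspaces of a Weil datum

Derived data on invariant subspaces, quotients, the dual, subgroups of `M`; Schur's lemma; averaged
intertwiners; minimal subspaces invariant under a two-group.
-/

set_option autoImplicit false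
set_option linter.style.haveILetI false

open Module

namespace CfsgLib.FGS74.Dlen

open CfsgLib.FGS74.Bry

universe u v w x y

namespace Weil

variable {K : Type u} [Field K] {V : Type v} [AddCommGroup V] [Module K V] {M : Type w}
  [CommGroup M] {T : Type x} [Group T] (d : Weil K V M T)

/-- An invariant subspace. -/
def Inv (N : Submodule K V) : Prop := ∀ a, ∀ v ∈ N, d.ρ a v ∈ N

/-- A minimal invariant subspace. -/
def IsMin (N : Submodule K V) : Prop :=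
  N ≠ ⊥ ∧ d.Inv N ∧ ∀ N', N' ≤ N → d.Inv N' → N' ≠ ⊥ → N' = N

theorem ρi_eq (a : M) : ∃ c : K, d.ρi a = c • d.ρ a⁻¹ := by
  obtain ⟨c, -, hc⟩ := d.ρ_mul a a⁻¹
  rw [mul_inv_cancel, d.ρ_one] at hc
  refine ⟨c, ?_⟩
  calc d.ρi a = d.ρi a * (c • (d.ρ a * d.ρ a⁻¹)) := by rw [← hc, mul_one]
    _ = _ := by rw [mul_smul_comm, ← mul_assoc, d.ρi_mul_ρ, one_mul]

theorem Inv.ρi_mem {d : Weil K V M T} {N : Submodule K V} (h : d.Inv N) (a : M) {v : V}
    (hv : v ∈ N) : d.ρi a v ∈ N := by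
  obtain ⟨c, hc⟩ := d.ρi_eq a
  rw [hc]
  exact N.smul_mem c (h _ v hv)

theorem ψ_mul_inv (t : T) : d.ψ t * d.ψ t⁻¹ = 1 := by rw [← map_mul, mul_inv_cancel, map_one]

theorem ψ_inv_mul (t : T) : d.ψ t⁻¹ * d.ψ t = 1 := by rw [← map_mul, inv_mul_cancel, map_one]

theorem ψ_inv_apply (t : T) (v : V) : d.ψ t⁻¹ (d.ψ t v) = v := by
  rw [← Module.End.mul_apply, d.ψ_inv_mul, Module.End.one_apply]

theorem ψ_apply_inv (t : T) (v : V) : d.ψ t (d.ψ t⁻¹ v) = v := by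
  rw [← Module.End.mul_apply, d.ψ_mul_inv, Module.End.one_apply]

theorem σ_inv_apply (t : T) (a : M) : d.σ t⁻¹ (d.σ t a) = a := by
  rw [← MulAut.mul_apply, ← map_mul, inv_mul_cancel, map_one, MulAut.one_apply]

theorem σ_apply_inv (t : T) (a : M) : d.σ t (d.σ t⁻¹ a) = a := by
  rw [← MulAut.mul_apply, ← map_mul, mul_inv_cancel, map_one, MulAut.one_apply]

/-- Along a homomorphism into `T`, on a nondegenerate invariant subgroup. -/
noncomputable def restrict {T' : Type y} [Group T'] (f : T' →* T) (W : Subgroup M)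
    (hW : ∀ t, ∀ a ∈ W, d.σ (f t) a ∈ W) (hnd : ∀ a ∈ W, (∀ k ∈ W, d.B k a = 1) → a = 1) :
    Weil K V W T' where
  B := MonoidHom.mk' (fun a => (d.B a).comp W.subtype) fun a b => MonoidHom.ext fun c => by
    simp [map_mul]
  form := ⟨d.form.odd.of_dvd_nat W.card_subgroup_dvd_card, fun m => d.form.self _,
    fun m hm => Subtype.ext (hnd m m.2 fun k hk => hm ⟨k, hk⟩)⟩
  ρ a := d.ρ a
  ρ_one := d.ρ_one
  ρ_mul a b := d.ρ_mul a b
  ρ_comm a b := d.ρ_comm a b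
  σ := MonoidHom.mk' (fun t =>
    { toFun := fun a => ⟨d.σ (f t) a, hW t a a.2⟩
      invFun := fun a => ⟨d.σ (f t)⁻¹ a, by rw [← map_inv f]; exact hW t⁻¹ a a.2⟩
      left_inv := fun a => Subtype.ext (d.σ_inv_apply _ _)
      right_inv := fun a => Subtype.ext (d.σ_apply_inv _ _)
      map_mul' := fun a b => Subtype.ext (map_mul (d.σ (f t)) (a : M) (b : M)) })
    fun s t => MulEquiv.ext fun a => Subtype.ext (by
      show d.σ (f (s * t)) a = d.σ (f s) (d.σ (f t) a)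
      rw [map_mul, map_mul, MulAut.mul_apply])
  ψ := d.ψ.comp f
  equiv t a := d.equiv (f t) a
  iso t a b := d.iso (f t) a b

/-- Along a homomorphism into `T`. -/
noncomputable def comap {T' : Type y} [Group T'] (f : T' →* T) : Weil K V M T' where
  B := d.B
  form := d.form
  ρ := d.ρ
  ρ_one := d.ρ_one
  ρ_mul := d.ρ_mul
  ρ_comm := d.ρ_comm
  σ := d.σ.comp f
  ψ := d.ψ.comp f
  equiv t a := d.equiv (f t) a
  iso t := d.iso (f t)

/-- On an invariant subspace. -/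
noncomputable def sub (N : Submodule K V) (hρ : d.Inv N) (hψ : ∀ t, ∀ v ∈ N, d.ψ t v ∈ N) :
    Weil K N M T where
  B := d.B
  form := d.form
  ρ a := (d.ρ a).restrict (hρ a)
  ρ_one := LinearMap.ext fun v => Subtype.ext (LinearMap.congr_fun d.ρ_one v.1)
  ρ_mul a b := by
    obtain ⟨c, hc0, hc⟩ := d.ρ_mul a b
    exact ⟨c, hc0, LinearMap.ext fun v => Subtype.ext (LinearMap.congr_fun hc v.1)⟩
  ρ_comm a b := LinearMap.ext fun v => Subtype.ext (LinearMap.congr_fun (d.ρ_comm a b) v.1)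
  σ := d.σ
  ψ := MonoidHom.mk
    ⟨fun t => (d.ψ t).restrict (hψ t),
      LinearMap.ext fun v => Subtype.ext (LinearMap.congr_fun (map_one d.ψ) v.1)⟩
    fun s t => LinearMap.ext fun v => Subtype.ext (LinearMap.congr_fun (map_mul d.ψ s t) v.1)
  equiv t a := by
    obtain ⟨c, hc0, hc⟩ := d.equiv t a
    exact ⟨c, hc0, LinearMap.ext fun v => Subtype.ext (LinearMap.congr_fun hc v.1)⟩
  iso := d.iso

/-- On the quotient by an invariant subspace. -/
noncomputable def quot (N : Submodule K V) (hρ : d.Inv N) (hψ : ∀ t, ∀ v ∈ N, d.ψ t v ∈ N) :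
    Weil K (V ⧸ N) M T where
  B := d.B
  form := d.form
  ρ a := N.mapQ N (d.ρ a) (hρ a)
  ρ_one := N.linearMap_qext (LinearMap.ext fun v =>
    congrArg (Submodule.Quotient.mk (p := N)) (LinearMap.congr_fun d.ρ_one v))
  ρ_mul a b := by
    obtain ⟨c, hc0, hc⟩ := d.ρ_mul a b
    exact ⟨c, hc0, N.linearMap_qext (LinearMap.ext fun v =>
      congrArg (Submodule.Quotient.mk (p := N)) (LinearMap.congr_fun hc v))⟩
  ρ_comm a b := N.linearMap_qext (LinearMap.ext fun v =>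
    congrArg (Submodule.Quotient.mk (p := N)) (LinearMap.congr_fun (d.ρ_comm a b) v))
  σ := d.σ
  ψ := MonoidHom.mk
    ⟨fun t => N.mapQ N (d.ψ t) (hψ t), N.linearMap_qext (LinearMap.ext fun v =>
      congrArg (Submodule.Quotient.mk (p := N)) (LinearMap.congr_fun (map_one d.ψ) v))⟩
    fun s t => N.linearMap_qext (LinearMap.ext fun v =>
      congrArg (Submodule.Quotient.mk (p := N)) (LinearMap.congr_fun (map_mul d.ψ s t) v))
  equiv t a := by
    obtain ⟨c, hc0, hc⟩ := d.equiv t a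
    exact ⟨c, hc0, N.linearMap_qext (LinearMap.ext fun v =>
      congrArg (Submodule.Quotient.mk (p := N)) (LinearMap.congr_fun hc v))⟩
  iso := d.iso

/-- On the dual space. -/
noncomputable def dual : Weil K (Dual K V) M T where
  B := d.B⁻¹
  form := ⟨d.form.odd, fun m => by rw [MonoidHom.inv_apply, MonoidHom.inv_apply, d.form.self, inv_one],
    fun m hm => d.form.nd m fun k => by simpa using hm k⟩
  ρ a := (d.ρi a).dualMap
  ρ_one := by
    have h := d.ρ_mul_ρi 1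
    rw [d.ρ_one, one_mul] at h
    rw [h]
    exact LinearMap.dualMap_id
  ρ_mul a b := by
    obtain ⟨c, hc0, hc⟩ := d.ρ_mul a b
    refine ⟨c⁻¹, inv_ne_zero hc0, ?_⟩
    have h : d.ρi (a * b) = c⁻¹ • (d.ρi b * d.ρi a) := by
      have h1 : d.ρ (a * b) * (c⁻¹ • (d.ρi b * d.ρi a)) = 1 := by
        rw [hc, smul_mul_smul_comm, mul_inv_cancel₀ hc0, one_smul, mul_assoc, ← mul_assoc (d.ρ b),
          d.ρ_mul_ρi, one_mul, d.ρ_mul_ρi]
      calc d.ρi (a * b) = d.ρi (a * b) * (d.ρ (a * b) * (c⁻¹ • (d.ρi b * d.ρi a))) := by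
            rw [h1, mul_one]
        _ = _ := by rw [← mul_assoc, d.ρi_mul_ρ, one_mul]
    exact LinearMap.ext fun φ => LinearMap.ext fun v => by simp [h]
  ρ_comm a b := by
    have h : d.ρi b * d.ρi a = ((d.B a b : Kˣ)⁻¹ : Kˣ) • (d.ρi a * d.ρi b) := by
      have h1 : d.ρi b * d.ρi a * (d.ρ a * d.ρ b) = 1 := by
        rw [mul_assoc, ← mul_assoc (d.ρi a), d.ρi_mul_ρ, one_mul, d.ρi_mul_ρ]
      rw [d.ρ_comm, mul_smul_comm] at h1
      rw [eq_inv_smul_iff]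
      calc (d.B a b : Kˣ) • (d.ρi b * d.ρi a)
          = (d.B a b : Kˣ) • (d.ρi b * d.ρi a) * (d.ρ b * d.ρ a * (d.ρi a * d.ρi b)) := by
            rw [mul_assoc (d.ρ b), ← mul_assoc (d.ρ a), d.ρ_mul_ρi, one_mul, d.ρ_mul_ρi, mul_one]
        _ = _ := by
            rw [← mul_assoc, smul_mul_assoc, Units.smul_def, h1, one_mul]
    refine LinearMap.ext fun φ => LinearMap.ext fun v => ?_
    simp only [MonoidHom.inv_apply, Module.End.mul_apply, LinearMap.smul_apply,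
      LinearMap.dualMap_apply]
    rw [← Module.End.mul_apply, h, LinearMap.smul_apply, Units.smul_def, map_smul]
    rfl
  σ := d.σ
  ψ := MonoidHom.mk
    ⟨fun t => (d.ψ t⁻¹).dualMap, by rw [inv_one, map_one]; exact LinearMap.dualMap_id⟩
    fun s t => by
      show (d.ψ (s * t)⁻¹).dualMap = _
      rw [mul_inv_rev, map_mul]
      rfl
  equiv t a := by
    obtain ⟨c, hc0, hc⟩ := d.equiv t a
    refine ⟨c⁻¹, inv_ne_zero hc0, ?_⟩
    have h : d.ρi a * d.ψ t⁻¹ = c⁻¹ • (d.ψ t⁻¹ * d.ρi (d.σ t a)) := by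
      rw [eq_inv_smul_iff₀ hc0]
      calc c • (d.ρi a * d.ψ t⁻¹)
          = d.ρi a * d.ψ t⁻¹ * (c • (d.ρ (d.σ t a) * d.ψ t)) * (d.ψ t⁻¹ * d.ρi (d.σ t a)) := by
            rw [mul_smul_comm, smul_mul_assoc]
            congr 1
            simp only [mul_assoc]
            rw [← mul_assoc (d.ψ t) (d.ψ t⁻¹), d.ψ_mul_inv, one_mul, d.ρ_mul_ρi, mul_one]
        _ = _ := by
            rw [← hc, ← mul_assoc (d.ρi a * d.ψ t⁻¹), mul_assoc (d.ρi a), d.ψ_inv_mul, mul_one,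
              d.ρi_mul_ρ, one_mul]
    refine LinearMap.ext fun φ => LinearMap.ext fun v => ?_
    show φ ((d.ρi a * d.ψ t⁻¹) v) = c⁻¹ • φ ((d.ψ t⁻¹ * d.ρi (d.σ t a)) v)
    rw [h, LinearMap.smul_apply, map_smul]
  iso t a b := by
    simp only [MonoidHom.inv_apply]
    rw [d.iso t a b]

theorem dual_ρ (a : M) (φ : Dual K V) (v : V) : d.dual.ρ a φ v = φ (d.ρi a v) := rfl

theorem dual_ψ (t : T) (φ : Dual K V) (v : V) : d.dual.ψ t φ v = φ (d.ψ t⁻¹ v) := rfl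

include d in
theorem card_ne_zero [CharP K 2] [Fintype M] : (Fintype.card M : K) ≠ 0 := by
  rw [Ne, CharP.cast_eq_zero_iff K 2, ← Nat.card_eq_fintype_card]
  exact fun h => Nat.not_even_iff_odd.2 (Form.odd d.form) (even_iff_two_dvd.2 h)

variable [Fintype M]

theorem proj_one_apply (E : Module.End K V) :
    d.proj 1 E = (Fintype.card M : K)⁻¹ • ∑ k : M, d.ad k E := by
  rw [proj_apply]
  congr 1
  exact Finset.sum_congr rfl fun k _ => by simp

theorem avg_comm (E : Module.End K V) (a : M) : d.ρ a * d.proj 1 E = d.proj 1 E * d.ρ a :=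
  (d.commute_iff_ad a _).2 (by rw [d.ad_proj]; simp)

theorem avg_mem {N : Submodule K V} (hN : d.Inv N) {E : Module.End K V} (hE : ∀ v, E v ∈ N) (v : V) :
    d.proj 1 E v ∈ N := by
  rw [proj_one_apply, LinearMap.smul_apply, LinearMap.sum_apply]
  exact N.smul_mem _ (N.sum_mem fun k _ => hN k _ (hE _))

theorem avg_eq_self (hc : (Fintype.card M : K) ≠ 0) {N : Submodule K V} (hN : d.Inv N)
    {E : Module.End K V} (hE : ∀ v ∈ N, E v = v) {v : V} (hv : v ∈ N) : d.proj 1 E v = v := by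
  have h : ∀ k : M, d.ad k E v = v := fun k => by
    rw [ad_apply, Module.End.mul_apply, Module.End.mul_apply, hE _ (hN.ρi_mem k hv),
      ← Module.End.mul_apply, d.ρ_mul_ρi, Module.End.one_apply]
  rw [proj_one_apply, LinearMap.smul_apply, LinearMap.sum_apply, Finset.sum_congr rfl fun k _ => h k,
    Finset.sum_const, Finset.card_univ, ← Nat.cast_smul_eq_nsmul K, inv_smul_smul₀ hc]

/-- A commuting projection onto an invariant subspace. -/
theorem exists_proj (hc : (Fintype.card M : K) ≠ 0) {N : Submodule K V} (hN : d.Inv N) :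
    ∃ P : Module.End K V, (∀ a, d.ρ a * P = P * d.ρ a) ∧ (∀ v, P v ∈ N) ∧ ∀ v ∈ N, P v = v := by
  obtain ⟨N', hN'⟩ := Submodule.exists_isCompl N
  refine ⟨d.proj 1 (N.projection N' hN'), d.avg_comm _, d.avg_mem hN ?_, fun v hv => d.avg_eq_self hc hN ?_ hv⟩
  · exact fun v => Submodule.projection_apply_mem hN' v
  · exact fun v hv => Submodule.projection_apply_left hN' ⟨v, hv⟩

/-- An intertwiner between two minimal subspaces. -/
theorem exists_hom (hc : (Fintype.card M : K) ≠ 0) {L L' : Submodule K V} (hL : d.IsMin L)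
    (hL' : d.IsMin L') :
    ∃ A : Module.End K V, (∀ a, d.ρ a * A = A * d.ρ a) ∧ (∀ v, A v ∈ L') ∧
      (∀ v ∈ L, A v = 0 → v = 0) ∧ L.map A = L' := by
  obtain ⟨y, hy, hy0⟩ := Submodule.exists_mem_ne_zero_of_ne_bot hL.1
  obtain ⟨x, hx, hx0⟩ := Submodule.exists_mem_ne_zero_of_ne_bot hL'.1
  obtain ⟨φ, hφ⟩ : ∃ φ : Dual K V, φ y ≠ 0 := by
    by_contra! h
    exact hy0 ((Module.forall_dual_apply_eq_zero_iff K y).1 h)
  have : ∃ x' : V, x' ∈ L' ∧ d.proj 1 ((φ : Dual K V).smulRight x') y ≠ 0 := by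
    by_contra! hall
    have hd := (d.comap (1 : Unit →* T)).sub L' hL'.2.1 (fun _ v hv => by
      show d.ψ 1 v ∈ L'
      rw [map_one, Module.End.one_apply]; exact hv)
    let d' := (d.comap (1 : Unit →* T)).sub L' hL'.2.1 (fun _ v hv => by
      show d.ψ 1 v ∈ L'
      rw [map_one, Module.End.one_apply]; exact hv)
    haveI : Nontrivial L' := Submodule.nontrivial_iff_ne_bot.2 hL'.1
    have h0 : ∑ k, φ (d.ρi k y) • d'.ρ k = 0 := by
      refine LinearMap.ext fun x' => Subtype.ext ?_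
      have h := hall x'.1 x'.2
      rw [proj_one_apply, LinearMap.smul_apply, smul_eq_zero, LinearMap.sum_apply] at h
      rw [LinearMap.sum_apply, LinearMap.zero_apply, AddSubmonoidClass.coe_finsetSum]
      refine (Finset.sum_congr rfl fun k _ => ?_).trans (h.resolve_left (inv_ne_zero hc))
      rw [ad_apply, Module.End.mul_apply, Module.End.mul_apply, LinearMap.smulRight_apply, map_smul]
      rfl
    have h1 := Fintype.linearIndependent_iff.1 (linearIndependent (d := d')) _ h0 1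
    obtain ⟨c, hc1⟩ := d.ρi_eq 1
    have h2 : d.ρi 1 = 1 := by
      have := d.ρ_mul_ρi 1
      rwa [d.ρ_one, one_mul] at this
    rw [h2, Module.End.one_apply] at h1
    exact hφ h1
  obtain ⟨x', hx', hne⟩ := this
  set A := d.proj 1 ((φ : Dual K V).smulRight x')
  have hmem : ∀ v, A v ∈ L' := d.avg_mem hL'.2.1 fun v => L'.smul_mem _ hx'
  have hcomm : ∀ a v, A (d.ρ a v) = d.ρ a (A v) := fun a v => by
    rw [← Module.End.mul_apply, ← Module.End.mul_apply, d.avg_comm]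
  have hinj : ∀ v ∈ L, A v = 0 → v = 0 := by
    by_contra! hex
    obtain ⟨v, hv, hv0, hvne⟩ := hex
    have h := hL.2.2 (L ⊓ LinearMap.ker A) inf_le_left
      (fun a w hw => ⟨hL.2.1 a w hw.1, by
        show A (d.ρ a w) = 0
        rw [hcomm, show A w = 0 from hw.2, map_zero]⟩)
      (fun hb => hvne ((Submodule.eq_bot_iff _).1 hb v ⟨hv, hv0⟩))
    exact hne (show y ∈ LinearMap.ker A from (h.ge hy).2)
  refine ⟨A, d.avg_comm _, hmem, hinj, hL'.2.2 _ ?_ ?_ ?_⟩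
  · rintro _ ⟨v, -, rfl⟩; exact hmem v
  · rintro a _ ⟨v, hv, rfl⟩
    exact ⟨d.ρ a v, hL.2.1 a v hv, hcomm a v⟩
  · exact fun hb => hne ((Submodule.eq_bot_iff _).1 hb _ ⟨y, hy, rfl⟩)

omit [Fintype M]

/-- Schur's lemma. -/
theorem schur [IsAlgClosed K] [FiniteDimensional K V] {L : Submodule K V} (hL : d.IsMin L)
    (A : Module.End K V) (hA : ∀ v ∈ L, A v ∈ L) (hc : ∀ a, ∀ v ∈ L, A (d.ρ a v) = d.ρ a (A v)) :
    ∃ r : K, ∀ v ∈ L, A v = r • v := by
  haveI : Nontrivial L := Submodule.nontrivial_iff_ne_bot.2 hL.1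
  obtain ⟨r, hr⟩ := Module.End.exists_eigenvalue (A.restrict hA)
  obtain ⟨w, hw⟩ := hr.exists_hasEigenvector
  refine ⟨r, fun v hv => ?_⟩
  let E : Submodule K V := L ⊓ LinearMap.ker (A - r • 1)
  have hE : E = L := hL.2.2 E inf_le_left (fun a u hu => ⟨hL.2.1 a u hu.1, by
    have h := hu.2
    simp only [SetLike.mem_coe, LinearMap.mem_ker, LinearMap.sub_apply, LinearMap.smul_apply,
      Module.End.one_apply, sub_eq_zero] at h ⊢
    rw [hc a u hu.1, h, map_smul]⟩) fun hb => hw.2 (Subtype.ext ((Submodule.eq_bot_iff _).1 hb w.1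
      ⟨w.2, by
        have h := congrArg Subtype.val hw.apply_eq_smul
        simp only [SetLike.mem_coe, LinearMap.mem_ker, LinearMap.sub_apply, LinearMap.smul_apply,
          Module.End.one_apply, sub_eq_zero]
        exact h⟩))
  have h := (hE.ge hv).2
  simpa [sub_eq_zero] using h

/-- Two intertwiners into the same space are proportional. -/
theorem schur₂ [IsAlgClosed K] [FiniteDimensional K V] {L L' : Submodule K V} (hL : d.IsMin L)
    (X Y : Module.End K V) (hX : ∀ v ∈ L, X v ∈ L') (hYmap : L.map Y = L')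
    (hYinj : ∀ v ∈ L, Y v = 0 → v = 0) (hXc : ∀ a, ∀ v ∈ L, X (d.ρ a v) = d.ρ a (X v))
    (hYc : ∀ a, ∀ v ∈ L, Y (d.ρ a v) = d.ρ a (Y v)) : ∃ r : K, ∀ v ∈ L, X v = r • Y v := by
  have hY : ∀ v ∈ L, Y v ∈ L' := fun v hv => hYmap ▸ ⟨v, hv, rfl⟩
  let e : L ≃ₗ[K] L' := LinearEquiv.ofBijective (Y.restrict hY)
    ⟨fun p q h => Subtype.ext (sub_eq_zero.1 (hYinj _ (L.sub_mem p.2 q.2) (by
      rw [map_sub, sub_eq_zero]; exact congrArg Subtype.val h))), fun ⟨q, hq⟩ => by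
      obtain ⟨p, hp, rfl⟩ := hYmap.ge hq
      exact ⟨⟨p, hp⟩, rfl⟩⟩
  obtain ⟨N', hN'⟩ := Submodule.exists_isCompl L
  let X' : L →ₗ[K] L' := X.restrict hX
  let Z : Module.End K V := L.subtype ∘ₗ e.symm.toLinearMap ∘ₗ X' ∘ₗ L.projectionOnto N' hN'
  have hZ : ∀ v ∈ L, Z v ∈ L ∧ Y (Z v) = X v := by
    intro v hv
    refine ⟨Subtype.prop _, ?_⟩
    show ((e (e.symm (X' (L.projectionOnto N' hN' v)))) : V) = X v
    rw [e.apply_symm_apply, Submodule.projectionOnto_apply_left hN' ⟨v, hv⟩]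
    rfl
  obtain ⟨r, hr⟩ := d.schur hL Z (fun v hv => (hZ v hv).1) fun a v hv => sub_eq_zero.1
    (hYinj _ (L.sub_mem (hZ _ (hL.2.1 a v hv)).1 (hL.2.1 a _ (hZ v hv).1)) (by
      rw [map_sub, (hZ _ (hL.2.1 a v hv)).2, hXc a v hv, hYc a _ (hZ v hv).1, (hZ v hv).2, sub_self]))
  exact ⟨r, fun v hv => by rw [← (hZ v hv).2, hr v hv, map_smul]⟩

/-- A minimal subspace gives a simple datum. -/
theorem simple_sub [IsAlgClosed K] [FiniteDimensional K V] {L : Submodule K V} (hL : d.IsMin L)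
    (hψ : ∀ t, ∀ v ∈ L, d.ψ t v ∈ L) : (d.sub L hL.2.1 hψ).Simple := by
  intro A hA
  obtain ⟨N', hN'⟩ := Submodule.exists_isCompl L
  let A' : Module.End K V := L.subtype ∘ₗ A ∘ₗ L.projectionOnto N' hN'
  have hA' : ∀ v : L, A' v.1 = (A v).1 := fun v => by
    show (A (L.projectionOnto N' hN' v.1)).1 = _
    rw [Submodule.projectionOnto_apply_left hN']
  obtain ⟨r, hr⟩ := d.schur hL A' (fun v _ => Subtype.prop _) fun a v hv => by
    rw [hA' ⟨v, hv⟩, hA' ⟨d.ρ a v, hL.2.1 a v hv⟩]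
    exact congrArg Subtype.val (LinearMap.congr_fun (hA a) ⟨v, hv⟩).symm
  exact ⟨r, LinearMap.ext fun v => Subtype.ext ((hA' v).symm.trans (hr v v.2))⟩

variable [CharP K 2]

/-- An intertwiner commutes with an element of two-power order preserving both spaces. -/
theorem equivariant [IsAlgClosed K] [FiniteDimensional K V] {L L' : Submodule K V} (hL : d.IsMin L)
    (A : Module.End K V) (hAmem : ∀ v, A v ∈ L') (hAmap : L.map A = L')
    (hAinj : ∀ v ∈ L, A v = 0 → v = 0) (hAc' : ∀ a v, A (d.ρ a v) = d.ρ a (A v)) {s : T} {m : ℕ}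
    (hm' : s ^ 2 ^ m = 1) (hLs : ∀ j : ℕ, ∀ v ∈ L, d.ψ (s ^ j) v ∈ L)
    (hLs' : ∀ v ∈ L', d.ψ s v ∈ L') : ∀ v ∈ L, A (d.ψ s v) = d.ψ s (A v) := by
  obtain ⟨χ, hχ⟩ := d.schur₂ hL (d.ψ s * A * d.ψ s⁻¹) A
    (fun v _ => hLs' _ (hAmem _)) hAmap hAinj
    (fun a v _ => by
      obtain ⟨c, hc0, hc⟩ := d.equiv s (d.σ s⁻¹ a)
      rw [d.σ_apply_inv] at hc
      have h1 : d.ψ s⁻¹ (d.ρ a v) = c⁻¹ • d.ρ (d.σ s⁻¹ a) (d.ψ s⁻¹ v) := by
        rw [eq_inv_smul_iff₀ hc0, ← map_smul]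
        conv_rhs => rw [← d.ψ_inv_apply s (d.ρ (d.σ s⁻¹ a) (d.ψ s⁻¹ v))]
        congr 1
        rw [show d.ψ s (d.ρ (d.σ s⁻¹ a) (d.ψ s⁻¹ v)) = c • d.ρ a (d.ψ s (d.ψ s⁻¹ v))
          from LinearMap.congr_fun hc _, d.ψ_apply_inv]
      simp only [Module.End.mul_apply]
      rw [h1, map_smul, map_smul, hAc',
        show d.ψ s (d.ρ (d.σ s⁻¹ a) (A (d.ψ s⁻¹ v))) = c • d.ρ a (d.ψ s (A (d.ψ s⁻¹ v)))
          from LinearMap.congr_fun hc _, inv_smul_smul₀ hc0])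
    (fun a v _ => hAc' a v)
  have hχ' : ∀ v ∈ L, d.ψ s (A v) = χ • A (d.ψ s v) := fun v hv => by
    have h := hχ _ (by simpa using hLs 1 v hv)
    simp only [Module.End.mul_apply] at h
    rwa [d.ψ_inv_apply] at h
  have hpow : ∀ j : ℕ, ∀ v ∈ L, d.ψ (s ^ j) (A v) = χ ^ j • A (d.ψ (s ^ j) v) := by
    intro j
    induction j with
    | zero => intro v _; simp
    | succ j ihj =>
      intro v hv
      rw [pow_succ', map_mul, Module.End.mul_apply, ihj v hv, map_smul,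
        hχ' _ (hLs j v hv), smul_smul, Module.End.mul_apply, pow_succ]
  obtain ⟨v₀, hv₀, hv₀0⟩ := Submodule.exists_mem_ne_zero_of_ne_bot hL.1
  have h1 := hpow (2 ^ m) v₀ hv₀
  rw [hm', map_one, Module.End.one_apply, Module.End.one_apply, eq_comm] at h1
  have hχ1 : χ ^ 2 ^ m = 1 := by
    have h2 : (χ ^ 2 ^ m - 1) • A v₀ = 0 := by rw [sub_smul, one_smul, h1, sub_self]
    exact sub_eq_zero.1 ((smul_eq_zero.1 h2).resolve_right fun h => hv₀0 (hAinj v₀ hv₀ h))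
  have hχ2 : χ = 1 := sub_eq_zero.1 (pow_eq_zero_iff (Nat.two_pow_pos m).ne' |>.1 (by
    rw [sub_pow_char_pow, hχ1, one_pow, sub_self]))
  intro v hv
  rw [hχ' v hv, hχ2, one_smul]

omit [CharP K 2] in
theorem exists_index_two {P : Subgroup T} [Finite T] (hP : IsPGroup 2 P) (hne : P ≠ ⊥) :
    ∃ P₁ < P, ∃ g ∈ P, g * g ∈ P₁ ∧ (∀ y ∈ P, y ∈ P₁ ∨ g⁻¹ * y ∈ P₁) ∧
      ∀ y ∈ P₁, g⁻¹ * y * g ∈ P₁ := by
  haveI := Fact.mk Nat.prime_two
  obtain ⟨k, hk⟩ := IsPGroup.iff_card.1 hP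
  have hk0 : k ≠ 0 := fun h => hne (Subgroup.card_eq_one.1 (by rw [hk, h, pow_zero]))
  obtain ⟨D₀, hD₀⟩ := Sylow.exists_subgroup_card_pow_prime (G := P) 2 (n := k - 1)
    (by rw [hk]; exact pow_dvd_pow 2 (by omega))
  have hidx : D₀.index = 2 := by
    have h := D₀.card_mul_index
    rw [hD₀, hk, show (2 : ℕ) ^ k = 2 ^ (k - 1) * 2 by rw [← pow_succ]; congr 1; omega] at h
    exact Nat.eq_of_mul_eq_mul_left (Nat.two_pow_pos _) h
  haveI : D₀.Normal := Subgroup.normal_of_index_eq_two hidx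
  obtain ⟨g, hg⟩ : ∃ g : P, g ∉ D₀ := by
    by_contra! hall
    rw [(Subgroup.eq_top_iff' D₀).2 hall, Subgroup.index_top] at hidx
    exact absurd hidx (by norm_num)
  refine ⟨D₀.map P.subtype, lt_of_le_of_ne (Subgroup.map_subtype_le _) fun h => hg ?_, g, g.2,
    ⟨g * g, Subgroup.mul_self_mem_of_index_two hidx _, rfl⟩, fun y hy => ?_, ?_⟩
  · obtain ⟨g', hg', he⟩ := h.ge g.2
    exact (Subtype.ext he : g' = g) ▸ hg'
  · by_cases hy' : (⟨y, hy⟩ : P) ∈ D₀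
    · exact Or.inl ⟨_, hy', rfl⟩
    · refine Or.inr ⟨g⁻¹ * ⟨y, hy⟩, SetLike.mem_coe.2 ?_, rfl⟩
      rw [Subgroup.mul_mem_iff_of_index_two hidx, inv_mem_iff]
      exact iff_of_false hg hy'
  · rintro _ ⟨y, hy, rfl⟩
    exact ⟨g⁻¹ * y * g, by simpa using Subgroup.Normal.conj_mem inferInstance y hy g⁻¹, rfl⟩

/-- A two-group fixes a minimal subspace. -/
theorem exists_min_invariant [IsAlgClosed K] [FiniteDimensional K V] [Finite T] [Finite M]
    (Y : Submodule K V) (hY0 : Y ≠ ⊥) (hYρ : d.Inv Y) :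
    ∀ (P : Subgroup T), IsPGroup 2 P → (∀ t ∈ P, ∀ v ∈ Y, d.ψ t v ∈ Y) →
    ∃ L, d.IsMin L ∧ L ≤ Y ∧ ∀ t ∈ P, ∀ v ∈ L, d.ψ t v ∈ L := by
  haveI := Fintype.ofFinite M
  intro P
  induction P using (measure fun P : Subgroup T => Nat.card P).wf.induction with
  | _ P ih =>
    intro hP hYP
    by_cases hne : P = ⊥
    · obtain ⟨L, hL⟩ := exists_minimal_of_wellFoundedLT
        (fun L : Submodule K V => L ≠ ⊥ ∧ d.Inv L ∧ L ≤ Y) ⟨Y, hY0, hYρ, le_rfl⟩
      refine ⟨L, ⟨hL.prop.1, hL.prop.2.1, fun N' h1 h2 h3 =>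
        le_antisymm h1 (hL.2 ⟨h3, h2, h1.trans hL.prop.2.2⟩ h1)⟩, hL.prop.2.2, fun t ht v hv => ?_⟩
      rw [hne, Subgroup.mem_bot] at ht
      rwa [ht, map_one, Module.End.one_apply]
    obtain ⟨P₁, hlt, g, hg, hgg, hcos, hconj⟩ := exists_index_two hP hne
    obtain ⟨L, hL, hLY, hLP⟩ := ih P₁
      (Set.Finite.card_lt_card (Set.toFinite _) (SetLike.coe_ssubset_coe.2 hlt))
      (hP.to_le hlt.le) fun t ht => hYP t (hlt.le ht)
    set G := d.ψ g
    have hGc : ∀ a, ∃ c : K, c ≠ 0 ∧ ∀ v, d.ρ a (G v) = c • G (d.ρ (d.σ g⁻¹ a) v) := fun a => by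
      obtain ⟨c, hc0, hc⟩ := d.equiv g (d.σ g⁻¹ a)
      rw [d.σ_apply_inv] at hc
      refine ⟨c⁻¹, inv_ne_zero hc0, fun v => ?_⟩
      rw [show G (d.ρ (d.σ g⁻¹ a) v) = c • d.ρ a (G v) from LinearMap.congr_fun hc v,
        inv_smul_smul₀ hc0]
    set L₁ := L.map G
    have hL₁min : d.IsMin L₁ := by
      refine ⟨fun h => hL.1 ((Submodule.eq_bot_iff _).2 fun v hv => ?_), ?_, fun N' h1 h2 h3 => ?_⟩
      · rw [← d.ψ_inv_apply g v, (Submodule.eq_bot_iff _).1 h (G v) ⟨v, hv, rfl⟩, map_zero]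
      · rintro a _ ⟨v, hv, rfl⟩
        obtain ⟨c, -, hc⟩ := hGc a
        rw [hc]
        exact L₁.smul_mem c ⟨_, hL.2.1 _ v hv, rfl⟩
      · have h := hL.2.2 (L ⊓ N'.comap G) inf_le_left (fun a v hv => ⟨hL.2.1 a v hv.1, by
          obtain ⟨c, hc0, hc⟩ := hGc (d.σ g a)
          have := h2 (d.σ g a) _ hv.2
          rw [hc, d.σ_inv_apply] at this
          exact (N'.smul_mem_iff hc0).1 this⟩) fun hb => h3 ((Submodule.eq_bot_iff _).2 fun v hv => by
            obtain ⟨u, hu, rfl⟩ := h1 hv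
            rw [(Submodule.eq_bot_iff _).1 hb u ⟨hu, hv⟩, map_zero])
        refine le_antisymm h1 ?_
        rintro _ ⟨v, hv, rfl⟩
        exact (h.ge hv).2
    have hP₁L₁ : ∀ s ∈ P₁, ∀ v ∈ L₁, d.ψ s v ∈ L₁ := by
      rintro s hs _ ⟨v, hv, rfl⟩
      refine ⟨d.ψ (g⁻¹ * s * g) v, hLP _ (hconj s hs) v hv, ?_⟩
      rw [← Module.End.mul_apply, ← Module.End.mul_apply, ← map_mul, ← map_mul]
      congr 2; group
    have hLgg : ∀ v ∈ L, G (G v) ∈ L := fun v hv => by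
      rw [← Module.End.mul_apply, ← map_mul]; exact hLP _ hgg v hv
    have hinv : ∀ L' : Submodule K V, (∀ s ∈ P₁, ∀ v ∈ L', d.ψ s v ∈ L') →
        (∀ v ∈ L', G v ∈ L') → ∀ t ∈ P, ∀ v ∈ L', d.ψ t v ∈ L' := by
      intro L' h1 h2 t ht v hv
      rcases hcos t ht with h | h
      · exact h1 t h v hv
      · rw [← mul_inv_cancel_left g t, map_mul, Module.End.mul_apply]
        exact h2 _ (h1 _ h v hv)
    by_cases heq : L₁ = L
    · exact ⟨L, hL, hLY, hinv L hLP fun v hv => heq.le ⟨v, hv, rfl⟩⟩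
    have hL₁Y : L₁ ≤ Y := by
      rintro _ ⟨v, hv, rfl⟩; exact hYP g hg v (hLY hv)
    obtain ⟨A, hAc, hAmem, hAinj, hAmap⟩ := d.exists_hom (d.card_ne_zero) hL hL₁min
    have hAc' : ∀ a v, A (d.ρ a v) = d.ρ a (A v) := fun a v => by
      rw [← Module.End.mul_apply, ← Module.End.mul_apply, hAc]
    -- the smaller group commutes with `A` on `L`
    have hAs : ∀ s ∈ P₁, ∀ v ∈ L, A (d.ψ s v) = d.ψ s (A v) := fun s hs => by
      obtain ⟨m, hm⟩ := hP ⟨s, hlt.le hs⟩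
      exact d.equivariant hL A (fun v => hAmem v) hAmap hAinj hAc' (congrArg Subtype.val hm :)
        (fun j v hv => hLP _ (pow_mem hs j) v hv) (fun v hv => hP₁L₁ s hs v hv)
    -- rescale
    have hLG : ∀ w ∈ L₁, d.ψ g⁻¹ w ∈ L := by
      rintro _ ⟨v, hv, rfl⟩
      rw [d.ψ_inv_apply]
      exact hv
    obtain ⟨r, hr⟩ : ∃ r : K, ∀ v ∈ L, d.ψ g⁻¹ (A (G (A v))) = r • v := by
      refine (d.schur hL (d.ψ g⁻¹ * A * G * A) (fun v _ => hLG _ (hAmem _)) fun a v _ => ?_).imp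
        fun r hr v hv => hr v hv
      obtain ⟨c, hc0, hc⟩ := d.equiv g a
      simp only [Module.End.mul_apply]
      rw [hAc', show G (d.ρ a (A v)) = c • d.ρ (d.σ g a) (G (A v)) from LinearMap.congr_fun hc _,
        map_smul, hAc']
      refine (Function.LeftInverse.injective (d.ψ_inv_apply g)) ?_
      rw [show d.ψ g (d.ρ a _) = c • d.ρ (d.σ g a) (d.ψ g _) from LinearMap.congr_fun hc _,
        d.ψ_apply_inv, d.ψ_apply_inv]
    have hrG : ∀ v ∈ L, A (G (A v)) = r • G v := fun v hv => by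
      rw [← d.ψ_apply_inv g (A (G (A v))), hr v hv, map_smul]
    have hr0 : r ≠ 0 := by
      obtain ⟨v₀, hv₀, hv₀0⟩ := Submodule.exists_mem_ne_zero_of_ne_bot hL.1
      intro h0
      have h := hrG v₀ hv₀
      rw [h0, zero_smul] at h
      refine hv₀0 (hAinj v₀ hv₀ ?_)
      obtain ⟨u, hu, hu'⟩ := (hAmem v₀ : A v₀ ∈ L₁)
      have h2 : G (A v₀) = 0 := hAinj _ (by rw [← hu']; exact hLgg u hu) h
      rw [← d.ψ_inv_apply g (A v₀), h2, map_zero]
    obtain ⟨c, hc⟩ := IsAlgClosed.exists_pow_nat_eq r⁻¹ (n := 2) two_pos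
    let F : Module.End K V := 1 + c • A
    have hF : ∀ v, F v = v + c • A v := fun v => rfl
    have hFinj : ∀ v ∈ L, F v = 0 → v = 0 := by
      intro v hv h
      by_contra hv0
      have hvL₁ : v ∈ L₁ := by
        rw [hF, add_eq_zero_iff_eq_neg] at h
        rw [h]
        exact L₁.neg_mem (L₁.smul_mem _ (hAmem v))
      have h' := hL.2.2 (L ⊓ L₁) inf_le_left (fun a w hw => ⟨hL.2.1 a w hw.1, hL₁min.2.1 a w hw.2⟩)
        fun hb => hv0 ((Submodule.eq_bot_iff _).1 hb v ⟨hv, hvL₁⟩)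
      exact heq (hL₁min.2.2 L (h'.ge.trans inf_le_right) hL.2.1 hL.1).symm
    have hFρ : ∀ a v, F (d.ρ a v) = d.ρ a (F v) := fun a v => by
      rw [hF, hF, hAc', map_add, map_smul]
    refine ⟨L.map F, ⟨?_, ?_, fun N' h1 h2 h3 => ?_⟩, ?_, hinv _ ?_ ?_⟩
    · intro hb
      obtain ⟨v₀, hv₀, hv₀0⟩ := Submodule.exists_mem_ne_zero_of_ne_bot hL.1
      exact hv₀0 (hFinj v₀ hv₀ ((Submodule.eq_bot_iff _).1 hb _ ⟨v₀, hv₀, rfl⟩))
    · rintro a _ ⟨v, hv, rfl⟩
      exact ⟨_, hL.2.1 a v hv, hFρ a v⟩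
    · have h := hL.2.2 (L ⊓ N'.comap F) inf_le_left (fun a v hv => ⟨hL.2.1 a v hv.1, by
        show F (d.ρ a v) ∈ N'
        rw [hFρ]; exact h2 a _ hv.2⟩) fun hb => h3 ((Submodule.eq_bot_iff _).2 fun v hv => by
          obtain ⟨u, hu, rfl⟩ := h1 hv
          rw [(Submodule.eq_bot_iff _).1 hb u ⟨hu, hv⟩, map_zero])
      refine le_antisymm h1 ?_
      rintro _ ⟨v, hv, rfl⟩
      exact (h.ge hv).2
    · rintro _ ⟨v, hv, rfl⟩
      rw [hF]
      exact Y.add_mem (hLY hv) (Y.smul_mem c (hL₁Y (hAmem v)))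
    · rintro s hs _ ⟨v, hv, rfl⟩
      exact ⟨_, hLP s hs v hv, by rw [hF, hF, hAs s hs v hv, map_add, map_smul]⟩
    · rintro _ ⟨v, hv, rfl⟩
      obtain ⟨u, hu, hu'⟩ := (hAmem v : A v ∈ L₁)
      have hm : G (A v) ∈ L := by rw [← hu']; exact hLgg u hu
      refine ⟨c • G (A v), L.smul_mem c hm, ?_⟩
      rw [hF, hF, map_smul, hrG v hv, map_add, map_smul, smul_smul, smul_smul, ← pow_two, hc,
        inv_mul_cancel₀ hr0, one_smul, add_comm]

end Weil

end CfsgLib.FGS74.Dlen
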