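import Cfsg.Agent.FGS74.Dlen.Piece

/-!
# Two halves exchanged

If orthogonal halves of `M` are exchanged, `Fail` for `k + 1` gives `Fail` for `k` for the commutator
subgroup on one half.
-/

set_option autoImplicit false
set_option linter.style.haveILetI false

open Module
open scoped commutatorElement

namespace CfsgLib.FGS74.Dlen

open CfsgLib.FGS74.Bry CfsgLib.FGS74.GrossLen

universe u v w x y

/-- A covector vanishing on the kernel of another is a multiple. -/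
theorem exists_smul_of_ker_le {K : Type u} [Field K] {V : Type v} [AddCommGroup V] [Module K V]
    {φ ζ : Dual K V} (hφ : φ ≠ 0) (h : ∀ y, φ y = 0 → ζ y = 0) : ∃ c : K, ζ = c • φ := by
  obtain ⟨w, hw⟩ : ∃ w, φ w ≠ 0 := by
    by_contra! h'
    exact hφ (LinearMap.ext h')
  refine ⟨ζ w / φ w, LinearMap.ext fun y => ?_⟩
  have := h (y - (φ y / φ w) • w) (by
    rw [map_sub, map_smul, smul_eq_mul, div_mul_cancel₀ _ hw, sub_self])
  rw [map_sub, map_smul, smul_eq_mul, sub_eq_zero] at this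
  rw [this, LinearMap.smul_apply, smul_eq_mul]
  ring

namespace Weil

variable {K : Type u} [Field K] {V : Type v} [AddCommGroup V] [Module K V] {M : Type w}
  [CommGroup M] {T : Type x} [Group T] {d : Weil K V M T}

theorem Orth.dual {W W' : Subgroup M} (h : d.Orth W W') : d.dual.Orth W W' :=
  ⟨fun a ha b hb => by
    show (d.B⁻¹ a) b = 1
    rw [MonoidHom.inv_apply, MonoidHom.inv_apply, h.perp a ha b hb, inv_one], h.split⟩

/-- Elements of a minimal subspace are carried to each other by operators in the span. -/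
theorem exists_op {L : Submodule K V} (hL : d.IsMin L) {p q : V} (hp : p ∈ L) (hp0 : p ≠ 0)
    (hq : q ∈ L) : ∃ A ∈ Submodule.span K (Set.range d.ρ), A p = q := by
  let O := Submodule.span K (Set.range d.ρ)
  have h2 := hL.2.2 (O.map (LinearMap.applyₗ p)) (by
    rw [Submodule.map_span, Submodule.span_le]
    rintro _ ⟨_, ⟨b, rfl⟩, rfl⟩
    exact hL.2.1 b _ hp) ?_ ?_
  · exact h2.ge hq
  · rintro a _ ⟨A, hA, rfl⟩
    induction hA using Submodule.span_induction with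
    | mem x hx =>
      obtain ⟨b, rfl⟩ := hx
      obtain ⟨c, hc0, hc⟩ := d.ρ_mul a b
      refine ⟨c⁻¹ • d.ρ (a * b), O.smul_mem _ (Submodule.subset_span ⟨a * b, rfl⟩), ?_⟩
      show (c⁻¹ • d.ρ (a * b)) p = d.ρ a (d.ρ b p)
      rw [hc, inv_smul_smul₀ hc0]
      rfl
    | zero => simp
    | add x y _ _ hx hy => rw [map_add, map_add]; exact add_mem hx hy
    | smul r x _ hx => rw [map_smul, map_smul]; exact Submodule.smul_mem _ r hx
  · intro hb
    refine hp0 ((Submodule.eq_bot_iff _).1 hb p ⟨d.ρ 1, Submodule.subset_span ⟨1, rfl⟩, ?_⟩)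
    show d.ρ 1 p = p
    rw [d.ρ_one, Module.End.one_apply]

/-- The image of a minimal subspace under an intertwiner. -/
theorem isMin_map {L : Submodule K V} (hL : d.IsMin L) (A : Module.End K V)
    (hA : ∀ a, ∀ v ∈ L, A (d.ρ a v) = d.ρ a (A v)) (hne : ∃ v ∈ L, A v ≠ 0) :
    d.IsMin (L.map A) := by
  obtain ⟨v₀, hv₀, hv₀'⟩ := hne
  refine ⟨fun hb => hv₀' ((Submodule.eq_bot_iff _).1 hb _ ⟨v₀, hv₀, rfl⟩), ?_, fun N' h1 h2 h3 => ?_⟩
  · rintro a _ ⟨v, hv, rfl⟩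
    exact ⟨_, hL.2.1 a v hv, hA a v hv⟩
  · have h := hL.2.2 (L ⊓ N'.comap A) inf_le_left (fun a v hv => ⟨hL.2.1 a v hv.1, by
      show A (d.ρ a v) ∈ N'
      rw [hA a v hv.1]; exact h2 a _ hv.2⟩) fun hb => h3 ((Submodule.eq_bot_iff _).2 fun v hv => by
        obtain ⟨u, hu, rfl⟩ := h1 hv
        rw [(Submodule.eq_bot_iff _).1 hb u ⟨hu, hv⟩, map_zero])
    refine le_antisymm h1 ?_
    rintro _ ⟨v, hv, rfl⟩
    exact (h.ge hv).2

/-- Two minimal subspaces are equal or disjoint. -/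
theorem IsMin.eq_or_disjoint {L L' : Submodule K V} (hL : d.IsMin L) (hL' : d.IsMin L') :
    L = L' ∨ L ⊓ L' = ⊥ := by
  by_cases h : L ⊓ L' = ⊥
  · exact Or.inr h
  have hinv : d.Inv (L ⊓ L') := fun a v hv => ⟨hL.2.1 a v hv.1, hL'.2.1 a v hv.2⟩
  exact Or.inl ((hL.2.2 _ inf_le_left hinv h).symm.trans (hL'.2.2 _ inf_le_right hinv h))

/-- An element of two-power order fixes a line it preserves. -/
theorem fixed_of_line [CharP K 2] {t : T} {m : ℕ} (ht : t ^ 2 ^ m = 1) {p : V} (hp : p ≠ 0) {r : K}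
    (h : d.ψ t p = r • p) : d.ψ t p = p := by
  have hpow : ∀ j : ℕ, d.ψ (t ^ j) p = r ^ j • p := by
    intro j
    induction j with
    | zero => simp
    | succ j ih => rw [pow_succ', map_mul, Module.End.mul_apply, ih, map_smul, h, smul_smul, pow_succ]
  have h1 := hpow (2 ^ m)
  rw [ht, map_one, Module.End.one_apply] at h1
  have h2 : (r ^ 2 ^ m - 1) • p = 0 := by rw [sub_smul, one_smul, ← h1, sub_self]
  have h3 : r = 1 := sub_eq_zero.1 (pow_eq_zero_iff (Nat.two_pow_pos m).ne' |>.1 (by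
    rw [sub_pow_char_pow, sub_eq_zero.1 ((smul_eq_zero.1 h2).resolve_right hp), one_pow, sub_self]))
  rw [h, h3, one_smul]

variable {W W' : Subgroup M}

variable (d) in
/-- Two orthogonal halves exchanged by `g`, stabilised by `S`. -/
structure Halves (W W' : Subgroup M) (S : Subgroup T) (g : T) : Prop where
  orth : d.Orth W W'
  left : ∀ s : S, ∀ a ∈ W, d.σ s a ∈ W
  right : ∀ s : S, ∀ a ∈ W', d.σ s a ∈ W'
  mapL : ∀ a ∈ W, d.σ g a ∈ W'
  mapR : ∀ a ∈ W', d.σ g a ∈ W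
  sq : g * g ∈ S
  dich : ∀ t, t ∈ S ∨ g⁻¹ * t ∈ S
  conj : ∀ s ∈ S, g⁻¹ * s * g ∈ S

variable {S : Subgroup T} {g : T} (H : d.Halves W W' S g)
include H

theorem Halves.mapL' {a : M} (ha : a ∈ W) : d.σ g⁻¹ a ∈ W' := by
  have h := H.mapL _ (H.left ⟨_, inv_mem H.sq⟩ a ha)
  rwa [← MulAut.mul_apply, ← map_mul, show g * ((⟨_, inv_mem H.sq⟩ : S) : T) = g⁻¹ from by
    show g * (g * g)⁻¹ = g⁻¹; group] at h

theorem Halves.mapR' {a : M} (ha : a ∈ W') : d.σ g⁻¹ a ∈ W := by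
  have h := H.mapR _ (H.right ⟨_, inv_mem H.sq⟩ a ha)
  rwa [← MulAut.mul_apply, ← map_mul, show g * ((⟨_, inv_mem H.sq⟩ : S) : T) = g⁻¹ from by
    show g * (g * g)⁻¹ = g⁻¹; group] at h

theorem Halves.conj' {s : T} (hs : s ∈ S) : g * s * g⁻¹ ∈ S := by
  rw [show g * s * g⁻¹ = (g * g) * (g⁻¹ * s * g) * (g * g)⁻¹ by group]
  exact S.mul_mem (S.mul_mem H.sq (H.conj s hs)) (S.inv_mem H.sq)

theorem Halves.commutator_le : (⁅(⊤ : Subgroup T), (⊤ : Subgroup T)⁆ : Subgroup T) ≤ S := by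
  haveI : S.Normal := ⟨fun s hs t => by
    rcases H.dich t with h | h
    · exact S.mul_mem (S.mul_mem h hs) (S.inv_mem h)
    · rw [show t * s * t⁻¹ = g * ((g⁻¹ * t) * s * (g⁻¹ * t)⁻¹) * g⁻¹ by group]
      exact H.conj' (S.mul_mem (S.mul_mem h hs) (S.inv_mem h))⟩
  have hq : ∀ t : T, ∃ i : ℕ, (t : T ⧸ S) = (g : T ⧸ S) ^ i := by
    intro t
    rcases H.dich t with h | h
    · exact ⟨0, by rw [pow_zero, QuotientGroup.eq_one_iff]; exact h⟩
    · exact ⟨1, by rw [pow_one, eq_comm, QuotientGroup.eq]; exact h⟩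
  refine Subgroup.commutator_le.2 fun a _ b _ => (QuotientGroup.eq_one_iff _).1 ?_
  obtain ⟨i, hi⟩ := hq a
  obtain ⟨j, hj⟩ := hq b
  show QuotientGroup.mk' S ⁅a, b⁆ = 1
  rw [map_commutatorElement, QuotientGroup.mk'_apply, QuotientGroup.mk'_apply, hi, hj,
    commutatorElement_eq_one_iff_mul_comm]
  exact ((Commute.refl _).pow_pow i j).eq

theorem Halves.conj_commutator {r : T} (hr : r ∈ (⁅(⊤ : Subgroup T), (⊤ : Subgroup T)⁆ : Subgroup T)) (t : T) :
    t * r * t⁻¹ ∈ (⁅(⊤ : Subgroup T), (⊤ : Subgroup T)⁆ : Subgroup T) :=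
  (Subgroup.commutator_normal ⊤ ⊤).conj_mem r hr t

/-- The dual datum on the left half over `S`. -/
noncomputable def Halves.dualLeft : Weil K (Dual K V) W S :=
  d.dual.restrict S.subtype W H.left fun _ ha hk => H.orth.dual.nd ha hk

/-- The dual datum on the right half over `S`. -/
noncomputable def Halves.dualRight : Weil K (Dual K V) W' S :=
  d.dual.restrict S.subtype W' H.right fun _ ha hk => H.orth.dual.symm.nd ha hk

/-- The datum of the commutator subgroup on the left half. -/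
noncomputable def Halves.derLeft : Weil K V W ↥(⁅(⊤ : Subgroup T), (⊤ : Subgroup T)⁆ : Subgroup T) :=
  d.restrict ((⁅(⊤ : Subgroup T), (⊤ : Subgroup T)⁆ : Subgroup T)).subtype W (fun t a ha => H.left ⟨t, H.commutator_le t.2⟩ a ha)
    fun _ ha hk => H.orth.nd ha hk

theorem Halves.min_right {U : Submodule K (Dual K V)} (hU : H.dualLeft.IsMin U) {γ : T}
    (hγ : ∀ a ∈ W', d.σ γ⁻¹ a ∈ W) (hγ' : ∀ a ∈ W, d.σ γ a ∈ W') :
    H.dualRight.IsMin (U.map (d.dual.ψ γ)) := by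
  have hc : ∀ (b : M) (v : Dual K V), ∃ c : K, c ≠ 0 ∧
      d.dual.ρ b (d.dual.ψ γ v) = c • d.dual.ψ γ (d.dual.ρ (d.σ γ⁻¹ b) v) := fun b v => by
    obtain ⟨c, hc0, hc⟩ := d.dual.equiv γ (d.σ γ⁻¹ b)
    refine ⟨c⁻¹, inv_ne_zero hc0, ?_⟩
    have h := LinearMap.congr_fun hc v
    rw [show d.dual.σ γ (d.σ γ⁻¹ b) = b from d.σ_apply_inv γ b] at h
    rw [show d.dual.ψ γ (d.dual.ρ (d.σ γ⁻¹ b) v) = c • d.dual.ρ b (d.dual.ψ γ v) from h,
      inv_smul_smul₀ hc0]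
  refine ⟨fun hb => hU.1 ((Submodule.eq_bot_iff _).2 fun v hv => ?_), ?_, fun N' h1 h2 h3 => ?_⟩
  · rw [← d.dual.ψ_inv_apply γ v, (Submodule.eq_bot_iff _).1 hb _ ⟨v, hv, rfl⟩, map_zero]
  · rintro b _ ⟨v, hv, rfl⟩
    obtain ⟨c, -, h⟩ := hc b v
    show d.dual.ρ b (d.dual.ψ γ v) ∈ _
    rw [h]
    exact Submodule.smul_mem _ c ⟨_, hU.2.1 ⟨_, hγ b b.2⟩ v hv, rfl⟩
  · have h := hU.2.2 (U ⊓ N'.comap (d.dual.ψ γ)) inf_le_left (fun a v hv => ⟨hU.2.1 a v hv.1, by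
      obtain ⟨c, hc0, h⟩ := hc (d.σ γ a) v
      have h4 : d.dual.ρ (d.σ γ a) (d.dual.ψ γ v) ∈ N' := h2 ⟨_, hγ' a a.2⟩ _ hv.2
      rw [h, d.σ_inv_apply] at h4
      exact (N'.smul_mem_iff hc0).1 h4⟩) fun hb => h3 ((Submodule.eq_bot_iff _).2 fun v hv => by
        obtain ⟨u, hu, rfl⟩ := h1 hv
        rw [(Submodule.eq_bot_iff _).1 hb u ⟨hu, hv⟩, map_zero])
    refine le_antisymm h1 ?_
    rintro _ ⟨v, hv, rfl⟩
    exact (h.ge hv).2

variable [CharP K 2] [IsAlgClosed K] [FiniteDimensional K V] [Finite M]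

theorem Halves.exists_min [Nontrivial V] [Finite T] (hT : IsPGroup 2 T) :
    ∃ U, H.dualLeft.IsMin U ∧ ∀ s : S, ∀ v ∈ U, d.dual.ψ s v ∈ U := by
  haveI : Nontrivial (Dual K V) := Module.nontrivial_of_finrank_pos (R := K) (by
    rw [Subspace.dual_finrank_eq]; exact Module.finrank_pos)
  obtain ⟨U, hU, -, hinv⟩ := H.dualLeft.exists_min_invariant ⊤ top_ne_bot (fun _ _ _ => trivial) ⊤
    ((hT.to_subgroup S).to_subgroup ⊤) fun _ _ _ _ => trivial
  exact ⟨U, hU, fun s v hv => hinv s trivial v hv⟩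

set_option maxHeartbeats 1000000 in
/-- The descent. -/
theorem Halves.fail [Finite T] (hT : IsPGroup 2 T) (hs : d.Simple)
    {U : Submodule K (Dual K V)} (hU : H.dualLeft.IsMin U)
    (hUS : ∀ s : S, ∀ v ∈ U, d.dual.ψ s v ∈ U)
    (hN : H.derLeft.Inv U.dualCoannihilator)
    (hNψ : ∀ t, ∀ v ∈ U.dualCoannihilator, H.derLeft.ψ t v ∈ U.dualCoannihilator) {k : ℕ}
    (hF : d.Fail (k + 1)) : (H.derLeft.quot U.dualCoannihilator hN hNψ).Fail k := by
  haveI := Fintype.ofFinite M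
  haveI : Nontrivial V := by
    obtain ⟨φ, -, hφ⟩ := Submodule.exists_mem_ne_zero_of_ne_bot hU.1
    by_contra hV
    haveI := not_nontrivial_iff_subsingleton.1 hV
    exact hφ (LinearMap.ext fun v => by rw [Subsingleton.elim v 0, map_zero, map_zero])
  set e := d.dual with he
  haveI : Nontrivial (Dual K V) := Module.nontrivial_of_finrank_pos (R := K) (by
    rw [Subspace.dual_finrank_eq]; exact Module.finrank_pos)
  have hse : e.Simple := d.simple_dual hs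
  have hord : ∀ t : T, ∃ m : ℕ, t ^ 2 ^ m = 1 := fun t => hT t
  have hgg : ∀ v ∈ U, e.ψ g (e.ψ g v) ∈ U := fun v hv => by
    rw [← Module.End.mul_apply, ← map_mul]; exact hUS ⟨_, H.sq⟩ v hv
  have hUR : ∀ r ∈ (⁅(⊤ : Subgroup T), (⊤ : Subgroup T)⁆ : Subgroup T), ∀ v ∈ U, e.ψ r v ∈ U :=
    fun r hr v hv => hUS ⟨r, H.commutator_le hr⟩ v hv
  -- the fixed covector of the whole group
  set L := U.map (e.ψ g)
  have hL : H.dualRight.IsMin L := H.min_right hU (fun a ha => H.mapR' ha) H.mapL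
  obtain ⟨p₀, hp₀, hp₀0, hline₀⟩ := H.orth.dual.line hse hU hL
  have hUgL : ∀ v ∈ L, e.ψ g v ∈ U := by
    rintro _ ⟨u, hu, rfl⟩; exact hgg u hu
  have hp₀T : ∀ t, e.ψ t p₀ = p₀ := by
    have hS : ∀ s ∈ S, e.ψ s p₀ = p₀ := by
      intro s hs'
      obtain ⟨r, hr⟩ := hline₀ (e.ψ s p₀) ⟨hUS ⟨s, hs'⟩ _ hp₀.1, by
        obtain ⟨u, hu, hu'⟩ := hp₀.2
        refine ⟨e.ψ (g⁻¹ * s * g) u, hUS ⟨_, H.conj s hs'⟩ u hu, ?_⟩
        rw [← hu', ← Module.End.mul_apply, ← Module.End.mul_apply, ← map_mul, ← map_mul]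
        congr 2; group⟩
      obtain ⟨m, hm⟩ := hord s
      exact fixed_of_line hm hp₀0 hr
    have hg' : e.ψ g p₀ = p₀ := by
      obtain ⟨r, hr⟩ := hline₀ (e.ψ g p₀) ⟨hUgL _ hp₀.2, ⟨p₀, hp₀.1, rfl⟩⟩
      obtain ⟨m, hm⟩ := hord g
      exact fixed_of_line hm hp₀0 hr
    intro t
    rcases H.dich t with h | h
    · exact hS t h
    · rw [← mul_inv_cancel_left g t, map_mul, Module.End.mul_apply, hS _ h, hg']
  have hp₀fix : ∀ t v, p₀ (d.ψ t v) = p₀ v := fun t v => by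
    have h := LinearMap.congr_fun (hp₀T t⁻¹) v
    rwa [he, dual_ψ, inv_inv] at h
  have hY := hF p₀ hp₀0 hp₀fix
  rw [chain_succ] at hY
  -- the covector of the piece
  intro φb hφb0 hφbfix
  set φ : Dual K V := φb.comp (U.dualCoannihilator).mkQ
  have hUN : U.dualCoannihilator.dualAnnihilator = U := Subspace.dualCoannihilator_dualAnnihilator_eq
  have hmemU : ∀ θ : Dual K (V ⧸ U.dualCoannihilator), θ.comp (U.dualCoannihilator).mkQ ∈ U := by
    intro θ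
    refine hUN.le ((Submodule.mem_dualAnnihilator _).2 fun v hv => ?_)
    rw [LinearMap.comp_apply, Submodule.mkQ_apply, (Submodule.Quotient.mk_eq_zero _).2 hv, map_zero]
  have hφU : φ ∈ U := hmemU φb
  have hφ0 : φ ≠ 0 := fun h => hφb0 (Submodule.linearMap_qext _ h)
  have hφR : ∀ r ∈ (⁅(⊤ : Subgroup T), (⊤ : Subgroup T)⁆ : Subgroup T), e.ψ r φ = φ := fun r hr => LinearMap.ext fun v => by
    rw [he, dual_ψ]
    exact hφbfix ⟨r⁻¹, inv_mem hr⟩ (Submodule.Quotient.mk v)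
  -- the second minimal subspace
  set gφ := e.ψ g φ
  have hgφ : gφ ∈ L := ⟨φ, hφU, rfl⟩
  obtain ⟨A, hA, hAp⟩ := exists_op hL hp₀.2 hp₀0 hgφ
  have hAc : ∀ a ∈ W, ∀ v, A (e.ρ a v) = e.ρ a (A v) := by
    intro a ha
    clear hAp
    induction hA using Submodule.span_induction with
    | mem x hx =>
      obtain ⟨b, rfl⟩ := hx
      intro v
      have h1 := LinearMap.congr_fun (e.ρ_comm a b) v
      rw [show (e.B a b : K) = 1 by rw [H.orth.dual.perp a ha b b.2, Units.val_one], one_smul] at h1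
      exact h1.symm
    | zero => simp
    | add x y _ _ hx hy => intro w; simp [hx w, hy w]
    | smul r x _ hx => intro w; simp [hx w]
  have hgφ0 : gφ ≠ 0 := fun h => hφ0 (by rw [← e.ψ_inv_apply g φ]; exact (congrArg _ h).trans (map_zero _))
  set U' := U.map A
  have hU' : H.dualLeft.IsMin U' :=
    isMin_map hU A (fun a v _ => hAc a a.2 v) ⟨p₀, hp₀.1, hAp ▸ hgφ0⟩
  have hgφU' : gφ ∈ U' := ⟨p₀, hp₀.1, hAp⟩
  have hrgφ : ∀ r ∈ (⁅(⊤ : Subgroup T), (⊤ : Subgroup T)⁆ : Subgroup T), e.ψ r gφ = gφ := fun r hr => by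
    show e.ψ r (e.ψ g φ) = e.ψ g φ
    nth_rw 2 [← hφR _ (H.conj_commutator hr g⁻¹)]
    rw [← Module.End.mul_apply, ← Module.End.mul_apply, ← map_mul, ← map_mul]
    congr 2; group
  have hU'R : ∀ r ∈ (⁅(⊤ : Subgroup T), (⊤ : Subgroup T)⁆ : Subgroup T), ∀ v ∈ U', e.ψ r v ∈ U' := by
    intro r hr
    have h := hU'.2.2 (U' ⊓ U'.comap (e.ψ r)) inf_le_left (fun a v hv => ⟨hU'.2.1 a v hv.1, by
      obtain ⟨c, -, hc⟩ := e.equiv r a
      show e.ψ r (e.ρ a v) ∈ U'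
      rw [show e.ψ r (e.ρ a v) = c • e.ρ (e.σ r a) (e.ψ r v) from LinearMap.congr_fun hc v]
      exact U'.smul_mem c (hU'.2.1 ⟨_, H.left ⟨r, H.commutator_le hr⟩ a a.2⟩ _ hv.2)⟩)
      (fun hb => hgφ0 ((Submodule.eq_bot_iff _).1 hb gφ ⟨hgφU', by
        show e.ψ r gφ ∈ U'
        rw [hrgφ r hr]; exact hgφU'⟩))
    exact fun v hv => (h.ge hv).2
  set L' := U'.map (e.ψ g⁻¹)
  have hL' : H.dualRight.IsMin L' := H.min_right hU' (fun a ha => by rw [inv_inv]; exact H.mapR a ha)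
    (fun a ha => H.mapL' ha)
  have hφL' : φ ∈ L' := ⟨gφ, hgφU', e.ψ_inv_apply g φ⟩
  obtain ⟨p', hp', hp'0, hline'⟩ := H.orth.dual.line hse hU' hL'
  -- the intertwiner
  haveI : Fintype W := Fintype.ofFinite _
  obtain ⟨b, hbc, hbmem, hbinj, hbmap⟩ := H.dualLeft.exists_hom H.dualLeft.card_ne_zero hU hU'
  have hbc' : ∀ a ∈ W, e.ρ a * b = b * e.ρ a := fun a ha => hbc ⟨a, ha⟩
  have hbR : ∀ r ∈ (⁅(⊤ : Subgroup T), (⊤ : Subgroup T)⁆ : Subgroup T), ∀ v ∈ U, b (e.ψ r v) = e.ψ r (b v) := by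
    intro r hr
    obtain ⟨m, hm⟩ := hord r
    exact H.dualLeft.equivariant hU b hbmem hbmap hbinj
      (fun a v => (LinearMap.congr_fun (hbc a) v).symm) (s := ⟨r, H.commutator_le hr⟩) (m := m)
      (Subtype.ext hm) (fun j v hv => hUS ((⟨r, H.commutator_le hr⟩ : S) ^ j) v hv) (hU'R r hr)
  have hbφ : b φ ∈ U' ⊓ L' :=
    ⟨hbmem φ, H.orth.dual.mem_of_commute hse hbc' (fun a ha v hv => hL'.2.1 ⟨a, ha⟩ v hv) hφL'⟩
  obtain ⟨r₀, hr₀⟩ := hline' _ hbφ
  have hr₀0 : r₀ ≠ 0 := fun h => hφ0 (hbinj φ hφU (by rw [hr₀, h, zero_smul]))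
  -- the annihilator
  have hann : ∀ η ∈ U', (∀ y, p₀ y = 0 → η (d.ψ g y - y) = 0) → ∃ r : K, η = r • p' := by
    intro η hη hy
    obtain ⟨c, hc⟩ := exists_smul_of_ker_le (ζ := e.ψ g⁻¹ η - η) hp₀0 fun y hy0 => by
      rw [LinearMap.sub_apply, he, dual_ψ, inv_inv, ← map_sub]; exact hy y hy0
    have hgη : e.ψ g⁻¹ η = η + c • p₀ := by rw [← hc, add_sub_cancel]
    have hgηL' : e.ψ g⁻¹ η ∈ L' := ⟨η, hη, rfl⟩
    rcases IsMin.eq_or_disjoint hU hU' with heq | hdis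
    · have hgU : e.ψ g⁻¹ η ∈ U' := by
        rw [hgη]; exact U'.add_mem hη (U'.smul_mem c (heq ▸ hp₀.1))
      obtain ⟨r, hr⟩ := hline' _ ⟨hgU, hgηL'⟩
      refine ⟨r, ?_⟩
      have hp'T : ∀ t, e.ψ t p' = p' := by
        have hmem : p' ∈ U ⊓ L := ⟨heq ▸ hp'.1, by
          obtain ⟨u, hu, hu'⟩ := hp'.2
          rw [← hu']
          refine ⟨e.ψ (g * g)⁻¹ u, hUS ⟨_, inv_mem H.sq⟩ u (heq ▸ hu), ?_⟩
          rw [← Module.End.mul_apply, ← map_mul]
          congr 2; group⟩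
        obtain ⟨r', hr'⟩ := hline₀ p' hmem
        intro t
        rw [hr', map_smul, hp₀T]
      rw [← e.ψ_apply_inv g η, hr, map_smul, hp'T]
    · obtain ⟨C, hC⟩ := Submodule.exists_isCompl (U ⊔ U')
      have hcompl : IsCompl U (U' ⊔ C) := ⟨Disjoint.disjoint_sup_right_of_disjoint_sup_left
        (disjoint_iff.2 hdis) hC.disjoint, codisjoint_iff.2 (by
          rw [← sup_assoc]; exact hC.sup_eq_top)⟩
      haveI : Fintype W := Fintype.ofFinite _
      set Q := H.dualLeft.proj 1 (U.projection (U' ⊔ C) hcompl) with hQ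
      have hQc : ∀ a ∈ W, e.ρ a * Q = Q * e.ρ a := fun a ha => H.dualLeft.avg_comm _ ⟨a, ha⟩
      have hQU : Q p₀ = p₀ := H.dualLeft.avg_eq_self H.dualLeft.card_ne_zero hU.2.1
        (fun v hv => Submodule.projection_apply_of_mem_left hcompl hv) hp₀.1
      have hQU' : Q η = 0 := by
        rw [hQ, proj_one_apply, LinearMap.smul_apply, LinearMap.sum_apply, Finset.sum_eq_zero,
          smul_zero]
        intro a _
        rw [ad_apply, Module.End.mul_apply, Module.End.mul_apply,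
          (Submodule.projection_apply_eq_zero_iff hcompl).2
            (Submodule.mem_sup_left (hU'.2.1.ρi_mem a hη)), map_zero]
      have hmem : c • p₀ ∈ L' := by
        have h := H.orth.dual.mem_of_commute hse hQc (fun a ha v hv => hL'.2.1 ⟨a, ha⟩ v hv) hgηL'
        rwa [hgη, map_add, map_smul, hQU', hQU, zero_add] at h
      have hc0 : c = 0 := by
        by_contra hc0
        have hmem' : p₀ ∈ L' := (L'.smul_mem_iff hc0).1 hmem
        rcases IsMin.eq_or_disjoint hL hL' with h | h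
        · have hUeq : ∀ v ∈ U', v ∈ U := fun v hv => by
            have : e.ψ g⁻¹ v ∈ L := h ▸ ⟨v, hv, rfl⟩
            have h2 := hUgL _ this
            rwa [e.ψ_apply_inv] at h2
          obtain ⟨v, hv, hv0⟩ := Submodule.exists_mem_ne_zero_of_ne_bot hU'.1
          exact hv0 ((Submodule.eq_bot_iff _).1 hdis v ⟨hUeq v hv, hv⟩)
        · exact hp₀0 ((Submodule.eq_bot_iff _).1 h p₀ ⟨hp₀.2, hmem'⟩)
      rw [hc0, zero_smul, add_zero] at hgη
      exact hline' η ⟨hη, hgη ▸ hgηL'⟩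
  -- the transpose
  obtain ⟨f, hf⟩ : ∃ f : Module.End K V, ∀ (θ : Dual K V) v, b θ v = θ (f v) := by
    refine ⟨(Module.evalEquiv K V).symm.toLinearMap ∘ₗ b.dualMap ∘ₗ (Module.evalEquiv K V).toLinearMap,
      fun θ v => ?_⟩
    rw [LinearMap.comp_apply, LinearMap.comp_apply, LinearEquiv.coe_coe, LinearEquiv.coe_coe,
      Module.apply_evalEquiv_symm_apply]
    rfl
  set π := (U.dualCoannihilator).mkQ ∘ₗ f
  have hπ : ∀ r : ↥(⁅(⊤ : Subgroup T), (⊤ : Subgroup T)⁆ : Subgroup T), ∀ v,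
      π (d.ψ r v) = (H.derLeft.quot U.dualCoannihilator hN hNψ).ψ r (π v) := by
    intro r v
    show Submodule.Quotient.mk (f (d.ψ r v)) = Submodule.Quotient.mk (d.ψ r (f v))
    rw [Submodule.Quotient.eq, Submodule.mem_dualCoannihilator]
    intro θ hθ
    rw [map_sub, ← hf, sub_eq_zero]
    have h1 := LinearMap.congr_fun (hbR _ (inv_mem r.2) θ hθ) v
    rw [he, dual_ψ, inv_inv, hf, dual_ψ, inv_inv] at h1
    exact h1.symm
  rw [← ((⁅(⊤ : Subgroup T), (⊤ : Subgroup T)⁆ : Subgroup T)).range_subtype, ← d.chain_comp_top] at hY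
  refine chain_eq_bot_of_surjective (ψ' := (H.derLeft.quot U.dualCoannihilator hN hNψ).ψ) π
    (fun r _ v => hπ r v) ?_ hY
  intro x hx
  by_contra hxY
  obtain ⟨θ, hθx, hθ⟩ := Submodule.exists_dual_map_eq_bot_of_notMem hxY inferInstance
  have hθ' : ∀ y, p₀ y = 0 → b (θ.comp (U.dualCoannihilator).mkQ) (d.ψ g y - y) = 0 := fun y hy => by
    rw [hf]
    exact (Submodule.eq_bot_iff _).1 hθ _ ⟨_, ⟨_, mem_mcomm (Subgroup.mem_top g)
      (LinearMap.mem_ker.2 hy), rfl⟩, rfl⟩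
  obtain ⟨r, hr⟩ := hann _ (hbmem _) hθ'
  have h1 : θ.comp (U.dualCoannihilator).mkQ = (r / r₀) • φ := by
    refine sub_eq_zero.1 (hbinj _ (U.sub_mem (hmemU θ) (U.smul_mem _ hφU)) ?_)
    rw [map_sub, map_smul, hr, hr₀, smul_smul, div_mul_cancel₀ _ hr₀0, sub_self]
  have h2 : θ = (r / r₀) • φb := Submodule.linearMap_qext _ h1
  rw [h2, LinearMap.smul_apply, show φb x = 0 from hx, smul_zero] at hθx
  exact hθx rfl

end Weil

end CfsgLib.FGS74.Dlen
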