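import Cfsg.Agent.FGS74.Dlen.Swap

/-!
# Counting with a commutator of order four, and fixed covectors of two halves
-/

set_option autoImplicit false
set_option linter.style.haveILetI false

open Module
open scoped commutatorElement

namespace CfsgLib.FGS74.Dlen

open CfsgLib.FGS74.Bry CfsgLib.FGS74.GrossLen

universe u v w x y

namespace Weil

variable {K : Type u} [Field K] {V : Type v} [AddCommGroup V] [Module K V] {M : Type w}
  [CommGroup M] {T : Type x} [Group T] (d : Weil K V M T)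

/-- The fixed covectors. -/
def fixCov : Submodule K (Dual K V) where
  carrier := {η | ∀ t v, η (d.ψ t v) = η v}
  zero_mem' := fun _ _ => rfl
  add_mem' := fun {a b} ha hb t v => by rw [LinearMap.add_apply, LinearMap.add_apply, ha t v, hb t v]
  smul_mem' := fun c a ha t v => by rw [LinearMap.smul_apply, LinearMap.smul_apply, ha t v]

theorem finrank_fixCov_le_one [FiniteDimensional K V] {k : ℕ} (hF : d.Fail k)
    (hne : chain d.ψ ⊤ k ⊤ ≠ ⊥) : finrank K d.fixCov ≤ 1 := by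
  by_contra! hlt
  haveI : Nontrivial d.fixCov := Module.nontrivial_of_finrank_pos (R := K) (by omega)
  obtain ⟨⟨φ, hφ⟩, hφ0⟩ := exists_ne (0 : d.fixCov)
  have hφ0' : φ ≠ 0 := fun h => hφ0 (Subtype.ext h)
  obtain ⟨φ', hφ', hne'⟩ : ∃ φ' ∈ d.fixCov, φ' ∉ Submodule.span K {φ} := by
    by_contra! hall
    have := Submodule.finrank_mono (show d.fixCov ≤ Submodule.span K {φ} from hall)
    rw [finrank_span_singleton hφ0'] at this
    omega
  exact hne (d.chain_of_two hF hφ hφ' hφ0' fun r h =>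
    hne' (h ▸ Submodule.smul_mem _ r (Submodule.mem_span_singleton_self φ)))

/-- The codimension of the first term of a chain on the kernel of a fixed covector. -/
theorem finrank_le_mcomm [FiniteDimensional K V] {φ : Dual K V} (hφ0 : φ ≠ 0)
    (hφ : ∀ t v, φ (d.ψ t v) = φ v) (s : Finset T)
    (hs : Subgroup.closure (s : Set T) ⊔ ⁅(⊤ : Subgroup T), (⊤ : Subgroup T)⁆ = ⊤) :
    finrank K V ≤ finrank K (mcomm d.ψ ⊤ (LinearMap.ker φ)) + (finrank K d.fixCov + s.card) := by
  classical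
  set Y := mcomm d.ψ ⊤ (LinearMap.ker φ) with hY
  have hA : ∀ η ∈ Y.dualAnnihilator, ∀ t, ∃ c : K, ∀ v, η (d.ψ t v) = η v + c * φ v := by
    intro η hη t
    obtain ⟨c, hc⟩ := exists_smul_of_ker_le (ζ := η.comp (d.ψ t) - η) hφ0 fun y hy => by
      rw [LinearMap.sub_apply, LinearMap.comp_apply, ← map_sub]
      exact (Submodule.mem_dualAnnihilator η).1 hη _
        (mem_mcomm (Subgroup.mem_top t) (LinearMap.mem_ker.2 hy))
    exact ⟨c, fun v => by
      have h := LinearMap.congr_fun hc v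
      rw [LinearMap.sub_apply, LinearMap.comp_apply, LinearMap.smul_apply, sub_eq_iff_eq_add] at h
      rw [h, smul_eq_mul, add_comm]⟩
  obtain ⟨w, hw⟩ : ∃ w, φ w = 1 := by
    obtain ⟨w, hw⟩ : ∃ w, φ w ≠ 0 := by
      by_contra! h'
      exact hφ0 (LinearMap.ext h')
    exact ⟨(φ w)⁻¹ • w, by rw [map_smul, smul_eq_mul, inv_mul_cancel₀ hw]⟩
  let Φ : Y.dualAnnihilator →ₗ[K] (s → K) :=
    { toFun := fun η t => (η : Dual K V) (d.ψ t w - w)
      map_add' := fun a b => rfl
      map_smul' := fun c a => rfl }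
  have hker : ∀ η : Y.dualAnnihilator, η ∈ LinearMap.ker Φ → (η : Dual K V) ∈ d.fixCov := by
    intro η hη
    let St : Subgroup T :=
      { carrier := {t | ∀ v, (η : Dual K V) (d.ψ t v) = (η : Dual K V) v}
        one_mem' := fun v => by rw [map_one, Module.End.one_apply]
        mul_mem' := fun {a b} ha hb v => by rw [map_mul, Module.End.mul_apply, ha, hb]
        inv_mem' := fun {a} ha v => by
          rw [← ha (d.ψ a⁻¹ v), d.ψ_apply_inv] }
    have hgen : Subgroup.closure (s : Set T) ≤ St := (Subgroup.closure_le _).2 fun t ht v => by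
      obtain ⟨c, hc⟩ := hA _ η.2 t
      have h0 : Φ η ⟨t, ht⟩ = 0 := congrFun (LinearMap.mem_ker.1 hη) _
      change (η : Dual K V) (d.ψ t w - w) = 0 at h0
      rw [map_sub, hc, hw, mul_one, add_sub_cancel_left] at h0
      rw [hc, h0, zero_mul, add_zero]
    have hcomm : ⁅(⊤ : Subgroup T), (⊤ : Subgroup T)⁆ ≤ St := Subgroup.commutator_le.2 fun a _ b _ v => by
      obtain ⟨x, hx⟩ : ∃ x, d.ψ (b * a) x = v := ⟨d.ψ (b * a)⁻¹ v, d.ψ_apply_inv _ _⟩
      obtain ⟨ca, hca⟩ := hA _ η.2 a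
      obtain ⟨cb, hcb⟩ := hA _ η.2 b
      rw [← hx, ← Module.End.mul_apply, ← map_mul, show ⁅a, b⁆ * (b * a) = a * b by
        rw [commutatorElement_def]; group, map_mul, map_mul, Module.End.mul_apply, Module.End.mul_apply,
        hca, hcb, hcb, hca, hφ, hφ]
      ring
    have htop := hs ▸ sup_le hgen hcomm
    exact fun t => htop (Subgroup.mem_top t)
  let j : LinearMap.ker Φ →ₗ[K] d.fixCov :=
    { toFun := fun η => ⟨η.1.1, hker η.1 η.2⟩
      map_add' := fun a b => rfl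
      map_smul' := fun c a => rfl }
  have h1 := LinearMap.finrank_le_finrank_of_injective (f := j)
    fun a b h => Subtype.ext (Subtype.ext (congrArg (fun x : d.fixCov => (x : Dual K V)) h))
  have h2 := LinearMap.finrank_range_add_finrank_ker (K := K) (V := ↥Y.dualAnnihilator) (V₂ := ↥s → K) Φ
  have h3 := Submodule.finrank_le (LinearMap.range Φ)
  rw [Module.finrank_pi, Fintype.card_coe] at h3
  have h4 := Subspace.finrank_add_finrank_dualAnnihilator_eq Y
  omega

/-- The inequality from a commutator squaring into the second derived subgroup. -/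
theorem rank_tool [CharP K 2] [Nontrivial V] [FiniteDimensional K V] (hF : d.Fail 3) {φ : Dual K V}
    (hφ0 : φ ≠ 0) (hφ : ∀ t v, φ (d.ψ t v) = φ v) {h : T}
    (hh : h ∈ ⁅(⊤ : Subgroup T), (⊤ : Subgroup T)⁆) (hhh : h * h ∈ der (⊤ : Subgroup T) 2)
    (s : Finset T) (hs : Subgroup.closure (s : Set T) ⊔ ⁅(⊤ : Subgroup T), (⊤ : Subgroup T)⁆ = ⊤) :
    3 * rk (d.ψ (h * h) - 1) 1 ≤ finrank K V + 2 * (finrank K d.fixCov + s.card) := by
  have h3 := hF φ hφ0 hφ
  rw [chain_succ, chain_succ] at h3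
  set N := d.ψ h - 1
  have hN2 : N ^ 2 = d.ψ (h * h) - 1 := by
    have := ψ_pow_sub d.ψ h 1
    rw [pow_one, pow_two h] at this
    exact this
  set W₁ := mcomm d.ψ ⊤ (LinearMap.ker φ)
  have hker : ∀ v ∈ W₁, (N ^ 3) v = 0 := fun v hv => by
    have h5 := chain_one_eq_bot_iff.1 h3 _ hhh _ (mem_mcomm (ψ := d.ψ) hh hv)
    rw [pow_succ, hN2, Module.End.mul_apply, LinearMap.sub_apply, Module.End.one_apply]
    exact sub_eq_zero.2 h5
  have hrk : rk N 3 ≤ finrank K d.fixCov + s.card := by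
    have h5 := (N ^ 3).finrank_range_add_finrank_ker
    have h6 : finrank K W₁ ≤ finrank K (LinearMap.ker (N ^ 3)) :=
      Submodule.finrank_mono fun v hv => LinearMap.mem_ker.2 (hker v hv)
    have h7 : finrank K V ≤ finrank K W₁ + (finrank K d.fixCov + s.card) :=
      d.finrank_le_mcomm hφ0 hφ s hs
    rw [rk]
    omega
  have h8 := rk_bound N (a := 2) (L := 3) (by norm_num) hrk
  rw [← hN2, show rk (N ^ 2) 1 = rk N 2 by rw [rk, rk, pow_one]]
  omega

/-- Generators modulo a subgroup. -/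
theorem exists_generators [Finite T] (N : Subgroup T) :
    ∃ s : Finset T, Subgroup.closure (s : Set T) ⊔ N = ⊤ ∧ 2 ^ s.card * Nat.card N ≤ Nat.card T := by
  classical
  have key : ∀ (j : ℕ) (A : Subgroup T), Nat.card T ≤ Nat.card A + j →
      ∃ s : Finset T, Subgroup.closure (s : Set T) ⊔ A = ⊤ ∧ 2 ^ s.card * Nat.card A ≤ Nat.card T := by
    intro j
    induction j with
    | zero =>
      intro A hA
      refine ⟨∅, ?_, by simpa using A.card_le_card_group⟩
      rw [Subgroup.eq_top_of_le_card A (by simpa using hA), sup_top_eq]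
    | succ j ih =>
      intro A hA
      by_cases htop : A = ⊤
      · exact ⟨∅, by rw [htop, sup_top_eq], by simpa using A.card_le_card_group⟩
      obtain ⟨g, hg⟩ : ∃ g, g ∉ A := by
        by_contra! h
        exact htop ((Subgroup.eq_top_iff' A).2 h)
      set A' := A ⊔ Subgroup.zpowers g
      have hlt : A < A' := left_lt_sup.2 fun h => hg (h (Subgroup.mem_zpowers g))
      have hc := Set.Finite.card_lt_card (Set.toFinite _) (SetLike.coe_ssubset_coe.2 hlt)
      obtain ⟨k, hk⟩ := Subgroup.card_dvd_of_le hlt.le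
      have h2 : 2 * Nat.card A ≤ Nat.card A' := by
        rw [hk, mul_comm 2]
        refine Nat.mul_le_mul_left _ (?_ : 2 ≤ k)
        rcases k with _ | _ | k
        · rw [Nat.mul_zero] at hk
          exact absurd hk Nat.card_pos.ne'
        · rw [Nat.mul_one] at hk
          exact absurd hk (ne_of_gt hc)
        · omega
      obtain ⟨s, hs, hcard⟩ := ih A' (by
        have : Nat.card A < Nat.card A' := hc
        omega)
      refine ⟨insert g s, ?_, ?_⟩
      · rw [← top_le_iff, ← hs, Finset.coe_insert]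
        refine sup_le (le_sup_of_le_left (Subgroup.closure_mono (Set.subset_insert _ _))) ?_
        exact sup_le le_sup_right (le_sup_of_le_left
          (Subgroup.zpowers_le.2 (Subgroup.subset_closure (Set.mem_insert _ _))))
      · calc 2 ^ (insert g s).card * Nat.card A ≤ 2 ^ (s.card + 1) * Nat.card A :=
              Nat.mul_le_mul_right _ (Nat.pow_le_pow_right two_pos (Finset.card_insert_le g s))
          _ = 2 ^ s.card * (2 * Nat.card A) := by rw [pow_succ, mul_assoc]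
          _ ≤ 2 ^ s.card * Nat.card A' := Nat.mul_le_mul_left _ h2
          _ ≤ _ := hcard
  exact key (Nat.card T) N (Nat.le_add_left _ _)

section Halves

variable {d} {W W' : Subgroup M} {S : Subgroup T} {g : T} (H : d.Halves W W' S g)
variable [CharP K 2] [IsAlgClosed K] [FiniteDimensional K V] [Finite M]
include H

/-- The fixed covectors restrict faithfully to a minimal subspace. -/
theorem Halves.fixCov_le [Nontrivial V] [Finite T] (hT : IsPGroup 2 T) (hs : d.Simple)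
    {U : Submodule K (Dual K V)} (hU : H.dualLeft.IsMin U)
    (hUS : ∀ s : S, ∀ v ∈ U, d.dual.ψ s v ∈ U)
    (huniq : ∀ η ∈ U, (∀ r ∈ ⁅(⊤ : Subgroup T), (⊤ : Subgroup T)⁆, d.dual.ψ r η = η) →
      ∀ p ∈ U, p ≠ 0 → (∀ r ∈ ⁅(⊤ : Subgroup T), (⊤ : Subgroup T)⁆, d.dual.ψ r p = p) →
      ∃ c : K, η = c • p) :
    finrank K d.fixCov * finrank K d.fixCov ≤ Nat.card W' ∧
    ∀ (u : T), (∀ a ∈ W, d.σ u a = a) → (∀ a ∈ W', d.σ u a = a⁻¹) →
      2 * finrank K d.fixCov ≤ finrank K U + 1 := by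
  classical
  haveI := Fintype.ofFinite M
  haveI : Fintype W' := Fintype.ofFinite _
  set e := d.dual
  set L := U.map (e.ψ g)
  have hL : H.dualRight.IsMin L := H.min_right hU (fun a ha => H.mapR' ha) H.mapL
  have hse : e.Simple := d.simple_dual hs
  have hcL : ∀ X : Submodule K V, ∀ hX : (d.restrict (1 : Unit →* T) W' (fun _ a ha => by
      show d.σ 1 a ∈ W'
      rw [map_one]; exact ha) fun _ ha hk => H.orth.symm.nd ha hk).IsMin X,
      finrank K X * finrank K X = Nat.card W' := fun X hX => by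
    rw [finrank_isMin _ hX, Nat.card_eq_fintype_card]
  obtain ⟨p₀, hp₀, hp₀0, hline₀⟩ := H.orth.dual.line hse hU hL
  have hp₀R : ∀ r ∈ ⁅(⊤ : Subgroup T), (⊤ : Subgroup T)⁆, e.ψ r p₀ = p₀ := by
    intro r hr
    have hrS := H.commutator_le hr
    obtain ⟨c, hc⟩ := hline₀ (e.ψ r p₀) ⟨hUS ⟨r, hrS⟩ _ hp₀.1, by
      obtain ⟨u, hu, hu'⟩ := hp₀.2
      refine ⟨e.ψ (g⁻¹ * r * g) u, hUS ⟨_, H.conj r hrS⟩ u hu, ?_⟩
      rw [← hu', ← Module.End.mul_apply, ← Module.End.mul_apply, ← map_mul, ← map_mul]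
      congr 2; group⟩
    obtain ⟨m, hm⟩ := hT r
    exact fixed_of_line hm hp₀0 hc
  -- a minimal subspace outside the kernel
  set d₂ := d.restrict (1 : Unit →* T) W' (fun _ a ha => by
      show d.σ 1 a ∈ W'
      rw [map_one]; exact ha) fun _ ha hk => H.orth.symm.nd ha hk
  obtain ⟨Z, hZ⟩ := exists_minimal_of_wellFoundedLT
    (fun Z : Submodule K V => d₂.Inv Z ∧ ∃ v ∈ Z, p₀ v ≠ 0) ⟨⊤, fun _ _ _ => trivial, by
      by_contra! h
      exact hp₀0 (LinearMap.ext fun v => h v trivial)⟩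
  obtain ⟨hZi, z₀, hz₀, hz₀'⟩ := hZ.prop
  have hZmin : d₂.IsMin Z := by
    refine ⟨fun hb => hz₀' (by rw [(Submodule.eq_bot_iff _).1 hb z₀ hz₀, map_zero]), hZi,
      fun Z' h1 h2 h3 => le_antisymm h1 ?_⟩
    by_cases hp : ∃ v ∈ Z', p₀ v ≠ 0
    · exact hZ.2 ⟨h2, hp⟩ h1
    push Not at hp
    obtain ⟨P, hPc, hPmem, hPid⟩ := d₂.exists_proj d₂.card_ne_zero h2
    have hkinv : d₂.Inv (Z ⊓ LinearMap.ker P) := fun a v hv => ⟨hZi a v hv.1, by
      show P (d₂.ρ a v) = 0
      rw [← Module.End.mul_apply, ← hPc, Module.End.mul_apply, show P v = 0 from hv.2, map_zero]⟩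
    have hle : Z ≤ Z ⊓ LinearMap.ker P := hZ.2 ⟨hkinv, z₀ - P z₀, ⟨Z.sub_mem hz₀ (h1 (hPmem _)), by
      show P (z₀ - P z₀) = 0
      rw [map_sub, hPid _ (hPmem _), sub_self]⟩, by
      rw [map_sub, hp _ (hPmem _), sub_zero]; exact hz₀'⟩ inf_le_left
    refine absurd ((Submodule.eq_bot_iff _).2 fun v hv => ?_) h3
    rw [← hPid v hv]
    exact (hle (h1 hv)).2
  -- the translates fill `V`
  have hfill : ∀ η : Dual K V, (∀ r ∈ ⁅(⊤ : Subgroup T), (⊤ : Subgroup T)⁆, ∀ v ∈ Z,
      η (d.ψ r v) = 0) → η = 0 := by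
    let A : Submodule K (Dual K V) :=
      ⨅ (r : ↥⁅(⊤ : Subgroup T), (⊤ : Subgroup T)⁆), ((Z.map (d.ψ r)).dualAnnihilator)
    intro η hη
    have hmem : η ∈ A := by
      simp only [A, Submodule.mem_iInf, Submodule.mem_dualAnnihilator]
      rintro r _ ⟨v, hv, rfl⟩
      exact hη r r.2 v hv
    by_contra hη0
    have hA0 : A ≠ ⊥ := fun hb => hη0 ((Submodule.eq_bot_iff _).1 hb η hmem)
    let e₂ := e.restrict (⁅(⊤ : Subgroup T), (⊤ : Subgroup T)⁆).subtype W'
      (fun t a ha => H.right ⟨t, H.commutator_le t.2⟩ a ha) fun _ ha hk => H.orth.dual.symm.nd ha hk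
    have hAρ : e₂.Inv A := by
      intro a ζ hζ
      simp only [A, Submodule.mem_iInf, Submodule.mem_dualAnnihilator] at hζ ⊢
      rintro r _ ⟨v, hv, rfl⟩
      show e.ρ a ζ (d.ψ r v) = 0
      rw [show e.ρ a ζ (d.ψ r v) = ζ (d.ρi a (d.ψ r v)) from rfl]
      obtain ⟨c₁, hc₁⟩ := d.ρi_eq a
      obtain ⟨c₂, hc₂0, hc₂⟩ := d.equiv r (d.σ (r : T)⁻¹ (a : M)⁻¹)
      rw [d.σ_apply_inv] at hc₂
      have h5 := LinearMap.congr_fun hc₂ v
      rw [Module.End.mul_apply, LinearMap.smul_apply, Module.End.mul_apply] at h5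
      have h6 : d.ρ (a : M)⁻¹ (d.ψ r v) = c₂⁻¹ • d.ψ r (d.ρ (d.σ (r : T)⁻¹ (a : M)⁻¹) v) := by
        rw [h5, inv_smul_smul₀ hc₂0]
      have hz : ζ (d.ψ r (d.ρ (d.σ (r : T)⁻¹ (a : M)⁻¹) v)) = 0 :=
        hζ r _ ⟨_, hZi ⟨_, H.right ⟨_, H.commutator_le (inv_mem r.2)⟩ _ (inv_mem a.2)⟩ v hv, rfl⟩
      rw [hc₁, LinearMap.smul_apply, h6, map_smul, map_smul, hz, smul_zero, smul_zero]
    have hAψ : ∀ t, ∀ ζ ∈ A, e₂.ψ t ζ ∈ A := by
      intro t ζ hζ
      simp only [A, Submodule.mem_iInf, Submodule.mem_dualAnnihilator] at hζ ⊢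
      rintro r _ ⟨v, hv, rfl⟩
      show ζ (d.ψ (t : T)⁻¹ (d.ψ r v)) = 0
      rw [← Module.End.mul_apply, ← map_mul]
      exact hζ ⟨_, mul_mem (inv_mem t.2) r.2⟩ _ ⟨v, hv, rfl⟩
    haveI : Nontrivial (Dual K V) := nontrivial_of_ne η 0 hη0
    obtain ⟨L'', hL'', hL''A, hL''R⟩ := e₂.exists_min_invariant A hA0 hAρ ⊤
      ((hT.to_subgroup _).to_subgroup ⊤) fun t _ => hAψ t
    obtain ⟨q, hq, hq0, hlineq⟩ := H.orth.dual.line hse hU
      (show H.dualRight.IsMin L'' from hL'')
    have hqR : ∀ r ∈ ⁅(⊤ : Subgroup T), (⊤ : Subgroup T)⁆, e.ψ r q = q := by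
      intro r hr
      obtain ⟨c, hc⟩ := hlineq (e.ψ r q) ⟨hUS ⟨r, H.commutator_le hr⟩ q hq.1,
        hL''R ⟨r, hr⟩ trivial q hq.2⟩
      obtain ⟨m, hm⟩ := hT r
      exact fixed_of_line hm hq0 hc
    obtain ⟨c, hc⟩ := huniq p₀ hp₀.1 hp₀R q hq.1 hq0 hqR
    have hqA := hL''A hq.2
    simp only [A, Submodule.mem_iInf, Submodule.mem_dualAnnihilator] at hqA
    exact hz₀' (by
      rw [hc, LinearMap.smul_apply, hqA ⟨1, one_mem _⟩ z₀ ⟨z₀, hz₀, by simp⟩, smul_zero])
  let res : d.fixCov →ₗ[K] Dual K Z := Z.dualRestrict ∘ₗ d.fixCov.subtype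
  have hres : Function.Injective res := by
    intro η η' hηη'
    refine Subtype.ext (sub_eq_zero.1 (hfill _ fun r _ v hv => ?_))
    rw [LinearMap.sub_apply, η.2 r v, η'.2 r v, sub_eq_zero]
    exact LinearMap.congr_fun hηη' ⟨v, hv⟩
  have hZc := hcL Z hZmin
  have h1 := LinearMap.finrank_le_finrank_of_injective hres
  rw [Subspace.dual_finrank_eq] at h1
  refine ⟨hZc ▸ Nat.mul_le_mul h1 h1, fun u hu hu' => ?_⟩
  -- an element trivial on `W`
  have hcu : ∀ a ∈ W, d.ρ a * d.ψ u = d.ψ u * d.ρ a := fun a ha => (d.commute_of_fix hT (hu a ha)).symm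
  have huZ : ∀ v ∈ Z, d.ψ u v ∈ Z := fun v hv =>
    H.orth.mem_of_commute hs hcu (fun a ha w hw => hZi ⟨a, ha⟩ w hw) hv
  have hupow : ∀ j : ℕ, ∀ a ∈ W', (d.σ u ^ j) a ∈ W' := by
    intro j
    induction j with
    | zero => exact fun a ha => ha
    | succ j ihj =>
      intro a ha
      rw [pow_succ', MulAut.mul_apply, hu' _ (ihj a ha)]
      exact W'.inv_mem (ihj a ha)
  have hpres : ∀ t : Subgroup.zpowers u, ∀ a ∈ W', d.σ (t : T) a ∈ W' := by
    intro t a ha
    obtain ⟨j, hj⟩ := (isOfFinOrder_of_finite u).mem_powers_iff_mem_zpowers.2 t.2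
    rw [← show u ^ j = (t : T) from hj, map_pow]
    exact hupow j a ha
  let d₃ := d.restrict (Subgroup.zpowers u).subtype W' hpres fun _ ha hk => H.orth.symm.nd ha hk
  have huZ' : ∀ t, ∀ v ∈ Z, d₃.ψ t v ∈ Z := fun t v hv => by
    have hle : Subgroup.zpowers u ≤
        ({ carrier := {t | ∀ v ∈ Z, d.ψ t v ∈ Z}
           one_mem' := fun v hv => by rw [map_one]; exact hv
           mul_mem' := fun {a b} ha hb v hv => by rw [map_mul]; exact ha _ (hb v hv)
           inv_mem' := fun {a} ha v hv => by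
             obtain ⟨m, hm⟩ := hT a
             have : ∀ j : ℕ, ∀ v ∈ Z, d.ψ (a ^ j) v ∈ Z := fun j => by
               induction j with
               | zero => exact fun v hv => by rw [pow_zero, map_one]; exact hv
               | succ j ihj => exact fun v hv => by rw [pow_succ', map_mul]; exact ha _ (ihj v hv)
             rw [show a⁻¹ = a ^ (2 ^ m - 1) from inv_eq_of_mul_eq_one_right (by
               rw [← pow_succ', Nat.sub_add_cancel Nat.one_le_two_pow, hm])]
             exact this _ v hv } : Subgroup T) := Subgroup.zpowers_le.2 huZ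
    exact hle t.2 v hv
  have hZ3 : d₃.IsMin Z := hZmin
  haveI : Nontrivial Z := Submodule.nontrivial_iff_ne_bot.2 hZmin.1
  have hrank := (d₃.sub Z hZ3.2.1 huZ').rank_inverting (d₃.simple_sub hZ3 huZ')
    (z := ⟨u, Subgroup.mem_zpowers u⟩) (fun a => Subtype.ext (hu' a a.2)) (hT.to_subgroup _)
  set N := (d₃.sub Z hZ3.2.1 huZ').ψ ⟨u, Subgroup.mem_zpowers u⟩ - 1
  have hle : LinearMap.range res ≤ (LinearMap.range N).dualAnnihilator := by
    rintro _ ⟨η, rfl⟩
    rw [Submodule.mem_dualAnnihilator]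
    rintro _ ⟨v, rfl⟩
    rw [LinearMap.sub_apply, map_sub, sub_eq_zero]
    exact η.2 u v.1
  have h2 := Submodule.finrank_mono hle
  rw [LinearMap.finrank_range_of_inj hres] at h2
  have h3 := Subspace.finrank_add_finrank_dualAnnihilator_eq (LinearMap.range N)
  rw [rk, pow_one] at hrank
  have hUc : finrank K U = finrank K Z := by
    haveI : Fintype W := Fintype.ofFinite _
    have hh := finrank_isMin H.dualRight hL
    rw [← Nat.card_eq_fintype_card, ← hZc] at hh
    have he : finrank K U = finrank K L := LinearEquiv.finrank_eq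
      (Submodule.equivMapOfInjective _ (Function.LeftInverse.injective (e.ψ_inv_apply g)) U)
    rw [he]
    exact Nat.mul_self_inj.1 hh
  omega

end Halves

end Weil

end CfsgLib.FGS74.Dlen
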