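import Cfsg.Agent.FGS74.Dlen.Tool
import Cfsg.Agent.FGS74.Dlen.Group

/-!
# Two-groups of isometries acting freely, and chains of length two
-/

set_option autoImplicit false
set_option linter.style.haveILetI false

open Module
open scoped commutatorElement

namespace CfsgLib.FGS74.Dlen

open CfsgLib.FGS74.Bry CfsgLib.FGS74.GrossLen

universe u v w x y

section Iso

variable {M : Type w} [CommGroup M] [Finite M] {U : Type y} [CommGroup U] {B : M →* M →* U}
  (hB : Form B)
include hB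

theorem fix_nd_of_form {σ : MulAut M} (hi : σ ∈ isom B) {s : ℕ} (hσ : σ ^ 2 ^ s = 1) {a : M}
    (ha : σ a = a) (h : ∀ k, σ k = k → B k a = 1) : a = 1 := by
  refine hB.nd a fun m => ?_
  let Nm : M := ∏ i ∈ Finset.range (2 ^ s), (σ ^ i) m
  have hN : σ Nm = Nm := by
    have h1 := Finset.prod_range_succ' (fun i => (σ ^ i) m) (2 ^ s)
    rw [Finset.prod_range_succ, hσ, pow_zero] at h1
    rw [map_prod]
    refine Eq.trans (Finset.prod_congr rfl fun i _ => ?_) (mul_right_cancel h1).symm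
    rw [pow_succ', MulAut.mul_apply]
  have hpow : ∀ i : ℕ, B ((σ ^ i) m) a = B m a := by
    intro i
    induction i with
    | zero => simp
    | succ i ih =>
      rw [pow_succ', MulAut.mul_apply]
      nth_rw 1 [← ha]
      rw [hi, ih]
  have h2 : B m a ^ 2 ^ s = 1 := by
    have h3 := h Nm hN
    simp only [Nm, map_prod, MonoidHom.finsetProd_apply, hpow, Finset.prod_const,
      Finset.card_range] at h3
    exact h3
  have h4 : B m a ^ Nat.card M = 1 := by rw [← map_pow, pow_card_eq_one', map_one]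
  exact orderOf_eq_one_iff.1 (Nat.eq_one_of_dvd_coprimes
    ((Nat.coprime_two_left.2 (Form.odd hB)).pow_left s)
    (orderOf_dvd_of_pow_eq_one h2) (orderOf_dvd_of_pow_eq_one h4))

/-- An isometry of two-power order of a group of order a prime squared fixes only the identity. -/
theorem free_of_prime_sq {q : ℕ} (hq : q.Prime) (hM : Nat.card M = q * q) {σ : MulAut M}
    (hi : σ ∈ isom B) {s : ℕ} (hσ : σ ^ 2 ^ s = 1) (hne : σ ≠ 1) {a : M} (ha : σ a = a) : a = 1 := by
  haveI := Fact.mk hq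
  by_contra ha1
  let F : Subgroup M := σ.toMonoidHom.eqLocus (MonoidHom.id M)
  have hd : Nat.card F ∣ q ^ 2 := by
    rw [pow_two, ← hM]; exact F.card_subgroup_dvd_card
  obtain ⟨j, hj, hFj⟩ := (Nat.dvd_prime_pow hq).1 hd
  interval_cases j
  · rw [pow_zero] at hFj
    exact ha1 (Subgroup.mem_bot.1 (Subgroup.eq_bot_of_card_eq F hFj ▸ (show a ∈ F from ha)))
  · rw [pow_one] at hFj
    haveI : IsCyclic F := isCyclic_of_prime_card hFj
    exact ha1 (fix_nd_of_form hB hi hσ ha fun k hk => hB.cyclic_iso (P := F) hk ha)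
  · have hF : F = ⊤ := Subgroup.eq_top_of_card_eq F (by rw [hFj, hM, pow_two])
    exact hne (MulEquiv.ext fun m => (hF.ge (Subgroup.mem_top m) :))

omit hB in
/-- A group acting freely has order dividing the number of nontrivial elements. -/
theorem card_dvd_of_free (P : Subgroup (MulAut M))
    (h : ∀ σ ∈ P, σ ≠ 1 → ∀ a, σ a = a → a = 1) : Nat.card P ∣ Nat.card M - 1 := by
  classical
  haveI : Finite (MulAut M) :=
    Finite.of_injective (fun g : MulAut M => (g : M → M)) DFunLike.coe_injective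
  haveI := Fintype.ofFinite P
  haveI := Fintype.ofFinite M
  let X := {m : M // m ≠ 1}
  letI : MulAction P X :=
    { smul := fun σ m => ⟨(σ : MulAut M) m, fun e => m.2 ((σ : MulAut M).injective (by rw [e, map_one]))⟩
      one_smul := fun m => rfl
      mul_smul := fun σ τ m => rfl }
  haveI : ∀ σ : P, Fintype (MulAction.fixedBy X σ) := fun σ => Fintype.ofFinite _
  haveI := Fintype.ofFinite (Quotient (MulAction.orbitRel P X))
  have hburn := MulAction.sum_card_fixedBy_eq_card_orbits_mul_card_group P X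
  rw [Finset.sum_eq_single (1 : P) (fun σ _ hσ => by
      rw [Fintype.card_eq_zero_iff]
      exact ⟨fun m => m.1.2 (h σ σ.2 (fun e => hσ (Subtype.ext e)) _
        (congrArg Subtype.val (m.2 : σ • m.1 = m.1)))⟩)
    (fun h1 => absurd (Finset.mem_univ _) h1)] at hburn
  have hX : Fintype.card (MulAction.fixedBy X (1 : P)) = Nat.card M - 1 := by
    rw [← Nat.card_eq_fintype_card,
      show MulAction.fixedBy X (1 : P) = Set.univ from Set.eq_univ_of_forall fun m => one_smul P m,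
      Nat.card_congr (Equiv.Set.univ X), Nat.card_eq_fintype_card, Fintype.card_subtype_compl,
      Fintype.card_subtype_eq, Nat.card_eq_fintype_card]
  rw [← hX, hburn, Nat.card_eq_fintype_card]
  exact dvd_mul_left _ _

/-- Two-groups of isometries of a group of order a prime squared. -/
theorem card_le_of_prime_sq {q : ℕ} (hq : q.Prime) (hM : Nat.card M = q * q) {P : Subgroup (MulAut M)}
    (hP : IsPGroup 2 P) (hPi : P ≤ isom B) : Nat.card P ∣ q * q - 1 := by
  rw [← hM]
  refine card_dvd_of_free P fun σ hσ hne a ha => ?_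
  obtain ⟨s, hs⟩ := hP ⟨σ, hσ⟩
  exact free_of_prime_sq hB hq hM (hPi hσ) (congrArg Subtype.val hs :) hne ha

omit hB [Finite M] in
/-- An involution fixing only the identity inverts. -/
theorem inv_of_free_involution {σ : MulAut M} (hσ : σ * σ = 1)
    (h : ∀ a, σ a = a → a = 1) (a : M) : σ a = a⁻¹ := by
  have h1 : σ (a * σ a) = a * σ a := by
    rw [map_mul, ← MulAut.mul_apply, hσ, MulAut.one_apply, mul_comm]
  exact (inv_eq_of_mul_eq_one_right (h _ h1)).symm

end Iso

namespace Weil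

variable {K : Type u} [Field K] [CharP K 2] [IsAlgClosed K] {V : Type v} [AddCommGroup V] [Module K V]
  [Nontrivial V] [FiniteDimensional K V] {M : Type w} [CommGroup M] [Finite M] {T : Type x} [Group T]
  (d : Weil K V M T)

theorem same_involution {z t : T} (hz : d.σ z * d.σ z = 1) (ht : d.σ t * d.σ t = 1)
    (hc : Commute (d.σ z) (d.σ t)) (h1 : ∀ a, d.σ t a = a → d.σ z a = a)
    (h2 : ∀ a, d.σ z a = a → d.σ t a = a) : d.σ t = d.σ z := by
  refine MulEquiv.ext fun m => ?_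
  obtain ⟨c, w, hc', hw, rfl⟩ := d.form.split hz m
  have hw' : d.σ t w = w⁻¹ := by
    have hfix : d.σ t (w * d.σ t w) = w * d.σ t w := by
      rw [map_mul, ← MulAut.mul_apply, ht, MulAut.one_apply, mul_comm]
    have hzinv : d.σ z (w * d.σ t w) = (w * d.σ t w)⁻¹ := by
      rw [map_mul, show d.σ z (d.σ t w) = d.σ t (d.σ z w) from DFunLike.congr_fun hc.eq w,
        mem_mns.1 hw, map_inv, mul_inv_rev, mul_comm]
    exact (inv_eq_of_mul_eq_one_right (d.form.eq_one_of_fix_inv (h1 _ hfix) hzinv)).symm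
  rw [map_mul, map_mul, hc', h2 c hc', hw', mem_mns.1 hw]

set_option maxHeartbeats 800000 in
/-- Chains of length two: commutators are squares. -/
theorem exact_two (hT : IsPGroup 2 T) (hs : d.Simple) (h2 : chain d.ψ ⊤ 2 ⊤ = ⊥) (x g : T) :
    d.σ ⁅x, g⁆ = 1 ∨ d.σ ⁅x, g⁆ = d.σ x * d.σ x := by
  classical
  haveI := Fintype.ofFinite M
  have hfix : ∀ z ∈ ⁅(⊤ : Subgroup T), (⊤ : Subgroup T)⁆, ∀ t,
      d.ψ z * (d.ψ t - 1) = d.ψ t - 1 := fun z hz t => by
    have := sub_eq_zero_of_chain_two h2 hz (Subgroup.mem_top t)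
    rwa [sub_mul, one_mul, sub_eq_zero] at this
  have hσψ : ∀ t, d.ψ t = 1 → d.σ t = 1 := fun t h => MulEquiv.ext (d.σ_apply_of_ψ h)
  have hinv : ∀ z ∈ ⁅(⊤ : Subgroup T), (⊤ : Subgroup T)⁆, d.σ z * d.σ z = 1 := fun z hz => by
    rw [← map_mul]
    refine hσψ _ ?_
    have h := hfix z hz z
    rw [map_mul]
    have h' : (d.ψ z - 1) * (d.ψ z - 1) = 0 := by rw [sub_mul, h, one_mul, sub_self]
    haveI := charP_end (K := K) (V := V)
    rw [← pow_two, sub_pow_char_of_commute 2 (Commute.one_right _), one_pow, pow_two, sub_eq_zero] at h'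
    exact h'
  have hcomm : ∀ z ∈ ⁅(⊤ : Subgroup T), (⊤ : Subgroup T)⁆, ∀ z' ∈ ⁅(⊤ : Subgroup T), (⊤ : Subgroup T)⁆,
      Commute (d.σ z) (d.σ z') := fun z hz z' hz' => by
    have h1 := hfix z hz z'
    have h3 := hfix z' hz' z
    rw [mul_sub, mul_one, sub_eq_sub_iff_add_eq_add] at h1 h3
    have hψ : d.ψ (z * z') = d.ψ (z' * z) := by
      rw [map_mul, map_mul]
      exact add_right_cancel (h1.trans ((add_comm _ _).trans h3.symm))
    have h4 : d.σ (z * z' * (z' * z)⁻¹) = 1 := hσψ _ (by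
      rw [map_mul, hψ, ← map_mul, mul_inv_cancel, map_one])
    rw [map_mul, map_inv, mul_inv_eq_one, map_mul, map_mul] at h4
    exact h4
  have hψne : ∀ {t}, d.σ t ≠ 1 → d.ψ t ≠ 1 := fun {t} h h' => h (hσψ t h')
  have hsub : ∀ z ∈ ⁅(⊤ : Subgroup T), (⊤ : Subgroup T)⁆, ∀ t, d.σ t ≠ 1 →
      Commute (d.σ z) (d.σ t) → ∀ a, d.σ t a = a → d.σ z a = a := fun z hz t ht hc a ha =>
    d.eq_of_fix_image hT (hψne ht) (hfix z hz t) hc ha
  have heq : ∀ z ∈ ⁅(⊤ : Subgroup T), (⊤ : Subgroup T)⁆, ∀ z' ∈ ⁅(⊤ : Subgroup T), (⊤ : Subgroup T)⁆,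
      d.σ z ≠ 1 → d.σ z' ≠ 1 → d.σ z' = d.σ z := fun z hz z' hz' hne hne' =>
    d.same_involution (hinv z hz) (hinv z' hz') (hcomm z hz z' hz') (hsub z hz z' hne' (hcomm z hz z' hz'))
      (hsub z' hz' z hne (hcomm z' hz' z hz))
  by_cases h1 : d.σ ⁅x, g⁆ = 1
  · exact Or.inl h1
  right
  set z := ⁅x, g⁆ with hzdef
  have hz : z ∈ ⁅(⊤ : Subgroup T), (⊤ : Subgroup T)⁆ := Subgroup.commutator_mem_commutator trivial trivial
  have hcen : ∀ t, Commute (d.σ z) (d.σ t) := fun t => by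
    have hm := (Subgroup.commutator_normal (⊤ : Subgroup T) ⊤).conj_mem z hz t
    have hne : d.σ (t * z * t⁻¹) ≠ 1 := fun h => h1 (by
      rw [map_mul, map_mul, map_inv, mul_inv_eq_one, mul_eq_left] at h; exact h)
    have := heq z hz _ hm h1 hne
    rw [map_mul, map_mul, map_inv, mul_inv_eq_iff_eq_mul] at this
    exact this.symm
  have hx1 : d.σ x ≠ 1 := fun h => h1 (by rw [hzdef, map_commutatorElement, h, commutatorElement_one_left])
  have hψzx : d.ψ z * d.ψ x = d.ψ x * d.ψ z := by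
    rw [← map_mul, ← map_mul]
    exact d.ψ_congr hT hs (by rw [map_mul, map_mul]; exact (hcen x).eq)
  have hsub2 : ∀ a, d.σ z a = a → d.σ x a = a := fun a ha => by
    refine d.eq_of_fix_image hT (hψne h1) ?_ (hcen x).symm ha
    have h := hfix z hz x
    rw [mul_sub, mul_one, sub_eq_sub_iff_add_eq_add] at h
    rw [mul_sub, mul_one, sub_eq_sub_iff_add_eq_add, ← hψzx, h, add_comm]
  have hpow2 : ∀ {b : M} (j : ℕ), d.σ x b = b → (d.σ x ^ j) b = b := fun {b} j hb => by
    induction j with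
    | zero => rfl
    | succ j ih => rw [pow_succ', MulAut.mul_apply, ih, hb]
  -- the order of `x`
  obtain ⟨m, hm⟩ := hT x
  have hex : ∃ j, d.σ x ^ 2 ^ j = 1 := ⟨m, by rw [← map_pow, hm, map_one]⟩
  set j := Nat.find hex
  have hj0 : j ≠ 0 := fun h => hx1 (by have := Nat.find_spec hex; rwa [show Nat.find hex = 0 from h, pow_zero, pow_one] at this)
  have hsucc : ∀ {i}, i + 1 = j → d.σ x ^ 2 ^ i * d.σ x ^ 2 ^ i = 1 := fun {i} hi => by
    rw [← pow_add, ← two_mul, ← pow_succ', hi]; exact Nat.find_spec hex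
  have htop : ∀ {i}, i + 1 = j → d.σ (x ^ 2 ^ i) = d.σ z := fun {i} hi => by
    refine d.same_involution (hinv z hz) (by rw [map_pow]; exact hsucc hi) (hcen _)
      (hsub z hz _ (by rw [map_pow]; exact Nat.find_min hex (by omega)) (hcen _)) fun a ha => ?_
    rw [map_pow]
    exact hpow2 _ (hsub2 a ha)
  have hj1 : j ≠ 1 := fun h => by
    have he := htop (i := 0) (by omega)
    rw [pow_zero, pow_one] at he
    refine h1 ?_
    rw [hzdef, map_commutatorElement, commutatorElement_eq_one_iff_mul_comm, he]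
    exact (hcen g).eq
  by_cases hj2 : j = 2
  · have he := htop (i := 1) (by omega)
    rw [pow_one, map_pow, pow_two] at he
    exact he.symm
  exfalso
  obtain ⟨i, hi⟩ : ∃ i, j = i + 3 := ⟨j - 3, by omega⟩
  have he := htop (i := i + 2) (by omega)
  set N := d.ψ x - 1
  set a := 2 ^ (i + 2) with ha
  have hψu : N ^ a = d.ψ z - 1 := by
    have h5 : d.σ (x ^ a * z⁻¹) = 1 := by rw [map_mul, map_inv, he, mul_inv_cancel]
    rw [ha, ψ_pow_sub, ← inv_mul_cancel_right (x ^ 2 ^ (i + 2)) z, map_mul, d.ψ_eq_one hT hs h5, one_mul]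
  have hL : rk N (a + 1) ≤ 0 := by
    refine (rk_eq_zero ?_).le
    rw [pow_succ, hψu, sub_mul, one_mul, hfix z hz x, sub_self]
  have hb := rk_bound N (a := a) (L := a + 1) (by omega) hL
  rw [Nat.add_sub_cancel_left, one_mul, Nat.mul_zero, add_zero,
    show rk N a = rk (d.ψ z - 1) 1 by rw [rk, rk, hψu, pow_one]] at hb
  have h4 : 4 ≤ a := by rw [ha, pow_add]; have := Nat.one_le_two_pow (n := i); omega
  have hinvz := d.rank_involution hs (t := z) (by rw [map_mul]; exact hinv z hz)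
    (d.ψ_eq_one hT hs (by rw [map_mul]; exact hinv z hz))
  have hcard : 3 * Nat.card (d.fix z) ≤ Nat.card M := by
    obtain ⟨k, hk⟩ := (d.fix z).card_subgroup_dvd_card
    have hodd : Odd k := (Nat.odd_mul.1 (hk ▸ Form.odd d.form)).2
    rcases (show k = 1 ∨ 3 ≤ k by obtain ⟨q, rfl⟩ := hodd; omega) with rfl | hk3
    · refine absurd ?_ h1
      have hF : d.fix z = ⊤ := Subgroup.eq_top_of_card_eq _ (by rw [hk, mul_one])
      exact MulEquiv.ext fun a => hF.ge (Subgroup.mem_top a)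
    · rw [hk, mul_comm 3]; exact Nat.mul_le_mul_left _ hk3
  rw [Nat.card_eq_fintype_card (α := M), ← finrank_sq d.card_ne_zero hs] at hcard
  set r := rk (d.ψ z - 1) 1
  set n := finrank K V
  have h5 : 5 * r ≤ n := le_trans (Nat.mul_le_mul_right r (by omega)) hb
  have hn : 0 < n := Module.finrank_pos
  obtain ⟨e, he'⟩ : ∃ e, n = 5 * r + e := ⟨n - 5 * r, by omega⟩
  rw [he', show 5 * r + e - r = 4 * r + e by omega] at hinvz
  rw [he'] at hcard hn
  nlinarith

set_option maxHeartbeats 800000 in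
/-- `Fail` for two. -/
theorem fail_two (hT : IsPGroup 2 T) (hs : d.Simple) (hinj : Function.Injective d.σ) (hF : d.Fail 2)
    {z : T} (hz : z ∈ ⁅(⊤ : Subgroup T), (⊤ : Subgroup T)⁆) (hzc : ∀ t, t * z = z * t)
    (hzinv : ∀ a, d.σ z a = a⁻¹) (hz1 : z ≠ 1) :
    3 ≤ finrank K V ∧ finrank K V ≤ 7 ∧ Odd (finrank K V) ∧ ∀ t : T, t ^ 4 = 1 := by
  classical
  haveI := Fintype.ofFinite M
  haveI : Finite (MulAut M) :=
    Finite.of_injective (fun g : MulAut M => (g : M → M)) DFunLike.coe_injective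
  haveI : Finite T := Finite.of_injective d.σ hinj
  obtain ⟨φ, hφ0, hφ⟩ := d.exists_fixed_covector hT
  have h2 := hF φ hφ0 hφ
  rw [chain_succ] at h2
  have hkill : ∀ t v, φ v = 0 → ((d.ψ z - 1) * (d.ψ t - 1)) v = 0 := fun t v hv => by
    have h := chain_one_eq_bot_iff.1 h2 z hz _
      (mem_mcomm (ψ := d.ψ) (Subgroup.mem_top t) (LinearMap.mem_ker.2 hv))
    simp [Module.End.mul_apply, h]
  have hψne : ∀ {t : T}, t ≠ 1 → d.ψ t ≠ 1 := fun {t} h h' =>
    h (hinj (by rw [map_one]; exact MulEquiv.ext (d.σ_apply_of_ψ h')))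
  have hrank := d.rank_inverting hs hzinv hT
  set r := rk (d.ψ z - 1) 1
  have hodd : Odd (finrank K V) := ⟨r, hrank.symm⟩
  have hr0 : r ≠ 0 := fun h => by
    rw [h] at hrank
    have h9 : Fintype.card M = 1 := by rw [← finrank_sq d.card_ne_zero hs, ← hrank]
    refine hz1 (hinj (MulEquiv.ext fun a => ?_))
    haveI := Fintype.card_le_one_iff_subsingleton.1 h9.le
    exact Subsingleton.elim _ _
  have hsqfree : ∀ t : T, t * t ≠ 1 → ∀ a, d.σ (t * t) a = a → a = 1 := fun t ht a ha => by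
    refine d.form.eq_one_of_fix_inv (τ := d.σ z) (d.eq_of_fix_image hT (hψne ht) ?_ ?_ ha) (hzinv a)
    · have hN : d.ψ (t * t) - 1 = (d.ψ t - 1) * (d.ψ t - 1) := by
        have := ψ_pow_sub d.ψ t 1
        rw [pow_one, pow_two, pow_two] at this
        exact this.symm
      rw [← sub_eq_zero]
      have : d.ψ z * (d.ψ (t * t) - 1) - (d.ψ (t * t) - 1) = (d.ψ z - 1) * (d.ψ (t * t) - 1) := by
        rw [sub_mul, one_mul]
      rw [this, hN]
      refine LinearMap.ext fun v => ?_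
      rw [← mul_assoc, Module.End.mul_apply]
      exact hkill t _ (LinearMap.mem_ker.1 (d.range_le_ker hφ t v))
    · show d.σ z * d.σ (t * t) = d.σ (t * t) * d.σ z
      rw [← map_mul, ← map_mul, hzc]
  have htop : ∀ t : T, t * t ≠ 1 → t * t * (t * t) = 1 → t * t = z := fun t ht ht4 =>
    hinj (MulEquiv.ext fun a => by
      rw [hzinv, inv_of_free_involution (by rw [← map_mul, ht4, map_one]) (hsqfree t ht)])
  -- no elements of order eight
  have h4 : ∀ t : T, t ^ 4 = 1 := by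
    intro t
    by_contra h4
    obtain ⟨m, hm⟩ := hT t
    have hex : ∃ j, t ^ 2 ^ j = 1 := ⟨m, hm⟩
    set j := Nat.find hex
    have hj : 3 ≤ j := by
      by_contra hlt
      refine h4 ?_
      have h5 : t ^ 2 ^ j = 1 := Nat.find_spec hex
      obtain ⟨c, hc⟩ : 2 ^ j ∣ 4 := by
        rw [show (4 : ℕ) = 2 ^ 2 from rfl]; exact pow_dvd_pow 2 (by omega)
      rw [hc, pow_mul, h5, one_pow]
    obtain ⟨i, hi⟩ : ∃ i, j = i + 3 := ⟨j - 3, by omega⟩
    set s := t ^ 2 ^ i with hs'
    have hs8 : ∀ k, s ^ 2 ^ k = t ^ 2 ^ (i + k) := fun k => by rw [hs', ← pow_mul, ← pow_add]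
    have hs2 : s * s ≠ 1 := fun h => by
      refine Nat.find_min hex (m := i + 1) (by omega) ?_
      rw [← hs8, pow_one, pow_two, h]
    have hs4 : s * s * (s * s) ≠ 1 := fun h => by
      refine Nat.find_min hex (m := i + 2) (by omega) ?_
      rw [← hs8, show (2 : ℕ) ^ 2 = 2 + 2 from rfl, pow_add, pow_two, h]
    have hu : s * s * (s * s) = z := htop (s * s) hs4 (by
      have h5 : t ^ 2 ^ j = 1 := Nat.find_spec hex
      rw [hi, ← hs8 3, show (2 : ℕ) ^ 3 = 2 + 2 + (2 + 2) from rfl, pow_add, pow_add, pow_two] at h5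
      exact h5)
    set N := d.ψ s - 1
    have hN4 : N ^ 4 = d.ψ z - 1 := by
      rw [show (4 : ℕ) = 2 ^ 2 from rfl, ψ_pow_sub, ← hu, show (2 : ℕ) ^ 2 = 2 + 2 from rfl, pow_add,
        pow_two]
    have hN6 : N ^ 6 = 0 := by
      refine LinearMap.ext fun v => ?_
      rw [show (6 : ℕ) = 4 + 1 + 1 from rfl, pow_succ, pow_succ, hN4, Module.End.mul_apply]
      exact hkill s _ (LinearMap.mem_ker.1 (d.range_le_ker hφ s v))
    obtain ⟨δ, -, hup, hdown⟩ := rk_chain N 4
    have e1 := hup 0 (Nat.zero_le _)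
    have e2 := hdown 2
    rw [rk_eq_zero hN6, zero_add] at e2
    rw [rk_zero] at e1
    have e3 : rk N 4 = r := by
      show rk N 4 = rk (d.ψ z - 1) 1
      rw [rk, rk, hN4, pow_one]
    omega
  refine ⟨by omega, ?_, hodd, h4⟩
  obtain ⟨g, hg⟩ : ∃ g : T, g * g ≠ 1 := by
    by_contra! hall
    refine hz1 (Subgroup.mem_bot.1 (?_ : z ∈ (⊥ : Subgroup T)))
    refine (Subgroup.commutator_le.2 fun a _ b _ => Subgroup.mem_bot.2 ?_) hz
    have hi : ∀ c : T, c⁻¹ = c := fun c => inv_eq_of_mul_eq_one_right (hall c)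
    rw [commutatorElement_eq_one_iff_mul_comm]
    have h := hi (a * b)
    rw [mul_inv_rev, hi, hi] at h
    exact h.symm
  have hgz : g * g = z := htop g hg (by rw [← pow_two, ← pow_two, ← pow_mul]; exact h4 g)
  set N := d.ψ g - 1
  have hN2 : N ^ 2 = d.ψ z - 1 := by
    have := ψ_pow_sub d.ψ g 1
    rw [pow_one, pow_two g, hgz] at this
    exact this
  have hN3 : rk N 3 ≤ 1 := by
    rw [rk, show (3 : ℕ) = 2 + 1 from rfl, pow_succ, hN2]
    exact finrank_range_le_one_of_ker hφ0 fun v hv => hkill g v (LinearMap.mem_ker.1 hv)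
  have hb := rk_bound N (a := 2) (L := 3) (by norm_num) hN3
  rw [show rk N 2 = r by show _ = rk (d.ψ z - 1) 1; rw [rk, rk, hN2, pow_one]] at hb
  omega

end Weil

end CfsgLib.FGS74.Dlen
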