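import Cfsg.Agent.FGS74.Bry.Pairing
import Cfsg.Agent.FGS74.Dlen.Chain
import Cfsg.Agent.FGS74.GrossLen.Lin
import Cfsg.Agent.HallHigman.IrreduciblePGroup
import Mathlib.LinearAlgebra.Dimension.Constructions
import Mathlib.FieldTheory.IsAlgClosed.Basic

/-!
# A projective representation of a symplectic group of odd order with a two-group of isometries

`Weil` bundles the operators of an abelian group `M` with a nondegenerate alternating pairing,
commuting up to that pairing, and a group `T` permuting them through isometries of `M`.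
-/

set_option autoImplicit false
set_option linter.style.haveILetI false

open Module

namespace CfsgLib.FGS74.Dlen

open CfsgLib.FGS74.Bry

universe u v w x

/-- The data. -/
structure Weil (K : Type u) [Field K] (V : Type v) [AddCommGroup V] [Module K V] (M : Type w)
    [CommGroup M] (T : Type x) [Group T] where
  B : M →* M →* Kˣ
  form : Form B
  ρ : M → Module.End K V
  ρ_one : ρ 1 = 1
  ρ_mul : ∀ a b, ∃ c : K, c ≠ 0 ∧ ρ (a * b) = c • (ρ a * ρ b)
  ρ_comm : ∀ a b, ρ a * ρ b = (B a b : K) • (ρ b * ρ a)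
  σ : T →* MulAut M
  ψ : T →* Module.End K V
  equiv : ∀ t a, ∃ c : K, c ≠ 0 ∧ ψ t * ρ a = c • (ρ (σ t a) * ψ t)
  iso : ∀ t, σ t ∈ isom B

namespace Weil

variable {K : Type u} [Field K] {V : Type v} [AddCommGroup V] [Module K V] {M : Type w}
  [CommGroup M] {T : Type x} [Group T] (d : Weil K V M T)

/-- Only scalars commute with all operators. -/
def Simple : Prop := ∀ A : Module.End K V, (∀ a, d.ρ a * A = A * d.ρ a) → ∃ r : K, A = r • 1

theorem exists_inv (a : M) : ∃ A : Module.End K V, d.ρ a * A = 1 ∧ A * d.ρ a = 1 := by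
  obtain ⟨c, -, hc⟩ := d.ρ_mul a a⁻¹
  rw [mul_inv_cancel, d.ρ_one] at hc
  obtain ⟨c', -, hc'⟩ := d.ρ_mul a⁻¹ a
  rw [inv_mul_cancel, d.ρ_one] at hc'
  have h2 : c' • d.ρ a⁻¹ = c • d.ρ a⁻¹ := by
    have e1 : (c' • d.ρ a⁻¹) * (d.ρ a * (c • d.ρ a⁻¹)) = c' • d.ρ a⁻¹ := by
      rw [mul_smul_comm, ← hc, mul_one]
    have e2 : (c' • d.ρ a⁻¹) * (d.ρ a * (c • d.ρ a⁻¹)) = c • d.ρ a⁻¹ := by
      rw [← mul_assoc, smul_mul_assoc, ← hc', one_mul]
    exact e1.symm.trans e2
  refine ⟨c • d.ρ a⁻¹, by rw [mul_smul_comm, ← hc], ?_⟩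
  rw [← h2, smul_mul_assoc, ← hc']

/-- The inverse of an operator. -/
noncomputable def ρi (a : M) : Module.End K V := (d.exists_inv a).choose

theorem ρ_mul_ρi (a : M) : d.ρ a * d.ρi a = 1 := (d.exists_inv a).choose_spec.1

theorem ρi_mul_ρ (a : M) : d.ρi a * d.ρ a = 1 := (d.exists_inv a).choose_spec.2

theorem ρ_ne_zero [Nontrivial V] (a : M) : d.ρ a ≠ 0 := fun h =>
  one_ne_zero (α := Module.End K V) (by rw [← d.ρ_mul_ρi a, h, zero_mul])

theorem ρ_apply_ne_zero (a : M) {v : V} (hv : v ≠ 0) : d.ρ a v ≠ 0 := fun h => hv (by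
  rw [show v = (d.ρi a * d.ρ a) v by rw [d.ρi_mul_ρ, Module.End.one_apply], Module.End.mul_apply, h,
    map_zero])

/-- Conjugation by an operator. -/
noncomputable def ad (a : M) : Module.End K (Module.End K V) :=
  LinearMap.mulRight K (d.ρi a) ∘ₗ LinearMap.mulLeft K (d.ρ a)

theorem ad_apply (a : M) (A : Module.End K V) : d.ad a A = d.ρ a * A * d.ρi a := rfl

theorem ad_ρ (a b : M) : d.ad a (d.ρ b) = (d.B a b : K) • d.ρ b := by
  rw [ad_apply, d.ρ_comm, smul_mul_assoc, mul_assoc, d.ρ_mul_ρi, mul_one]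

theorem ad_mul (a b : M) (A : Module.End K V) : d.ad (a * b) A = d.ad a (d.ad b A) := by
  obtain ⟨c, hc0, hc⟩ := d.ρ_mul a b
  have hinv : d.ρi (a * b) = c⁻¹ • (d.ρi b * d.ρi a) := by
    have h : d.ρ (a * b) * (c⁻¹ • (d.ρi b * d.ρi a)) = 1 := by
      rw [hc, smul_mul_smul_comm, mul_inv_cancel₀ hc0, one_smul, mul_assoc, ← mul_assoc (d.ρ b),
        d.ρ_mul_ρi, one_mul, d.ρ_mul_ρi]
    calc d.ρi (a * b) = d.ρi (a * b) * (d.ρ (a * b) * (c⁻¹ • (d.ρi b * d.ρi a))) := by rw [h, mul_one]
      _ = _ := by rw [← mul_assoc, d.ρi_mul_ρ, one_mul]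
  rw [ad_apply, ad_apply, ad_apply, hinv, hc, smul_mul_assoc, smul_mul_assoc, mul_smul_comm,
    smul_smul, mul_inv_cancel₀ hc0, one_smul]
  simp only [mul_assoc]

theorem ad_one (A : Module.End K V) : d.ad 1 A = A := by
  have h : d.ρi 1 = 1 := by
    have := d.ρ_mul_ρi 1
    rwa [d.ρ_one, one_mul] at this
  rw [ad_apply, d.ρ_one, h, one_mul, mul_one]

theorem commute_iff_ad (a : M) (A : Module.End K V) : d.ρ a * A = A * d.ρ a ↔ d.ad a A = A := by
  rw [ad_apply]
  constructor
  · intro h; rw [h, mul_assoc, d.ρ_mul_ρi, mul_one]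
  · intro h; nth_rw 2 [← h]; rw [mul_assoc, d.ρi_mul_ρ, mul_one]

section Decomp

variable [Fintype M] (hN : (Fintype.card M : K) ≠ 0)

/-- The projection on the operators behaving like `ρ a`. -/
noncomputable def proj (a : M) : Module.End K (Module.End K V) :=
  (Fintype.card M : K)⁻¹ • ∑ k : M, ((d.B k a : Kˣ) : K)⁻¹ • d.ad k

theorem proj_apply (a : M) (A : Module.End K V) :
    d.proj a A = (Fintype.card M : K)⁻¹ • ∑ k : M, ((d.B k a : Kˣ) : K)⁻¹ • d.ad k A := by
  simp [proj, LinearMap.sum_apply]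

theorem ad_proj (a b : M) (A : Module.End K V) :
    d.ad b (d.proj a A) = (d.B b a : K) • d.proj a A := by
  rw [proj_apply, map_smul, map_sum, smul_comm ((d.B b a : Kˣ) : K)]
  congr 1
  rw [Finset.smul_sum]
  refine Fintype.sum_equiv (Equiv.mulLeft b) _ _ fun k => ?_
  rw [Equiv.coe_mulLeft, map_smul, ← d.ad_mul, smul_smul, map_mul, MonoidHom.mul_apply,
    Units.val_mul, mul_inv, ← mul_assoc, mul_inv_cancel₀ (d.B b a).ne_zero, one_mul]

include hN in
theorem sum_proj (A : Module.End K V) : ∑ a, d.proj a A = A := by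
  classical
  have hchar : ∀ k : M, ∑ a : M, ((d.B k a : Kˣ) : K)⁻¹ = if k = 1 then (Fintype.card M : K) else 0 := by
    intro k
    let χ : M →* K :=
      { toFun := fun a => ((d.B k a : Kˣ) : K)⁻¹
        map_one' := by simp
        map_mul' := fun p q => by rw [map_mul, Units.val_mul, mul_inv] }
    split_ifs with h
    · subst h
      simp [map_one]
    · refine sum_hom_units_eq_zero χ fun hχ => h (d.form.nd k fun a => d.form.eq_one_swap ?_)
      refine Units.ext ?_
      have : ((d.B k a : Kˣ) : K)⁻¹ = 1 := DFunLike.congr_fun hχ a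
      rw [Units.val_one, inv_eq_one.1 this]
  simp only [proj_apply]
  rw [← Finset.smul_sum, Finset.sum_comm]
  simp only [← Finset.sum_smul, hchar, ite_smul, zero_smul]
  rw [Finset.sum_ite_eq' Finset.univ (1 : M), if_pos (Finset.mem_univ _), d.ad_one, inv_smul_smul₀ hN]

variable {d}

theorem proj_eq_smul (hs : d.Simple) (a : M) (A : Module.End K V) :
    ∃ r : K, d.proj a A = r • d.ρ a := by
  have hfix : ∀ k, d.ad k (d.ρi a * d.proj a A) = d.ρi a * d.proj a A := fun k => by
    have h1 : d.ad k (d.ρ a * (d.ρi a * d.proj a A)) =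
        d.ad k (d.ρ a) * d.ad k (d.ρi a * d.proj a A) := by
      rw [ad_apply, ad_apply, ad_apply]
      simp only [mul_assoc]
      rw [← mul_assoc (d.ρi k) (d.ρ k), d.ρi_mul_ρ, one_mul]
    rw [← mul_assoc, d.ρ_mul_ρi, one_mul, d.ad_proj, d.ad_ρ, smul_mul_assoc] at h1
    have h2 := smul_right_injective (Module.End K V) (d.B k a).ne_zero h1
    calc d.ad k (d.ρi a * d.proj a A) = d.ρi a * (d.ρ a * d.ad k (d.ρi a * d.proj a A)) := by
          rw [← mul_assoc, d.ρi_mul_ρ, one_mul]
      _ = _ := by rw [← h2]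
  obtain ⟨r, hr⟩ := hs (d.ρi a * d.proj a A) fun k => (d.commute_iff_ad k _).2 (hfix k)
  refine ⟨r, ?_⟩
  calc d.proj a A = d.ρ a * (d.ρi a * d.proj a A) := by rw [← mul_assoc, d.ρ_mul_ρi, one_mul]
    _ = _ := by rw [hr, mul_smul_comm, mul_one]

include hN

/-- The operators span. -/
theorem span_eq_top (hs : d.Simple) : Submodule.span K (Set.range d.ρ) = ⊤ := by
  refine eq_top_iff.2 fun A _ => ?_
  rw [← d.sum_proj hN A]
  refine Submodule.sum_mem _ fun a _ => ?_
  obtain ⟨r, hr⟩ := proj_eq_smul hs a A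
  rw [hr]
  exact Submodule.smul_mem _ _ (Submodule.subset_span ⟨a, rfl⟩)

omit hN in
theorem linearIndependent [Nontrivial V] : LinearIndependent K d.ρ := by
  classical
  refine Fintype.linearIndependent_iff.2 fun g hg a => ?_
  have key : ∀ (s : Finset M) (f : M → K), ∑ i ∈ s, f i • d.ρ i = 0 → ∀ i ∈ s, f i = 0 := by
    intro s
    induction s using Finset.induction with
    | empty => intro f _ i hi; exact absurd hi (Finset.notMem_empty i)
    | insert p s hp ih =>
      intro f hf
      rw [Finset.sum_insert hp] at hf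
      have hs0 : ∀ i ∈ s, f i = 0 := by
        intro i hi
        obtain ⟨b, hb⟩ : ∃ b, d.B b i ≠ d.B b p := by
          by_contra! hall
          refine (ne_of_mem_of_not_mem hi hp) (mul_inv_eq_one.1 (d.form.nd _ fun b => ?_))
          rw [map_mul, map_inv, hall, mul_inv_cancel]
        have h1 := congrArg (fun A => d.ad b A) hf
        simp only [map_add, map_smul, map_sum, map_zero, d.ad_ρ, smul_smul] at h1
        have h2 := congrArg (fun A => ((d.B b p : Kˣ) : K) • A) hf
        simp only [smul_add, Finset.smul_sum, smul_smul, smul_zero] at h2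
        rw [mul_comm (f p)] at h1
        have h12 := add_left_cancel (h1.trans h2.symm)
        have h3 : ∑ j ∈ s, (f j * ((d.B b j : Kˣ) : K) - ((d.B b p : Kˣ) : K) * f j) • d.ρ j = 0 := by
          simp only [sub_smul, Finset.sum_sub_distrib, h12, sub_self]
        have h4 := ih _ h3 i hi
        rw [mul_comm, ← sub_mul, mul_eq_zero, sub_eq_zero] at h4
        rcases h4 with h4 | h4
        · exact absurd (Units.ext h4) hb
        · exact h4
      intro i hi
      rcases Finset.mem_insert.1 hi with rfl | hi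
      · rw [Finset.sum_eq_zero (fun j hj => by rw [hs0 j hj, zero_smul]), add_zero,
          smul_eq_zero] at hf
        exact hf.resolve_right (d.ρ_ne_zero i)
      · exact hs0 i hi
  exact key Finset.univ g hg a (Finset.mem_univ a)

theorem finrank_sq [Nontrivial V] [FiniteDimensional K V] (hs : d.Simple) :
    finrank K V * finrank K V = Fintype.card M := by
  rw [← Module.finrank_linearMap K K V V, ← finrank_top K (Module.End K V),
    ← span_eq_top hN hs]
  exact finrank_span_eq_card linearIndependent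

end Decomp

end Weil

end CfsgLib.FGS74.Dlen
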